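import Mathlib
import Groth.Prelude.Def_CycAlg

/-!
# Embedding a finite extension with torsion cokernel into the total ring of fractions
-/

set_option autoImplicit false
universe u

namespace Groth.Agent.Lib.Helper18.Tame

open IsLocalRing

section

variable {A : Type u} [CommRing A] [IsLocalRing A] {B : Type u} [CommRing B] [Algebra A B]
  {Q : Type u} [CommRing Q] [Algebra A Q] [IsFractionRing A Q]

/-- The embedding of a finite extension `B` of `A` with `𝔪`-power torsion cokernel, on which
some `a ∈ 𝔪` is regular, into the total ring of fractions of `A`. -/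
theorem exists_embedding (hB : CycAlg.IsFinExt A B (maximalIdeal A)) (a : A)
    (ham : a ∈ maximalIdeal A) (haA : a ∈ nonZeroDivisors A)
    (haB : algebraMap A B a ∈ nonZeroDivisors B) :
    ∃ ι : B →ₐ[A] Q, Function.Injective ι := by
  obtain ⟨hinj, -, n, hn⟩ := hB
  have hρ : ∀ b : B, ∃ r : A, algebraMap A B r = algebraMap A B (a ^ n) * b := by
    intro b
    obtain ⟨r, hr⟩ := hn (a ^ n) (Ideal.pow_mem_pow ham n) b
    exact ⟨r, by rw [hr, Algebra.smul_def]⟩
  choose ρ hρ' using hρ
  have hun : IsUnit (algebraMap A Q (a ^ n)) :=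
    IsLocalization.map_units Q (⟨a ^ n, pow_mem haA n⟩ : nonZeroDivisors A)
  set v : Q := ((hun.unit⁻¹ : Qˣ) : Q) with hv
  have hv1 : algebraMap A Q (a ^ n) * v = 1 := IsUnit.mul_val_inv hun
  have hρadd : ∀ b b', ρ (b + b') = ρ b + ρ b' := by
    intro b b'
    apply hinj
    rw [map_add, hρ', hρ', hρ', mul_add]
  have hρmul : ∀ b b', ρ (b * b') * a ^ n = ρ b * ρ b' := by
    intro b b'
    apply hinj
    rw [map_mul, map_mul, hρ', hρ', hρ']
    ring
  have hρone : ρ 1 = a ^ n := by
    apply hinj
    rw [hρ', mul_one]
  have hρalg : ∀ r : A, ρ (algebraMap A B r) = a ^ n * r := by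
    intro r
    apply hinj
    rw [hρ', map_mul]
  let ι : B →ₐ[A] Q :=
    { toFun := fun b => algebraMap A Q (ρ b) * v
      map_one' := by
        show algebraMap A Q (ρ 1) * v = 1
        rw [hρone, hv1]
      map_mul' := by
        intro b b'
        show algebraMap A Q (ρ (b * b')) * v = algebraMap A Q (ρ b) * v * (algebraMap A Q (ρ b') * v)
        have h1 : algebraMap A Q (ρ (b * b')) * algebraMap A Q (a ^ n) =
            algebraMap A Q (ρ b) * algebraMap A Q (ρ b') := by
          rw [← map_mul, hρmul, map_mul]
        calc algebraMap A Q (ρ (b * b')) * v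
            = algebraMap A Q (ρ (b * b')) * (algebraMap A Q (a ^ n) * v) * v := by
              rw [hv1, mul_one]
          _ = (algebraMap A Q (ρ (b * b')) * algebraMap A Q (a ^ n)) * v * v := by ring
          _ = algebraMap A Q (ρ b) * v * (algebraMap A Q (ρ b') * v) := by rw [h1]; ring
      map_zero' := by
        show algebraMap A Q (ρ 0) * v = 0
        have : ρ 0 = 0 := by
          apply hinj
          rw [hρ', mul_zero, map_zero]
        rw [this, map_zero, zero_mul]
      map_add' := by
        intro b b'
        show algebraMap A Q (ρ (b + b')) * v = algebraMap A Q (ρ b) * v + algebraMap A Q (ρ b') * v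
        rw [hρadd, map_add, add_mul]
      commutes' := by
        intro r
        show algebraMap A Q (ρ (algebraMap A B r)) * v = algebraMap A Q r
        rw [hρalg, map_mul, mul_comm (algebraMap A Q (a ^ n)), mul_assoc, hv1, mul_one] }
  refine ⟨ι, ?_⟩
  rw [injective_iff_map_eq_zero]
  intro b hb
  have h1 : algebraMap A Q (ρ b) * v = 0 := hb
  have h2 : algebraMap A Q (ρ b) = 0 := by
    have : algebraMap A Q (ρ b) * v * algebraMap A Q (a ^ n) = 0 := by rw [h1, zero_mul]
    rwa [mul_assoc, mul_comm v, hv1, mul_one] at this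
  have h3 : ρ b = 0 := IsFractionRing.injective A Q (by rw [h2, map_zero])
  have h4 : algebraMap A B (a ^ n) * b = 0 := by rw [← hρ', h3, map_zero]
  have h5 : algebraMap A B (a ^ n) ∈ nonZeroDivisors B := by
    rw [map_pow]
    exact pow_mem haB n
  exact (mem_nonZeroDivisors_iff.1 h5).1 b h4

end

end Groth.Agent.Lib.Helper18.Tame
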