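import Mathlib
import Groth.Agent.Lib.Helper2.RelLength
import Groth.Agent.Lib.Helper2.ChiLocal2

/-!
# A homogeneous relation with a unit coefficient between two nonzerodivisors of a
one-dimensional Noetherian local ring
-/

set_option autoImplicit false
universe u

namespace Groth.Agent.Lib.Helper18.Tame

open Groth.Agent.Lib.Helper2.RelLength

section Len

variable {R : Type u} [CommRing R]

/-- `ℓ(J/bJ) = ℓ(R/bR)` for a nonzerodivisor `b` and an ideal `J` of finite colength. -/
theorem rl_map_mul_eq (b : R) (hb : b ∈ nonZeroDivisors R) (J : Ideal R)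
    (hJ : Module.length R (R ⧸ J) ≠ ⊤) :
    rl (Submodule.map (LinearMap.mulLeft R b) J) J =
      rl (Submodule.map (LinearMap.mulLeft R b) (⊤ : Ideal R)) ⊤ := by
  set f : R →ₗ[R] R := LinearMap.mulLeft R b with hf
  have hinj : Function.Injective f := by
    intro x y hxy
    have : b * (x - y) = 0 := by
      simpa [hf, mul_sub, sub_eq_zero] using hxy
    have := (mem_nonZeroDivisors_iff.1 hb).1 _ this
    exact sub_eq_zero.1 this
  have hle1 : Submodule.map f J ≤ J := by
    rintro _ ⟨j, hj, rfl⟩
    exact J.mul_mem_left b hj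
  have hle2 : Submodule.map f J ≤ Submodule.map f (⊤ : Ideal R) := Submodule.map_mono le_top
  have h1 : rl (Submodule.map f J) ⊤ = rl (Submodule.map f J) J + rl J ⊤ := rl_add hle1 le_top
  have h2 : rl (Submodule.map f J) ⊤ = rl (Submodule.map f J) (Submodule.map f (⊤ : Ideal R)) + rl (Submodule.map f (⊤ : Ideal R)) ⊤ :=
    rl_add hle2 le_top
  have h3 : rl (Submodule.map f J) (Submodule.map f (⊤ : Ideal R)) = rl J ⊤ := by
    have := rl_iso f (Submodule.map f J) (⊤ : Submodule R R)
    rw [Submodule.comap_map_eq_of_injective hinj, sup_of_le_right hle2] at this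
    exact this.symm
  rw [h3] at h2
  rw [h2] at h1
  have hfin : rl J (⊤ : Submodule R R) ≠ ⊤ := by rwa [rl_top_eq]
  rw [add_comm (rl (Submodule.map f J) J)] at h1
  exact ((ENat.add_right_injective_of_ne_top hfin) h1).symm

/-- Pigeonhole for chains of submodules. -/
theorem exists_le_of_rl_le {M : Type*} [AddCommGroup M] [Module R M] (K : ℕ → Submodule R M)
    (hK : Monotone K) (n : ℕ) (h : rl (K 0) (K (n + 1)) ≤ (n : ℕ∞)) :
    ∃ k ≤ n, K (k + 1) ≤ K k := by
  by_contra hcon
  push_neg at hcon
  have key : ∀ m ≤ n + 1, (m : ℕ∞) ≤ rl (K 0) (K m) := by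
    intro m
    induction m with
    | zero => intro _; simp
    | succ m ih =>
      intro hm
      have h0 := ih (by omega)
      rw [rl_add (hK (Nat.zero_le m)) (hK (Nat.le_succ m))]
      have h1 : (1 : ℕ∞) ≤ rl (K m) (K (m + 1)) := by
        rw [ENat.one_le_iff_ne_zero]
        intro h0'
        exact hcon m (by omega) (le_of_rl_eq_zero h0')
      push_cast
      exact add_le_add h0 h1
  have := (key (n + 1) le_rfl).trans h
  have h2 : ((n + 1 : ℕ) : ℕ∞) ≤ (n : ℕ∞) := this
  rw [Nat.cast_le] at h2
  omega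

theorem length_quot_ne_top_of_mem [IsNoetherianRing R] [IsLocalRing R] (hR : ringKrullDim R ≤ 1)
    (K : Ideal R) (t : R) (ht : t ∈ nonZeroDivisors R) (htK : t ∈ K) :
    Module.length R (R ⧸ K) ≠ ⊤ := by
  have h1 := Groth.Agent.Lib.Helper2.ChiLocal2.a_ne_top_of_pow_le t
    (Groth.Agent.Lib.Helper2.ChiLocal2.exists_pow_le_of_dim_one t hR ht) R
  unfold Groth.Agent.Lib.Helper2.Snake.a at h1
  have hle : Ideal.span {t} • (⊤ : Submodule R R) ≤ K := by
    rw [Submodule.smul_le]
    intro r hr n _
    have : r ∈ K := (Ideal.span_singleton_le_iff_mem K).2 htK hr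
    exact K.mul_mem_right n this
  exact ne_top_of_le_ne_top h1
    (Module.length_le_of_surjective (Submodule.factor hle) (Submodule.factor_surjective hle))

end Len

section Rel

variable {R : Type u} [CommRing R] [IsNoetherianRing R] [IsLocalRing R]

/-- A homogeneous relation with a unit coefficient. -/
theorem exists_unit_relation (hR : ringKrullDim R ≤ 1) (a b : R)
    (hb : b ∈ nonZeroDivisors R) (hbm : b ∈ IsLocalRing.maximalIdeal R) :
    ∃ (n : ℕ) (c : ℕ → R) (j : ℕ), j ≤ n ∧ IsUnit (c j) ∧
      ∑ i ∈ Finset.range (n + 1), c i * (a ^ i * b ^ (n - i)) = 0 := by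
  set f : R →ₗ[R] R := LinearMap.mulLeft R b with hf
  have hfin : Module.length R (R ⧸ (Submodule.map f (⊤ : Ideal R))) ≠ ⊤ := by
    apply length_quot_ne_top_of_mem hR _ b hb
    exact ⟨1, trivial, by simp [hf]⟩
  obtain ⟨n, hn⟩ := ENat.ne_top_iff_exists.1 hfin
  set g : ℕ → R := fun i => a ^ i * b ^ (n - i) with hg
  set J : Ideal R := Submodule.span R (g '' ↑(Finset.range (n + 1))) with hJ
  have hbJ : b ^ n ∈ J := by
    apply Submodule.subset_span
    exact ⟨0, by simp, by simp [hg]⟩
  have hJfin : Module.length R (R ⧸ J) ≠ ⊤ :=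
    length_quot_ne_top_of_mem hR J (b ^ n) (pow_mem hb n) hbJ
  have hlen : rl (Submodule.map f J) J = (n : ℕ∞) := by
    rw [rl_map_mul_eq b hb J hJfin, rl_top_eq, ← hn]
  let K : ℕ → Submodule R R := fun k =>
    Submodule.map f J ⊔ Submodule.span R (g '' ↑(Finset.range k))
  have hKmono : Monotone K := by
    intro k k' hkk'
    apply sup_le_sup_left
    apply Submodule.span_mono
    apply Set.image_mono
    intro i hi
    simp only [Finset.coe_range, Set.mem_Iio] at hi ⊢
    omega
  have hle1 : Submodule.map f J ≤ J := by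
    rintro _ ⟨j, hj, rfl⟩
    exact J.mul_mem_left b hj
  have hK0 : K 0 = Submodule.map f J := by simp [K]
  have hKn : K (n + 1) = J := by
    show Submodule.map f J ⊔ J = J
    exact sup_of_le_right hle1
  obtain ⟨k, hkn, hk⟩ := exists_le_of_rl_le K hKmono n (by rw [hK0, hKn, hlen])
  have hgk : g k ∈ K k := by
    apply hk
    apply Submodule.mem_sup_right
    apply Submodule.subset_span
    exact ⟨k, by simp, rfl⟩
  obtain ⟨y', hy', z, hz, hyz⟩ := Submodule.mem_sup.1 hgk
  obtain ⟨y, hy, rfl⟩ := hy'
  replace hy : y ∈ Submodule.span R (g '' ↑(Finset.range (n + 1))) := hy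
  rw [Finsupp.mem_span_image_iff_linearCombination] at hy
  obtain ⟨ly, hly, rfl⟩ := hy
  rw [Finsupp.mem_span_image_iff_linearCombination] at hz
  obtain ⟨lz, hlz, rfl⟩ := hz
  rw [Finsupp.mem_supported] at hly hlz
  have hlz' : lz.support ⊆ Finset.range (n + 1) := by
    intro i hi
    have := hlz hi
    simp only [Finset.coe_range, Set.mem_Iio, Finset.mem_range] at this ⊢
    omega
  have hlzk : lz k = 0 := by
    by_contra h
    have := hlz (Finsupp.mem_support_iff.2 h)
    simp at this
  have e1 : Finsupp.linearCombination R g ly = ∑ i ∈ Finset.range (n + 1), ly i * g i := by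
    rw [Finsupp.linearCombination_apply]
    exact Finsupp.sum_of_support_subset ly (by exact_mod_cast hly) (fun i r => r • g i) (by simp)
  have e2 : Finsupp.linearCombination R g lz = ∑ i ∈ Finset.range (n + 1), lz i * g i := by
    rw [Finsupp.linearCombination_apply]
    exact Finsupp.sum_of_support_subset lz hlz' (fun i r => r • g i) (by simp)
  have e3 : g k = ∑ i ∈ Finset.range (n + 1), (if i = k then (1 : R) else 0) * g i := by
    simp only [ite_mul, one_mul, zero_mul]
    rw [Finset.sum_ite_eq' (Finset.range (n + 1)) k g]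
    simp [Nat.lt_succ_of_le hkn]
  refine ⟨n, fun i => lz i + b * ly i - (if i = k then (1 : R) else 0), k, hkn, ?_, ?_⟩
  · simp only [hlzk, zero_add, if_true]
    have hm : b * ly k ∈ IsLocalRing.maximalIdeal R := Ideal.mul_mem_right _ _ hbm
    have : IsUnit (1 - b * ly k) := IsLocalRing.isUnit_one_sub_self_of_mem_nonunits _ hm
    have h2 : b * ly k - 1 = -(1 - b * ly k) := by ring
    rw [h2]
    exact this.neg
  · have : ∀ i, (lz i + b * ly i - (if i = k then (1 : R) else 0)) * (a ^ i * b ^ (n - i))
        = lz i * g i + b * (ly i * g i) - (if i = k then (1 : R) else 0) * g i := by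
      intro i
      simp only [hg]
      ring
    simp only [this]
    rw [Finset.sum_sub_distrib, Finset.sum_add_distrib, ← Finset.mul_sum, ← e1, ← e2, ← e3]
    have : f (Finsupp.linearCombination R g ly) = b * Finsupp.linearCombination R g ly := by
      simp [hf]
    rw [← this, add_comm, hyz, sub_self]

end Rel

end Groth.Agent.Lib.Helper18.Tame
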