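import Mathlib
import Groth.Agent.Lib.Helper2.RelLength
import Groth.Agent.Lib.Helper2.ChiLocal2
import Groth.Agent.Lib.Helper18.Tame.UnitRel
import Groth.Prelude.Def_CycAlg

/-!
# Finite subalgebras of the total ring of fractions of a one-dimensional Noetherian local ring
-/

set_option autoImplicit false
universe u

namespace Groth.Agent.Lib.Helper18.Tame

open Groth.Agent.Lib.Helper2.RelLength

section General

variable {A : Type*} [CommRing A] {M : Type*} [AddCommGroup M] [Module A M]

/-- `ℓ(J/fJ) = ℓ(L/fL)` for an injective endomorphism `f` and `J ⊆ L` of finite colength. -/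
theorem rl_map_eq_of_le (f : M →ₗ[A] M) (hinj : Function.Injective f) (J L : Submodule A M)
    (hJL : J ≤ L) (hfL : Submodule.map f L ≤ L) (hfJ : Submodule.map f J ≤ J)
    (hfin : rl J L ≠ ⊤) :
    rl (Submodule.map f J) J = rl (Submodule.map f L) L := by
  have hle2 : Submodule.map f J ≤ Submodule.map f L := Submodule.map_mono hJL
  have h1 : rl (Submodule.map f J) L = rl (Submodule.map f J) J + rl J L := rl_add hfJ hJL
  have h2 : rl (Submodule.map f J) L =
      rl (Submodule.map f J) (Submodule.map f L) + rl (Submodule.map f L) L := rl_add hle2 hfL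
  have h3 : rl (Submodule.map f J) (Submodule.map f L) = rl J L := by
    have := rl_iso f (Submodule.map f J) L
    rw [Submodule.comap_map_eq_of_injective hinj, sup_of_le_right hle2] at this
    exact this.symm
  rw [h3] at h2
  rw [h2] at h1
  rw [add_comm (rl (Submodule.map f J) J)] at h1
  exact ((ENat.add_right_injective_of_ne_top hfin) h1).symm

/-- `ℓ(L/fgL) = ℓ(L/fL) + ℓ(L/gL)` for `f` injective. -/
theorem rl_map_comp (f g : M →ₗ[A] M) (hinj : Function.Injective f) (L : Submodule A M)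
    (hfL : Submodule.map f L ≤ L) (hgL : Submodule.map g L ≤ L) :
    rl (Submodule.map (f ∘ₗ g) L) L = rl (Submodule.map f L) L + rl (Submodule.map g L) L := by
  have hle : Submodule.map (f ∘ₗ g) L ≤ Submodule.map f L := by
    rw [Submodule.map_comp]
    exact Submodule.map_mono hgL
  rw [rl_add hle hfL, add_comm]
  congr 1
  have := rl_iso f (Submodule.map (f ∘ₗ g) L) L
  rw [Submodule.map_comp, Submodule.comap_map_eq_of_injective hinj, ← Submodule.map_comp,
    sup_of_le_right hle] at this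
  exact this.symm

end General

section Sub

variable {A : Type u} [CommRing A] {Q : Type u} [CommRing Q] [Algebra A Q]

/-- multiplication by `s` on `A`-submodules of `Q` -/
noncomputable abbrev sm (s : Q) (L : Submodule A Q) : Submodule A Q :=
  Submodule.map (LinearMap.mulLeft A s) L

theorem mem_sm {s : Q} {L : Submodule A Q} {y : Q} : y ∈ sm s L ↔ ∃ z ∈ L, s * z = y := by
  simp [sm, Submodule.mem_map]

theorem mulLeft_injective {s : Q} (hs : IsUnit s) :
    Function.Injective (LinearMap.mulLeft A s) := by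
  intro x y h
  exact hs.mul_left_cancel (by simpa using h)

theorem sm_mul (s s' : Q) (L : Submodule A Q) : sm (s * s') L = sm s (sm s' L) := by
  ext y
  simp only [mem_sm]
  constructor
  · rintro ⟨z, hz, rfl⟩
    exact ⟨s' * z, ⟨z, hz, rfl⟩, by ring⟩
  · rintro ⟨_, ⟨z, hz, rfl⟩, rfl⟩
    exact ⟨z, hz, by ring⟩

theorem sm_mono (s : Q) {L L' : Submodule A Q} (h : L ≤ L') : sm s L ≤ sm s L' :=
  Submodule.map_mono h

/-- The order of `s` with respect to the subalgebra `C`: the length of `C/sC` over `A`. -/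
noncomputable def ordC (C : Subalgebra A Q) (s : Q) : ℕ∞ :=
  rl (sm s (Subalgebra.toSubmodule C)) (Subalgebra.toSubmodule C)

theorem sm_le (C : Subalgebra A Q) {s : Q} (hs : s ∈ C) :
    sm s (Subalgebra.toSubmodule C) ≤ Subalgebra.toSubmodule C := by
  intro y hy
  obtain ⟨z, hz, rfl⟩ := mem_sm.1 hy
  exact C.mul_mem hs hz

theorem ordC_mul (C : Subalgebra A Q) {s s' : Q} (hs : s ∈ C) (hs' : s' ∈ C) (hu : IsUnit s) :
    ordC C (s * s') = ordC C s + ordC C s' := by
  unfold ordC
  have := rl_map_comp (LinearMap.mulLeft A s) (LinearMap.mulLeft A s') (mulLeft_injective hu)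
    (Subalgebra.toSubmodule C) (sm_le C hs) (sm_le C hs')
  rw [← this]
  congr 1
  rw [sm_mul]
  simp only [sm, Submodule.map_comp]

theorem ordC_eq_zero_iff (C : Subalgebra A Q) {s : Q} (hs : s ∈ C) :
    ordC C s = 0 ↔ ∃ z ∈ C, s * z = 1 := by
  unfold ordC
  constructor
  · intro h
    have := le_of_rl_eq_zero h (show (1 : Q) ∈ Subalgebra.toSubmodule C from C.one_mem)
    obtain ⟨z, hz, hz'⟩ := mem_sm.1 this
    exact ⟨z, hz, hz'⟩
  · rintro ⟨z, hz, hsz⟩
    apply rl_eq_zero_of_le
    intro y hy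
    refine mem_sm.2 ⟨z * y, C.mul_mem hz hy, ?_⟩
    rw [← mul_assoc, hsz, one_mul]

theorem ordC_eq_of_le (C C' : Subalgebra A Q) (h : C ≤ C')
    (hfin : rl (Subalgebra.toSubmodule C) (Subalgebra.toSubmodule C') ≠ ⊤) {s : Q} (hs : s ∈ C)
    (hu : IsUnit s) : ordC C' s = ordC C s := by
  unfold ordC
  exact (rl_map_eq_of_le (LinearMap.mulLeft A s) (mulLeft_injective hu)
    (Subalgebra.toSubmodule C) (Subalgebra.toSubmodule C') h (sm_le C' (h hs)) (sm_le C hs)
    hfin).symm

end Sub

section Loc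

variable {A : Type u} [CommRing A] [IsNoetherianRing A] [IsLocalRing A]
  {Q : Type u} [CommRing Q] [Algebra A Q]

/-- A finitely generated lattice containing a sublattice up to a power of the maximal ideal has
finite relative length. -/
theorem rl_ne_top_of_pow_smul_le (L L' : Submodule A Q) (hL' : L'.FG) (N : ℕ)
    (h : ∀ r ∈ IsLocalRing.maximalIdeal A ^ N, ∀ z ∈ L', r • z ∈ L) : rl L L' ≠ ⊤ := by
  unfold rl
  haveI : Module.Finite A L' := Module.Finite.iff_fg.2 hL'
  have h2 := Groth.Agent.Lib.Helper2.HilbSamuel.isFiniteLength_quot_jacobson_pow (A := A)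
    (M := L') N
  rw [Groth.Agent.Lib.Helper2.SamuelI.jacobson_eq_maximalIdeal, ← Module.length_ne_top_iff] at h2
  have hle : (IsLocalRing.maximalIdeal A ^ N • (⊤ : Submodule A L')) ≤ L.submoduleOf L' := by
    rw [Submodule.smul_le]
    intro r hr n _
    exact h r hr n.1 n.2
  exact ne_top_of_le_ne_top h2
    (Module.length_le_of_surjective (Submodule.factor hle) (Submodule.factor_surjective hle))

variable [IsFractionRing A Q]

theorem exists_den (C : Subalgebra A Q) [Module.Finite A C] :
    ∃ d ∈ nonZeroDivisors A, ∀ z ∈ C, ∃ p : A, algebraMap A Q d * z = algebraMap A Q p := by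
  have hfg : (Subalgebra.toSubmodule C).FG := Module.Finite.iff_fg.1 inferInstance
  obtain ⟨d, hd, h⟩ := FractionalIdeal.isFractional_of_fg (S := nonZeroDivisors A) hfg
  refine ⟨d, hd, fun z hz => ?_⟩
  obtain ⟨p, hp⟩ := h z hz
  exact ⟨p, by rw [hp, Algebra.smul_def]⟩

variable (hA : ringKrullDim A ≤ 1)

include hA in
theorem exists_pow_le_sm (C : Subalgebra A Q) {s : Q} (hu : IsUnit s) :
    ∃ N : ℕ, ∀ r ∈ IsLocalRing.maximalIdeal A ^ N, ∀ z ∈ C,
      r • z ∈ sm s (Subalgebra.toSubmodule C) := by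
  obtain ⟨⟨p, d⟩, hpd⟩ := IsLocalization.surj (nonZeroDivisors A) ((hu.unit⁻¹ : Qˣ) : Q)
  have hd : algebraMap A Q d = s * algebraMap A Q p := by
    have : s * (((hu.unit⁻¹ : Qˣ) : Q) * algebraMap A Q d) = s * algebraMap A Q p := by
      rw [hpd]
    rw [← mul_assoc] at this
    have h1 : s * ((hu.unit⁻¹ : Qˣ) : Q) = 1 := by
      have := hu.unit.mul_inv
      simpa using this
    rwa [h1, one_mul] at this
  obtain ⟨N, hN⟩ := Groth.Agent.Lib.Helper2.ChiLocal2.exists_pow_le_of_dim_one (d : A) hA d.2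
  refine ⟨N, fun r hr z hz => ?_⟩
  obtain ⟨r', hr'⟩ := Ideal.mem_span_singleton'.1 (hN hr)
  refine mem_sm.2 ⟨algebraMap A Q p * (algebraMap A Q r' * z), ?_, ?_⟩
  · exact C.mul_mem (C.algebraMap_mem _) (C.mul_mem (C.algebraMap_mem _) hz)
  · rw [← mul_assoc, ← hd, Algebra.smul_def, ← hr', map_mul]
    ring

include hA in
theorem ordC_ne_top (C : Subalgebra A Q) [Module.Finite A C] {s : Q} (hu : IsUnit s) :
    ordC C s ≠ ⊤ := by
  obtain ⟨N, hN⟩ := exists_pow_le_sm hA C hu
  exact rl_ne_top_of_pow_smul_le _ _ (Module.Finite.iff_fg.1 inferInstance) N hN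

include hA in
/-- A finite subalgebra of the total ring of fractions is a finite extension in the sense of
`CycAlg.IsFinExt`. -/
theorem isFinExt (C : Subalgebra A Q) [Module.Finite A C] :
    CycAlg.IsFinExt A C (IsLocalRing.maximalIdeal A) := by
  refine ⟨?_, inferInstance, ?_⟩
  · intro x y hxy
    have : algebraMap A Q x = algebraMap A Q y := congrArg Subtype.val hxy
    exact IsFractionRing.injective A Q this
  · obtain ⟨d, hd, hden⟩ := exists_den C
    obtain ⟨N, hN⟩ := Groth.Agent.Lib.Helper2.ChiLocal2.exists_pow_le_of_dim_one d hA hd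
    refine ⟨N, fun r hr b => ?_⟩
    obtain ⟨r', hr'⟩ := Ideal.mem_span_singleton'.1 (hN hr)
    obtain ⟨p, hp⟩ := hden b.1 b.2
    refine ⟨r' * p, ?_⟩
    apply Subtype.ext
    show algebraMap A Q (r' * p) = r • (b : Q)
    rw [Algebra.smul_def, ← hr', map_mul, map_mul, ← hp]
    ring

/-- Finite subalgebras have finite relative length. -/
theorem rl_ne_top_of_le (hA : ringKrullDim A ≤ 1) (C C' : Subalgebra A Q) [Module.Finite A C']
    (h : C ≤ C') : rl (Subalgebra.toSubmodule C) (Subalgebra.toSubmodule C') ≠ ⊤ := by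
  obtain ⟨d, hd, hden⟩ := exists_den C'
  obtain ⟨N, hN⟩ := Groth.Agent.Lib.Helper2.ChiLocal2.exists_pow_le_of_dim_one d hA hd
  apply rl_ne_top_of_pow_smul_le _ _ (Module.Finite.iff_fg.1 inferInstance) N
  intro r hr z hz
  obtain ⟨r', hr'⟩ := Ideal.mem_span_singleton'.1 (hN hr)
  obtain ⟨p, hp⟩ := hden z hz
  have : r • z = algebraMap A Q (r' * p) := by
    rw [Algebra.smul_def, ← hr', map_mul, map_mul, ← hp]
    ring
  rw [this]
  exact C.algebraMap_mem _

end Loc

end Groth.Agent.Lib.Helper18.Tame
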