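import Mathlib

/-!
# The local symbol attached to a monomial presentation of two elements of a local ring
-/

set_option autoImplicit false
universe u

namespace Groth.Agent.Lib.Helper18.Tame

open IsLocalRing

/-- A presentation of `x₁, x₂` as units times powers of one nonzerodivisor. -/
structure Pres (L : Type*) [CommRing L] (x₁ x₂ : L) where
  π : L
  π_mem : π ∈ nonZeroDivisors L
  u₁ : Lˣ
  u₂ : Lˣ
  e₁ : ℕ
  e₂ : ℕ
  fac₁ : x₁ = (u₁ : L) * π ^ e₁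
  fac₂ : x₂ = (u₂ : L) * π ^ e₂

namespace Pres

variable {L : Type*} [CommRing L] [IsLocalRing L] {x₁ x₂ : L}

/-- The residue class entering the symbol. -/
noncomputable def base (P : Pres L x₁ x₂) : ResidueField L :=
  (-1 : ResidueField L) ^ (P.e₁ * P.e₂) * residue L (P.u₁ : L) ^ P.e₂ *
    (residue L (P.u₂ : L) ^ P.e₁)⁻¹

/-- The local symbol of a presentation. -/
noncomputable def theta (P : Pres L x₁ x₂) : ResidueField L :=
  P.base ^ (Ring.ord L P.π).toNat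

theorem residue_unit_ne_zero (u : Lˣ) : residue L (u : L) ≠ 0 := by
  intro h
  have := (residue_eq_zero_iff (u : L)).1 h
  exact (mem_maximalIdeal _).1 this u.isUnit

variable [IsNoetherianRing L] [Ring.KrullDimLE 1 L]

theorem ord_fac (π : L) (hπ : π ∈ nonZeroDivisors L) (u : Lˣ) (e : ℕ) :
    (Ring.ord L ((u : L) * π ^ e)).toNat = e * (Ring.ord L π).toNat := by
  rw [Ring.ord_mul_of_isUnit_left u.isUnit, Ring.ord_pow hπ]
  have hfin := Ring.ord_ne_top hπ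
  obtain ⟨n, hn⟩ := ENat.ne_top_iff_exists.1 hfin
  rw [← hn]
  simp

theorem theta_eq_aux {x₁ x₂ : L} (π π' : L) (hπ : π ∈ nonZeroDivisors L)
    (hπ' : π' ∈ nonZeroDivisors L) (u₁ u₂ v₁ v₂ : Lˣ) (e₁ e₂ k₁ k₂ : ℕ)
    (f₁ : x₁ = (u₁ : L) * π ^ e₁) (f₂ : x₂ = (u₂ : L) * π ^ e₂)
    (g₁ : x₁ = (v₁ : L) * π' ^ k₁) (g₂ : x₂ = (v₂ : L) * π' ^ k₂) :
    ((-1 : ResidueField L) ^ (e₁ * e₂) * residue L (u₁ : L) ^ e₂ *
      (residue L (u₂ : L) ^ e₁)⁻¹) ^ (Ring.ord L π).toNat =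
    ((-1 : ResidueField L) ^ (k₁ * k₂) * residue L (v₁ : L) ^ k₂ *
      (residue L (v₂ : L) ^ k₁)⁻¹) ^ (Ring.ord L π').toNat := by
  set m := (Ring.ord L π).toNat with hm
  set m' := (Ring.ord L π').toNat with hm'
  have h1 : e₁ * m = k₁ * m' := by
    rw [hm, hm', ← ord_fac π hπ u₁, ← ord_fac π' hπ' v₁, ← f₁, ← g₁]
  have h2 : e₂ * m = k₂ * m' := by
    rw [hm, hm', ← ord_fac π hπ u₂, ← ord_fac π' hπ' v₂, ← f₂, ← g₂]
  by_cases h0 : m = 0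
  · rw [h0, pow_zero]
    by_cases h0' : m' = 0
    · rw [h0', pow_zero]
    · have e1 : k₁ = 0 := by
        rw [h0, mul_zero] at h1
        rcases Nat.mul_eq_zero.1 h1.symm with h | h
        · exact h
        · exact absurd h h0'
      have e2 : k₂ = 0 := by
        rw [h0, mul_zero] at h2
        rcases Nat.mul_eq_zero.1 h2.symm with h | h
        · exact h
        · exact absurd h h0'
      simp [e1, e2]
  by_cases h0' : m' = 0
  · rw [h0', pow_zero]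
    have e1 : e₁ = 0 := by
      rw [h0', mul_zero] at h1
      rcases Nat.mul_eq_zero.1 h1 with h | h
      · exact h
      · exact absurd h h0
    have e2 : e₂ = 0 := by
      rw [h0', mul_zero] at h2
      rcases Nat.mul_eq_zero.1 h2 with h | h
      · exact h
      · exact absurd h h0
    simp [e1, e2]
  -- both orders positive
  have hcross : k₁ * e₂ = k₂ * e₁ := by
    have : (k₁ * e₂) * (m * m') = (k₂ * e₁) * (m * m') := by
      calc (k₁ * e₂) * (m * m') = (k₁ * m') * (e₂ * m) := by ring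
        _ = (e₁ * m) * (k₂ * m') := by rw [← h1, h2]
        _ = (k₂ * e₁) * (m * m') := by ring
    exact Nat.eq_of_mul_eq_mul_right (Nat.mul_pos (Nat.pos_of_ne_zero h0)
      (Nat.pos_of_ne_zero h0')) this
  -- the unit identity
  have hx1 : x₁ ^ e₂ ∈ nonZeroDivisors L := by
    rw [f₁]
    exact pow_mem (mul_mem u₁.isUnit.mem_nonZeroDivisors (pow_mem hπ _)) _
  have hα : x₁ ^ e₂ * (u₂ : L) ^ e₁ = (u₁ : L) ^ e₂ * x₂ ^ e₁ := by
    rw [f₁, f₂]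
    ring
  have hβ : x₁ ^ e₂ * (v₂ : L) ^ e₁ = (v₁ : L) ^ e₂ * x₂ ^ e₁ := by
    rw [g₁, g₂, mul_pow, mul_pow, ← pow_mul, ← pow_mul, hcross]
    ring
  have hI : (u₂ : L) ^ e₁ * (v₁ : L) ^ e₂ = (u₁ : L) ^ e₂ * (v₂ : L) ^ e₁ := by
    have : x₁ ^ e₂ * ((u₂ : L) ^ e₁ * (v₁ : L) ^ e₂) =
        x₁ ^ e₂ * ((u₁ : L) ^ e₂ * (v₂ : L) ^ e₁) := by
      calc x₁ ^ e₂ * ((u₂ : L) ^ e₁ * (v₁ : L) ^ e₂)
          = (x₁ ^ e₂ * (u₂ : L) ^ e₁) * (v₁ : L) ^ e₂ := by ring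
        _ = (u₁ : L) ^ e₂ * ((v₁ : L) ^ e₂ * x₂ ^ e₁) := by rw [hα]; ring
        _ = x₁ ^ e₂ * ((u₁ : L) ^ e₂ * (v₂ : L) ^ e₁) := by rw [← hβ]; ring
    have h3 := (mem_nonZeroDivisors_iff.1 hx1).1
      ((u₂ : L) ^ e₁ * (v₁ : L) ^ e₂ - (u₁ : L) ^ e₂ * (v₂ : L) ^ e₁)
      (by rw [mul_sub, this, sub_self])
    exact sub_eq_zero.1 h3
  -- pass to the residue field
  set a₁ := residue L (u₁ : L) with ha₁
  set a₂ := residue L (u₂ : L) with ha₂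
  set b₁ := residue L (v₁ : L) with hb₁
  set b₂ := residue L (v₂ : L) with hb₂
  have na₁ : a₁ ≠ 0 := residue_unit_ne_zero _
  have na₂ : a₂ ≠ 0 := residue_unit_ne_zero _
  have nb₁ : b₁ ≠ 0 := residue_unit_ne_zero _
  have nb₂ : b₂ ≠ 0 := residue_unit_ne_zero _
  have hI' : a₂ ^ e₁ * b₁ ^ e₂ = a₁ ^ e₂ * b₂ ^ e₁ := by
    have := congrArg (residue L) hI
    simpa only [map_mul, map_pow] using this
  have hfrac : a₁ ^ e₂ * (a₂ ^ e₁)⁻¹ = b₁ ^ e₂ * (b₂ ^ e₁)⁻¹ := by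
    rw [← div_eq_mul_inv, ← div_eq_mul_inv,
      div_eq_div_iff (pow_ne_zero _ na₂) (pow_ne_zero _ nb₂), ← hI']
    ring
  -- signs
  have hsign : ((-1 : ResidueField L) ^ (e₁ * e₂)) ^ m =
      ((-1 : ResidueField L) ^ (k₁ * k₂)) ^ m' := by
    rw [← pow_mul, ← pow_mul]
    have hpar : Odd (e₁ * e₂ * m) ↔ Odd (k₁ * k₂ * m') := by
      have l1 : Odd (e₁ * e₂ * m) ↔ Odd (e₁ * m) ∧ Odd (e₂ * m) := by
        simp only [Nat.odd_mul]
        tauto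
      have l2 : Odd (k₁ * k₂ * m') ↔ Odd (k₁ * m') ∧ Odd (k₂ * m') := by
        simp only [Nat.odd_mul]
        tauto
      rw [l1, l2, h1, h2]
    by_cases hodd : Odd (e₁ * e₂ * m)
    · rw [hodd.neg_one_pow, (hpar.1 hodd).neg_one_pow]
    · rw [(Nat.not_odd_iff_even.1 hodd).neg_one_pow,
        (Nat.not_odd_iff_even.1 (fun h => hodd (hpar.2 h))).neg_one_pow]
  have hmain : (a₁ ^ e₂ * (a₂ ^ e₁)⁻¹) ^ m = (b₁ ^ k₂ * (b₂ ^ k₁)⁻¹) ^ m' := by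
    rw [hfrac, mul_pow, mul_pow, inv_pow, inv_pow, ← pow_mul, ← pow_mul, ← pow_mul, ← pow_mul,
      h2, h1]
  calc ((-1 : ResidueField L) ^ (e₁ * e₂) * a₁ ^ e₂ * (a₂ ^ e₁)⁻¹) ^ m
      = ((-1 : ResidueField L) ^ (e₁ * e₂)) ^ m * (a₁ ^ e₂ * (a₂ ^ e₁)⁻¹) ^ m := by
        rw [mul_assoc, mul_pow]
    _ = ((-1 : ResidueField L) ^ (k₁ * k₂)) ^ m' * (b₁ ^ k₂ * (b₂ ^ k₁)⁻¹) ^ m' := by
        rw [hsign, hmain]
    _ = ((-1 : ResidueField L) ^ (k₁ * k₂) * b₁ ^ k₂ * (b₂ ^ k₁)⁻¹) ^ m' := by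
        rw [mul_assoc ((-1 : ResidueField L) ^ (k₁ * k₂)),
          mul_pow ((-1 : ResidueField L) ^ (k₁ * k₂))]

/-- The local symbol does not depend on the presentation. -/
theorem theta_eq (P P' : Pres L x₁ x₂) : P.theta = P'.theta :=
  theta_eq_aux P.π P'.π P.π_mem P'.π_mem P.u₁ P.u₂ P'.u₁ P'.u₂ P.e₁ P.e₂ P'.e₁ P'.e₂
    P.fac₁ P.fac₂ P'.fac₁ P'.fac₂

end Pres

end Groth.Agent.Lib.Helper18.Tame
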