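import Mathlib

/-!
# Semilocal rings: finite algebras over local rings, locally principal ideals are principal
-/

set_option autoImplicit false
universe u

namespace Groth.Agent.Lib.Helper18.Tame

theorem under_eq_maximalIdeal (R S : Type*) [CommRing R] [IsLocalRing R] [CommRing S]
    [Algebra R S] [Algebra.IsIntegral R S] (P : Ideal S) [P.IsMaximal] :
    P.comap (algebraMap R S) = IsLocalRing.maximalIdeal R := by
  have : (P.comap (algebraMap R S)).IsMaximal :=
    Ideal.isMaximal_comap_of_isIntegral_of_isMaximal (R := R) P
  exact IsLocalRing.eq_maximalIdeal this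

theorem finite_maximalSpectrum_of_finite (R S : Type*) [CommRing R] [IsLocalRing R] [CommRing S]
    [Algebra R S] [Module.Finite R S] : Finite (MaximalSpectrum S) := by
  have hfin := Algebra.QuasiFinite.finite_primesOver (R := R) (S := S) (IsLocalRing.maximalIdeal R)
  have := hfin.to_subtype
  let φ : MaximalSpectrum S → ((IsLocalRing.maximalIdeal R).primesOver S) := fun P =>
    ⟨P.asIdeal, P.isMaximal.isPrime, ⟨by
      haveI := P.isMaximal
      exact (under_eq_maximalIdeal R S P.asIdeal).symm⟩⟩
  apply Finite.of_injective φ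
  intro P P' h
  have : P.asIdeal = P'.asIdeal := congrArg Subtype.val h
  exact MaximalSpectrum.ext this

/-- Over a semilocal ring, an ideal which is principal near each maximal ideal is principal. -/
theorem exists_eq_span_singleton_of_locally {S : Type*} [CommRing S] [Finite (MaximalSpectrum S)]
    (I : Ideal S)
    (h : ∀ P : MaximalSpectrum S, ∃ f ∈ I, ∃ s ∉ P.asIdeal, ∀ x ∈ I, s * x ∈ Ideal.span {f}) :
    ∃ t ∈ I, I = Ideal.span {t} := by
  classical
  haveI : Fintype (MaximalSpectrum S) := Fintype.ofFinite _
  choose f hfI s hs hsx using h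
  have hcop : Pairwise (Function.onFun IsCoprime fun P : MaximalSpectrum S => P.asIdeal) := by
    intro P P' hne
    haveI := P.isMaximal
    haveI := P'.isMaximal
    exact Ideal.isCoprime_of_isMaximal (MaximalSpectrum.ext_iff.ne.mp hne)
  have hcrt : ∀ P : MaximalSpectrum S, ∃ e : S, ∀ P' : MaximalSpectrum S,
      e - (if P' = P then 1 else 0) ∈ P'.asIdeal := fun P =>
    Ideal.exists_forall_sub_mem_ideal hcop (fun P' => if P' = P then 1 else 0)
  choose e he using hcrt
  have heP : ∀ P : MaximalSpectrum S, e P ∉ P.asIdeal := by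
    intro P hmem
    have h1 := he P P
    rw [if_pos rfl] at h1
    have : (1 : S) ∈ P.asIdeal := by
      have := P.asIdeal.sub_mem hmem h1
      simpa using this
    exact P.isMaximal.ne_top ((Ideal.eq_top_iff_one _).2 this)
  have heP' : ∀ P P' : MaximalSpectrum S, P' ≠ P → e P ∈ P'.asIdeal := by
    intro P P' hne
    have h1 := he P P'
    rw [if_neg hne] at h1
    simpa using h1
  set t : S := ∑ P, e P * f P with ht
  have htI : t ∈ I := Ideal.sum_mem _ fun P _ => I.mul_mem_left _ (hfI P)
  refine ⟨t, htI, le_antisymm ?_ ((Ideal.span_singleton_le_iff_mem I).2 htI)⟩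
  -- the conductor of `I` into `(t)` is the unit ideal
  have hK : (Ideal.span {t} : Ideal S).colon (I : Set S) = ⊤ := by
    by_contra hne
    obtain ⟨M, hM, hKM⟩ := Ideal.exists_le_maximal _ hne
    let P : MaximalSpectrum S := ⟨M, hM⟩
    have hρ : ∀ P' : MaximalSpectrum S, ∃ ρ : S, ρ * f P = s P * f P' := fun P' =>
      Ideal.mem_span_singleton'.1 (hsx P (f P') (hfI P'))
    choose ρ hρ' using hρ
    set r : S := e P * s P + ∑ P' ∈ Finset.univ.erase P, e P' * ρ P' with hr
    have hst : s P * t = r * f P := by
      rw [ht, ← Finset.add_sum_erase Finset.univ _ (Finset.mem_univ P), hr, mul_add, add_mul,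
        Finset.mul_sum, Finset.sum_mul]
      congr 1
      · ring
      · apply Finset.sum_congr rfl
        intro P' _
        rw [mul_assoc, hρ']
        ring
    have hrM : r ∉ M := by
      intro hmem
      have hsum : ∑ P' ∈ Finset.univ.erase P, e P' * ρ P' ∈ M := by
        apply Ideal.sum_mem
        intro P' hP'
        have hne : P ≠ P' := fun h => (Finset.mem_erase.1 hP').1 h.symm
        exact Ideal.mul_mem_right _ _ (heP' P' P hne)
      have h1 : e P * s P ∈ M := by
        have := M.sub_mem hmem hsum
        simpa [hr] using this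
      rcases hM.isPrime.mem_or_mem h1 with h2 | h2
      · exact heP P h2
      · exact hs P h2
    have hmemK : r * s P ∈ (Ideal.span {t} : Ideal S).colon (I : Set S) := by
      rw [Submodule.mem_colon]
      intro x hx
      obtain ⟨y, hy⟩ := Ideal.mem_span_singleton'.1 (hsx P x hx)
      rw [Ideal.mem_span_singleton']
      refine ⟨y * s P, ?_⟩
      have : (r * s P) • x = r * (s P * x) := by simp [mul_assoc]
      rw [this, ← hy, mul_assoc, hst]
      ring
    have := hKM hmemK
    rcases hM.isPrime.mem_or_mem this with h2 | h2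
    · exact hrM h2
    · exact hs P h2
  intro x hx
  have h1 : (1 : S) ∈ (Ideal.span {t} : Ideal S).colon (I : Set S) := by rw [hK]; trivial
  rw [Submodule.mem_colon] at h1
  simpa using h1 x hx

end Groth.Agent.Lib.Helper18.Tame
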