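import Mathlib
import Groth.Agent.Lib.Helper18.Tame.SemiLocal

/-!
# Global generators of local parameters in a semilocal ring
-/

set_option autoImplicit false
universe u

namespace Groth.Agent.Lib.Helper18.Tame

open IsLocalRing

theorem exists_uniform_of_fg {S : Type*} [CommRing S] (P : Ideal S) [P.IsPrime] (I J : Ideal S)
    (hI : I.FG) (h : ∀ x ∈ I, ∃ s ∉ P, s * x ∈ J) : ∃ s ∉ P, ∀ x ∈ I, s * x ∈ J := by
  classical
  obtain ⟨G, rfl⟩ := hI
  have h' : ∀ g : S, ∃ s, g ∈ G → s ∉ P ∧ s * g ∈ J := by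
    intro g
    by_cases hg : g ∈ G
    · obtain ⟨s, hs, hsg⟩ := h g (Ideal.subset_span hg)
      exact ⟨s, fun _ => ⟨hs, hsg⟩⟩
    · exact ⟨0, fun h => absurd h hg⟩
  choose σ hσ using h'
  refine ⟨∏ g ∈ G, σ g, ?_, ?_⟩
  · rw [Ideal.IsPrime.prod_mem_iff]
    rintro ⟨g, hg, hmem⟩
    exact (hσ g hg).1 hmem
  · intro x hx
    induction hx using Submodule.span_induction with
    | mem g hg =>
      rw [← Finset.mul_prod_erase G σ hg, mul_assoc, mul_comm _ g, ← mul_assoc]
      exact J.mul_mem_right _ (hσ g hg).2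
    | zero => simp
    | add a b _ _ ha hb => rw [mul_add]; exact J.add_mem ha hb
    | smul c a _ ha =>
      rw [smul_eq_mul, mul_left_comm]
      exact J.mul_mem_left _ ha

/-- In a Noetherian semilocal ring, a local parameter at one maximal ideal is associated to
the image of a global element which is a unit at the other maximal ideals. -/
theorem exists_local_generator (B : Type*) [CommRing B] [IsNoetherianRing B]
    [Finite (MaximalSpectrum B)] (q : MaximalSpectrum B)
    (π : Localization.AtPrime q.asIdeal)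
    (hπ : π ∈ nonZeroDivisors (Localization.AtPrime q.asIdeal))
    (hpow : ∃ k : ℕ, maximalIdeal (Localization.AtPrime q.asIdeal) ^ k ≤ Ideal.span {π}) :
    ∃ ϖ : B, (∃ w : (Localization.AtPrime q.asIdeal)ˣ,
        algebraMap B (Localization.AtPrime q.asIdeal) ϖ = w * π) ∧
      (∀ q' : MaximalSpectrum B, q' ≠ q → ϖ ∉ q'.asIdeal) ∧
      Ideal.comap (algebraMap B (Localization.AtPrime q.asIdeal)) (Ideal.span {π}) =
        Ideal.span {ϖ} := by
  classical
  haveI := q.isMaximal.isPrime
  set I : Ideal B := Ideal.comap (algebraMap B (Localization.AtPrime q.asIdeal)) (Ideal.span {π}) with hI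
  obtain ⟨k, hk⟩ := hpow
  obtain ⟨⟨p, s₀⟩, hps⟩ := IsLocalization.mk'_surjective q.asIdeal.primeCompl π
  have hps' : π * algebraMap B (Localization.AtPrime q.asIdeal) s₀ = algebraMap B (Localization.AtPrime q.asIdeal) p := by
    rw [← hps]
    exact IsLocalization.mk'_spec (Localization.AtPrime q.asIdeal) p s₀
  have hpI : p ∈ I := by
    rw [hI, Ideal.mem_comap, ← hps']
    exact Ideal.mul_mem_right _ _ (Ideal.mem_span_singleton_self π)
  -- elements outside the other maximal ideals
  have hother : ∀ q' : MaximalSpectrum B, q' ≠ q → ∃ f ∈ I, f ∉ q'.asIdeal := by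
    intro q' hne
    have hnle : ¬ q.asIdeal ≤ q'.asIdeal := by
      intro hle
      exact hne (MaximalSpectrum.ext (q.isMaximal.eq_of_le q'.isMaximal.ne_top hle).symm)
    obtain ⟨e, heq, heq'⟩ := SetLike.not_le_iff_exists.1 hnle
    refine ⟨e ^ k, ?_, ?_⟩
    · rw [hI, Ideal.mem_comap, map_pow]
      apply hk
      apply Ideal.pow_mem_pow
      exact (IsLocalization.AtPrime.to_map_mem_maximal_iff (Localization.AtPrime q.asIdeal) q.asIdeal e).2 heq
    · intro hmem
      exact heq' (q'.isMaximal.isPrime.mem_of_pow_mem k hmem)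
  have hloc : ∀ P : MaximalSpectrum B, ∃ f ∈ I, ∃ s ∉ P.asIdeal, ∀ x ∈ I,
      s * x ∈ Ideal.span {f} := by
    intro P
    by_cases hP : P = q
    · rw [hP]
      refine ⟨p, hpI, ?_⟩
      apply exists_uniform_of_fg q.asIdeal I (Ideal.span {p}) (IsNoetherian.noetherian I)
      intro x hx
      rw [hI, Ideal.mem_comap, Ideal.mem_span_singleton'] at hx
      obtain ⟨z, hz⟩ := hx
      obtain ⟨⟨y, s₁⟩, hys⟩ := IsLocalization.mk'_surjective q.asIdeal.primeCompl z
      have hz' : z * algebraMap B (Localization.AtPrime q.asIdeal) s₁ = algebraMap B (Localization.AtPrime q.asIdeal) y := by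
        rw [← hys]
        exact IsLocalization.mk'_spec (Localization.AtPrime q.asIdeal) y s₁
      have heq : algebraMap B (Localization.AtPrime q.asIdeal) (x * s₁ * s₀) = algebraMap B (Localization.AtPrime q.asIdeal) (p * y) := by
        rw [map_mul, map_mul, map_mul, ← hz, ← hps', ← hz']
        ring
      obtain ⟨c, hc⟩ := (IsLocalization.eq_iff_exists q.asIdeal.primeCompl (Localization.AtPrime q.asIdeal)).1 heq
      refine ⟨c * s₁ * s₀, ?_, ?_⟩
      · intro hmem
        rcases (Ideal.IsPrime.mem_or_mem ‹_› hmem) with h | h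
        · rcases (Ideal.IsPrime.mem_or_mem ‹_› h) with h' | h'
          · exact c.2 h'
          · exact s₁.2 h'
        · exact s₀.2 h
      · rw [Ideal.mem_span_singleton']
        refine ⟨c * y, ?_⟩
        calc (c : B) * y * p = c * (p * y) := by ring
          _ = c * (x * s₁ * s₀) := by rw [hc]
          _ = c * s₁ * s₀ * x := by ring
    · obtain ⟨f, hfI, hfP⟩ := hother P hP
      refine ⟨f, hfI, f, hfP, fun x _ => ?_⟩
      rw [Ideal.mem_span_singleton']
      exact ⟨x, mul_comm _ _⟩
  obtain ⟨ϖ, hϖI, hIϖ⟩ := exists_eq_span_singleton_of_locally I hloc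
  refine ⟨ϖ, ?_, ?_, hIϖ⟩
  · have h1 : algebraMap B (Localization.AtPrime q.asIdeal) ϖ ∈ Ideal.span {π} := hϖI
    obtain ⟨w', hw'⟩ := Ideal.mem_span_singleton'.1 h1
    have h2 : p ∈ Ideal.span {ϖ} := hIϖ ▸ hpI
    obtain ⟨c, hc⟩ := Ideal.mem_span_singleton'.1 h2
    have h3 : (algebraMap B (Localization.AtPrime q.asIdeal) c * w') * π = algebraMap B (Localization.AtPrime q.asIdeal) s₀ * π := by
      rw [mul_assoc, hw', ← map_mul, hc, ← hps', mul_comm]
    have h4 : algebraMap B (Localization.AtPrime q.asIdeal) c * w' = algebraMap B (Localization.AtPrime q.asIdeal) s₀ := by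
      have h5 := (mem_nonZeroDivisors_iff.1 hπ).2 (algebraMap B (Localization.AtPrime q.asIdeal) c * w' - algebraMap B (Localization.AtPrime q.asIdeal) s₀)
        (by rw [sub_mul, h3, sub_self])
      exact sub_eq_zero.1 h5
    have hu : IsUnit w' := by
      apply isUnit_of_mul_isUnit_right (x := algebraMap B (Localization.AtPrime q.asIdeal) c)
      rw [h4]
      exact IsLocalization.map_units (Localization.AtPrime q.asIdeal) s₀
    exact ⟨hu.unit, by rw [IsUnit.unit_spec, hw']⟩
  · intro q' hne hmem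
    obtain ⟨f, hfI, hfq'⟩ := hother q' hne
    apply hfq'
    have : f ∈ Ideal.span {ϖ} := hIϖ ▸ hfI
    exact (Ideal.span_singleton_le_iff_mem _).2 hmem this

end Groth.Agent.Lib.Helper18.Tame
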