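import Mathlib
import Groth.Agent.Lib.Helper18.Push.SemiLocal
import Groth.Agent.Lib.Helper18.Tame.FinSub

/-!
# Lengths of `B/ϖB` over a base ring, for semilocal `B`
-/

set_option autoImplicit false
universe u v
open Module TensorProduct

namespace Groth.Agent.Lib.Helper18.Tame

open Groth.Agent.Lib.Helper2.RelLength

/-- `ℓ_A(B/ϖB) = ∑_q ord_{B_q}(ϖ) · ℓ_A(B/q)` over the maximal ideals of a semilocal ring. -/
theorem length_quot_span_eq_sum {A : Type*} {B : Type u} [CommRing A] [CommRing B] [Algebra A B]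
    [Fintype (MaximalSpectrum B)] (ϖ : B) (hfin : IsFiniteLength B (B ⧸ Ideal.span {ϖ})) :
    Module.length A (B ⧸ Ideal.span {ϖ}) =
      ∑ q : MaximalSpectrum B,
        Ring.ord (Localization.AtPrime q.asIdeal) (algebraMap B (Localization.AtPrime q.asIdeal) ϖ) *
          Module.length A (B ⧸ q.asIdeal) := by
  haveI : ∀ q : MaximalSpectrum B, q.asIdeal.IsMaximal := fun q => q.isMaximal
  rw [Groth.Agent.Lib.Helper18.SemiLocal.length_eq_sum (A := A) hfin
    (fun q : MaximalSpectrum B => q.asIdeal)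
    (fun M hM => ⟨⟨M, hM⟩, rfl, fun q hq => MaximalSpectrum.ext hq⟩)
    (fun q => Localization.AtPrime q.asIdeal)]
  refine Finset.sum_congr rfl fun q _ => ?_
  congr 1
  rw [← (Algebra.TensorProduct.quotIdealMapEquivTensorQuot (Localization.AtPrime q.asIdeal)
    (Ideal.span {ϖ})).toLinearEquiv.length_eq, Ideal.map_span, Set.image_singleton]
  rfl

/-- `ℓ_A(B/ϖB) = ℓ_A(C/ϖC)` for an injective map `B → C` with cokernel of finite length and
`ϖ` regular on `C`. -/
theorem length_quot_span_eq_of_injective {A : Type*} {B C : Type*} [CommRing A] [CommRing B]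
    [CommRing C] [Algebra A B] [Algebra A C] (β : B →ₐ[A] C) (hβ : Function.Injective β)
    (hcoker : Module.length A (C ⧸ LinearMap.range β.toLinearMap) ≠ ⊤) (ϖ : B)
    (hreg : β ϖ ∈ nonZeroDivisors C) :
    Module.length A (B ⧸ Ideal.span {ϖ}) = Module.length A (C ⧸ Ideal.span {β ϖ}) := by
  set f : C →ₗ[A] C := LinearMap.mulLeft A (β ϖ) with hf
  have hinj : Function.Injective f := by
    intro x y hxy
    have h0 : β ϖ * (x - y) = 0 := by
      simpa [hf, mul_sub, sub_eq_zero] using hxy
    exact sub_eq_zero.1 ((mem_nonZeroDivisors_iff.1 hreg).1 _ h0)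
  set J : Submodule A C := LinearMap.range β.toLinearMap with hJ
  have hfJ : Submodule.map f J ≤ J := by
    rintro _ ⟨_, ⟨b, rfl⟩, rfl⟩
    exact ⟨ϖ * b, by simp [hf]⟩
  have hfinJ : rl J ⊤ ≠ ⊤ := by rwa [rl_top_eq]
  have key := rl_map_eq_of_le f hinj J ⊤ le_top le_top hfJ hfinJ
  -- the right hand side
  have hR : rl (Submodule.map f ⊤) ⊤ = Module.length A (C ⧸ Ideal.span {β ϖ}) := by
    rw [rl_top_eq]
    have : Submodule.map f ⊤ = (Ideal.span {β ϖ}).restrictScalars A := by
      ext x
      simp only [Submodule.mem_map, Submodule.mem_top, true_and, Submodule.restrictScalars_mem,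
        Ideal.mem_span_singleton']
      constructor
      · rintro ⟨y, rfl⟩
        exact ⟨y, by simp [hf, mul_comm]⟩
      · rintro ⟨y, rfl⟩
        exact ⟨y, by simp [hf, mul_comm]⟩
    rw [this]
    exact (Submodule.Quotient.restrictScalarsEquiv A (Ideal.span {β ϖ})).length_eq
  -- the left hand side
  have hL : rl (Submodule.map f J) J = Module.length A (B ⧸ Ideal.span {ϖ}) := by
    unfold rl
    let e : B ≃ₗ[A] J := LinearEquiv.ofInjective β.toLinearMap hβ
    have hmap : Submodule.map (e : B →ₗ[A] J) ((Ideal.span {ϖ}).restrictScalars A) =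
        (Submodule.map f J).submoduleOf J := by
      ext x
      simp only [Submodule.mem_map, Submodule.restrictScalars_mem, Ideal.mem_span_singleton',
        Submodule.submoduleOf, Submodule.mem_comap, Submodule.subtype_apply]
      constructor
      · rintro ⟨_, ⟨b, rfl⟩, rfl⟩
        refine ⟨β b, ⟨b, rfl⟩, ?_⟩
        show β ϖ * β b = ((LinearEquiv.ofInjective β.toLinearMap hβ (b * ϖ) : J) : C)
        rw [LinearEquiv.ofInjective_apply]
        simp [mul_comm]
      · rintro ⟨_, ⟨b, rfl⟩, hb⟩
        refine ⟨b * ϖ, ⟨b, rfl⟩, ?_⟩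
        apply Subtype.ext
        rw [← hb]
        show ((LinearEquiv.ofInjective β.toLinearMap hβ (b * ϖ) : J) : C) = β ϖ * β b
        rw [LinearEquiv.ofInjective_apply]
        simp [mul_comm]
    rw [← (Submodule.Quotient.equiv _ _ e hmap).length_eq]
    exact (Submodule.Quotient.restrictScalarsEquiv A (Ideal.span {ϖ})).length_eq
  rw [← hL, key, hR]

end Groth.Agent.Lib.Helper18.Tame
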