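import Mathlib
import Groth.Prelude.Def_CycAlg
import Groth.Agent.Lib.Helper18.Tame.SemiLocal
import Groth.Agent.Lib.Helper18.Tame.SemiLocalOrd
import Groth.Agent.Lib.Helper18.Tame.PiQ
import Groth.Agent.Lib.Helper18.Tame.LocalSymbol
import Groth.Agent.Lib.Helper18.Push.NormOrdRS

/-!
# Refinement invariance of the product of local symbols
-/

set_option autoImplicit false
universe u

namespace Groth.Agent.Lib.Helper18.Tame

open IsLocalRing

section Basics

variable {A : Type u} [CommRing A] [IsNoetherianRing A] [IsLocalRing A]
variable {B : Type u} [CommRing B] [Algebra A B]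

theorem finite_of_isFinExt (hB : CycAlg.IsFinExt A B (maximalIdeal A)) : Module.Finite A B :=
  hB.2.1

/-- The local rings of a finite extension of a one-dimensional ring have dimension at most one. -/
theorem krullDimLE_one_atPrime (hA : ringKrullDim A ≤ 1) [Module.Finite A B] (q : Ideal B)
    [q.IsPrime] : ringKrullDim (Localization.AtPrime q) ≤ 1 := by
  haveI : Algebra.IsIntegral A B := Algebra.IsIntegral.of_finite A B
  have h1 : ringKrullDim B ≤ 1 :=
    (Groth.Agent.Lib.Helper18.NormOrd.ringKrullDim_le_of_isIntegral A B).trans hA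
  have h2 : ringKrullDim (Localization.AtPrime q) ≤ ringKrullDim B := by
    rw [IsLocalization.AtPrime.ringKrullDim_eq_height q (Localization.AtPrime q)]
    exact Ideal.height_le_ringKrullDim_of_isPrime
  exact h2.trans h1

theorem exists_pow_le_span_atPrime (hA : ringKrullDim A ≤ 1) [Module.Finite A B] (q : Ideal B)
    [q.IsPrime] (π : Localization.AtPrime q) (hπ : π ∈ nonZeroDivisors (Localization.AtPrime q)) :
    ∃ k : ℕ, maximalIdeal (Localization.AtPrime q) ^ k ≤ Ideal.span {π} := by
  haveI : IsNoetherianRing B := IsNoetherianRing.of_finite A B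
  haveI : IsNoetherianRing (Localization.AtPrime q) :=
    IsLocalization.isNoetherianRing q.primeCompl _ inferInstance
  exact Groth.Agent.Lib.Helper2.ChiLocal2.exists_pow_le_of_dim_one π
    (krullDimLE_one_atPrime hA q) hπ

/-- A quotient of a finite module killed by a power of the maximal ideal has finite length. -/
theorem length_quot_ne_top_of_pow_smul_le {M : Type*} [AddCommGroup M] [Module A M]
    [Module.Finite A M] (J : Submodule A M) (k : ℕ)
    (h : ∀ r ∈ maximalIdeal A ^ k, ∀ x : M, r • x ∈ J) : Module.length A (M ⧸ J) ≠ ⊤ := by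
  have h2 := Groth.Agent.Lib.Helper2.HilbSamuel.isFiniteLength_quot_jacobson_pow (A := A)
    (M := M) k
  rw [Groth.Agent.Lib.Helper2.SamuelI.jacobson_eq_maximalIdeal, ← Module.length_ne_top_iff] at h2
  have hle : (maximalIdeal A ^ k • (⊤ : Submodule A M)) ≤ J := by
    rw [Submodule.smul_le]
    intro r hr n _
    exact h r hr n
  exact ne_top_of_le_ne_top h2
    (Module.length_le_of_surjective (Submodule.factor hle) (Submodule.factor_surjective hle))

theorem length_quot_ideal_ne_top_of_pow [Module.Finite A B] (J : Ideal B) (k : ℕ)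
    (h : ∀ r ∈ maximalIdeal A ^ k, algebraMap A B r ∈ J) : Module.length A (B ⧸ J) ≠ ⊤ := by
  rw [← (Submodule.Quotient.restrictScalarsEquiv A J).length_eq]
  apply length_quot_ne_top_of_pow_smul_le (J.restrictScalars A) k
  intro r hr x
  rw [Submodule.restrictScalars_mem, Algebra.smul_def]
  exact J.mul_mem_right _ (h r hr)

theorem length_le_of_tower {R M : Type*} (A' : Type*) [CommRing A'] [CommRing R] [Algebra A' R]
    [AddCommGroup M] [Module R M] [Module A' M] [IsScalarTower A' R M] :
    Module.length R M ≤ Module.length A' M := by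
  have := Submodule.length_le_length_restrictScalars A' (⊤ : Submodule R M)
  rw [Module.length_top] at this
  refine this.trans (le_of_eq ?_)
  exact (Submodule.topEquiv : (⊤ : Submodule A' M) ≃ₗ[A'] M).length_eq

theorem isFiniteLength_quot_ideal_of_pow [Module.Finite A B] (J : Ideal B) (k : ℕ)
    (h : ∀ r ∈ maximalIdeal A ^ k, algebraMap A B r ∈ J) : IsFiniteLength B (B ⧸ J) := by
  rw [← Module.length_ne_top_iff]
  exact ne_top_of_le_ne_top (length_quot_ideal_ne_top_of_pow J k h) (length_le_of_tower A)

/-- A global element generating a given local parameter at one maximal ideal and a unit at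
the others. -/
theorem exists_varpi (hA : ringKrullDim A ≤ 1) [Module.Finite A B] (q : MaximalSpectrum B)
    [IsLocalHom (algebraMap A (Localization.AtPrime q.asIdeal))]
    (π : Localization.AtPrime q.asIdeal)
    (hπ : π ∈ nonZeroDivisors (Localization.AtPrime q.asIdeal)) :
    ∃ ϖ : B, (∃ w : (Localization.AtPrime q.asIdeal)ˣ,
        algebraMap B (Localization.AtPrime q.asIdeal) ϖ = w * π) ∧
      (∀ q' : MaximalSpectrum B, q' ≠ q → ϖ ∉ q'.asIdeal) ∧
      ∃ k : ℕ, ∀ r ∈ maximalIdeal A ^ k, algebraMap A B r ∈ Ideal.span {ϖ} := by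
  haveI : IsNoetherianRing B := IsNoetherianRing.of_finite A B
  haveI : Finite (MaximalSpectrum B) := finite_maximalSpectrum_of_finite A B
  obtain ⟨k, hk⟩ := exists_pow_le_span_atPrime hA q.asIdeal π hπ
  obtain ⟨ϖ, hw, hother, hI⟩ := exists_local_generator B q π hπ ⟨k, hk⟩
  refine ⟨ϖ, hw, hother, k, fun r hr => ?_⟩
  rw [← hI, Ideal.mem_comap, ← IsScalarTower.algebraMap_apply]
  apply hk
  have h1 : (maximalIdeal A).map (algebraMap A (Localization.AtPrime q.asIdeal)) ≤
      maximalIdeal (Localization.AtPrime q.asIdeal) := by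
    rw [Ideal.map_le_iff_le_comap]
    intro x hx
    rw [Ideal.mem_comap, mem_maximalIdeal, mem_nonunits_iff]
    intro hu
    exact hx (isUnit_of_map_unit (algebraMap A (Localization.AtPrime q.asIdeal)) x hu)
  have h2 : algebraMap A (Localization.AtPrime q.asIdeal) r ∈
      ((maximalIdeal A).map (algebraMap A (Localization.AtPrime q.asIdeal))) ^ k := by
    rw [← Ideal.map_pow]
    exact Ideal.mem_map_of_mem _ hr
  exact Ideal.pow_right_mono h1 k h2

end Basics

section Under

variable {A : Type u} [CommRing A]
variable {B : Type u} [CommRing B] [Algebra A B]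
variable {C : Type u} [CommRing C] [Algebra A C]
variable (β : B →ₐ[A] C) (hint : β.toRingHom.IsIntegral)

/-- The maximal ideal of `B` under a maximal ideal of `C`. -/
def under (q'' : MaximalSpectrum C) : MaximalSpectrum B :=
  ⟨q''.asIdeal.comap β.toRingHom, by
    haveI := q''.isMaximal
    exact Ideal.isMaximal_comap_of_isIntegral_of_isMaximal' _ hint _⟩

/-- The local homomorphism `B_q → C_q''`. -/
noncomputable def locHom (q'' : MaximalSpectrum C) :
    Localization.AtPrime (under β hint q'').asIdeal →+* Localization.AtPrime q''.asIdeal :=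
  Localization.localRingHom _ _ β.toRingHom rfl

theorem locHom_algebraMap (q'' : MaximalSpectrum C) (b : B) :
    locHom β hint q'' (algebraMap B _ b) = algebraMap C _ (β b) :=
  Localization.localRingHom_to_map _ _ _ rfl b

theorem locHom_algebraMap_base (q'' : MaximalSpectrum C) (a : A) :
    locHom β hint q'' (algebraMap A _ a) = algebraMap A (Localization.AtPrime q''.asIdeal) a := by
  rw [IsScalarTower.algebraMap_apply A B (Localization.AtPrime (under β hint q'').asIdeal),
    locHom_algebraMap, AlgHom.commutes,
    ← IsScalarTower.algebraMap_apply A C (Localization.AtPrime q''.asIdeal)]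

instance isLocalHom_locHom (q'' : MaximalSpectrum C) : IsLocalHom (locHom β hint q'') :=
  Localization.isLocalHom_localRingHom _ _ _ rfl

theorem mem_under_iff (q'' : MaximalSpectrum C) (b : B) :
    b ∈ (under β hint q'').asIdeal ↔ β b ∈ q''.asIdeal := Iff.rfl

end Under

section Numeric

variable {A : Type u} [CommRing A] [IsNoetherianRing A] [IsLocalRing A]
variable {B : Type u} [CommRing B] [Algebra A B] [Module.Finite A B]
variable {C : Type u} [CommRing C] [Algebra A C] [Module.Finite A C]
variable (β : B →ₐ[A] C) (hint : β.toRingHom.IsIntegral)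

/-- The order of a local parameter at `q`, weighted by the residue degree, is the sum of the
weighted orders of its images at the maximal ideals above `q`. -/
theorem ord_mul_length_eq_sum (hA : ringKrullDim A ≤ 1) (hβ : Function.Injective β)
    (hcoker : Module.length A (C ⧸ LinearMap.range β.toLinearMap) ≠ ⊤)
    (a : A) (ham : a ∈ maximalIdeal A) (hareg : algebraMap A C a ∈ nonZeroDivisors C)
    [Fintype (MaximalSpectrum B)] [Fintype (MaximalSpectrum C)] [DecidableEq (MaximalSpectrum B)]
    [∀ q : MaximalSpectrum B, IsLocalHom (algebraMap A (Localization.AtPrime q.asIdeal))]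
    (π : ∀ q : MaximalSpectrum B, Localization.AtPrime q.asIdeal)
    (hπ : ∀ q, π q ∈ nonZeroDivisors (Localization.AtPrime q.asIdeal)) (q : MaximalSpectrum B) :
    Ring.ord (Localization.AtPrime q.asIdeal) (π q) * Module.length A (B ⧸ q.asIdeal) =
      ∑ q'' ∈ Finset.univ.filter (fun q'' => under β hint q'' = q),
        Ring.ord (Localization.AtPrime q''.asIdeal)
          (locHom β hint q'' (π (under β hint q''))) * Module.length A (C ⧸ q''.asIdeal) := by
  obtain ⟨ϖ, hw, hother, k, hk⟩ := exists_varpi hA q (π q) (hπ q)
  have hkC : ∀ r ∈ maximalIdeal A ^ k, algebraMap A C r ∈ Ideal.span {β ϖ} := by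
    intro r hr
    obtain ⟨c, hc⟩ := Ideal.mem_span_singleton'.1 (hk r hr)
    rw [Ideal.mem_span_singleton']
    refine ⟨β c, ?_⟩
    rw [← map_mul, hc, AlgHom.commutes]
  have hregC : β ϖ ∈ nonZeroDivisors C := by
    obtain ⟨c, hc⟩ := Ideal.mem_span_singleton'.1 (hkC (a ^ k) (Ideal.pow_mem_pow ham k))
    have h1 : c * β ϖ ∈ nonZeroDivisors C := by
      rw [hc, map_pow]
      exact pow_mem hareg k
    exact (mul_mem_nonZeroDivisors.1 h1).2
  have hB1 := length_quot_span_eq_sum (A := A) ϖ (isFiniteLength_quot_ideal_of_pow _ k hk)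
  have hC1 := length_quot_span_eq_sum (A := A) (β ϖ) (isFiniteLength_quot_ideal_of_pow _ k hkC)
  have hBC := length_quot_span_eq_of_injective β hβ hcoker ϖ hregC
  -- the left hand side
  have hL : ∑ q' : MaximalSpectrum B,
      Ring.ord (Localization.AtPrime q'.asIdeal) (algebraMap B _ ϖ) *
        Module.length A (B ⧸ q'.asIdeal) =
      Ring.ord (Localization.AtPrime q.asIdeal) (π q) * Module.length A (B ⧸ q.asIdeal) := by
    rw [Finset.sum_eq_single q]
    · obtain ⟨w, hw'⟩ := hw
      rw [hw', Ring.ord_mul_of_isUnit_left w.isUnit]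
    · intro q' _ hne
      have hu : IsUnit (algebraMap B (Localization.AtPrime q'.asIdeal) ϖ) :=
        IsLocalization.map_units _ (⟨ϖ, hother q' hne⟩ : q'.asIdeal.primeCompl)
      rw [Ring.ord_of_isUnit hu, zero_mul]
    · intro h
      exact absurd (Finset.mem_univ q) h
  -- the right hand side
  have hR : ∑ q'' : MaximalSpectrum C,
      Ring.ord (Localization.AtPrime q''.asIdeal) (algebraMap C _ (β ϖ)) *
        Module.length A (C ⧸ q''.asIdeal) =
      ∑ q'' ∈ Finset.univ.filter (fun q'' => under β hint q'' = q),
        Ring.ord (Localization.AtPrime q''.asIdeal)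
          (locHom β hint q'' (π (under β hint q''))) * Module.length A (C ⧸ q''.asIdeal) := by
    rw [← Finset.sum_filter_of_ne (p := fun q'' => under β hint q'' = q)]
    · apply Finset.sum_congr rfl
      intro q'' hq''
      have hq : under β hint q'' = q := (Finset.mem_filter.1 hq'').2
      have hR' : ∃ w : (Localization.AtPrime (under β hint q'').asIdeal)ˣ,
          algebraMap B (Localization.AtPrime (under β hint q'').asIdeal) ϖ =
            w * π (under β hint q'') := by
        rw [hq]
        exact hw
      obtain ⟨w, hw'⟩ := hR'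
      congr 1
      rw [← locHom_algebraMap β hint q'' ϖ, hw', map_mul,
        Ring.ord_mul_of_isUnit_left (w.isUnit.map (locHom β hint q''))]
    · intro q'' _ hne
      by_contra hq
      apply hne
      have hnot : ϖ ∉ (under β hint q'').asIdeal := hother _ hq
      have hu : IsUnit (algebraMap C (Localization.AtPrime q''.asIdeal) (β ϖ)) :=
        IsLocalization.map_units _ (⟨β ϖ, hnot⟩ : q''.asIdeal.primeCompl)
      rw [Ring.ord_of_isUnit hu, zero_mul]
  rw [← hL, ← hB1, hBC, hC1, hR]

end Numeric

section Norms

variable {A : Type u} [CommRing A] [IsLocalRing A]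
variable {B : Type u} [CommRing B] [Algebra A B]
variable {C : Type u} [CommRing C] [Algebra A C]
variable (β : B →ₐ[A] C) (hint : β.toRingHom.IsIntegral)
variable [∀ q : MaximalSpectrum B, IsLocalHom (algebraMap A (Localization.AtPrime q.asIdeal))]
variable [∀ q : MaximalSpectrum C, IsLocalHom (algebraMap A (Localization.AtPrime q.asIdeal))]

/-- The residue degree of `q''` over the maximal ideal of `B` below it. -/
noncomputable def resDeg (q'' : MaximalSpectrum C) : ℕ :=
  letI := (ResidueField.map (locHom β hint q'')).toAlgebra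
  Module.finrank (ResidueField (Localization.AtPrime (under β hint q'').asIdeal))
    (ResidueField (Localization.AtPrime q''.asIdeal))

theorem resField_tower (q'' : MaximalSpectrum C) :
    letI := (ResidueField.map (locHom β hint q'')).toAlgebra
    IsScalarTower (ResidueField A)
      (ResidueField (Localization.AtPrime (under β hint q'').asIdeal))
      (ResidueField (Localization.AtPrime q''.asIdeal)) := by
  letI := (ResidueField.map (locHom β hint q'')).toAlgebra
  apply IsScalarTower.of_algebraMap_eq
  intro x
  obtain ⟨a, rfl⟩ := residue_surjective x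
  show ResidueField.map (algebraMap A (Localization.AtPrime q''.asIdeal)) (residue A a) =
    ResidueField.map (locHom β hint q'')
      (ResidueField.map (algebraMap A (Localization.AtPrime (under β hint q'').asIdeal))
        (residue A a))
  rw [ResidueField.map_residue, ResidueField.map_residue, ResidueField.map_residue,
    locHom_algebraMap_base]

theorem norm_map_eq (q'' : MaximalSpectrum C)
    (y : ResidueField (Localization.AtPrime (under β hint q'').asIdeal)) :
    Algebra.norm (ResidueField A) (ResidueField.map (locHom β hint q'') y) =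
      (Algebra.norm (ResidueField A) y) ^ resDeg β hint q'' := by
  letI := (ResidueField.map (locHom β hint q'')).toAlgebra
  haveI := resField_tower β hint q''
  have h1 : ResidueField.map (locHom β hint q'') y =
      algebraMap (ResidueField (Localization.AtPrime (under β hint q'').asIdeal))
        (ResidueField (Localization.AtPrime q''.asIdeal)) y := rfl
  rw [h1, ← Algebra.norm_norm
    (S := ResidueField (Localization.AtPrime (under β hint q'').asIdeal)),
    Algebra.norm_algebraMap, map_pow]
  rfl

theorem finrank_eq_mul_resDeg (q'' : MaximalSpectrum C) :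
    Module.finrank (ResidueField A) (ResidueField (Localization.AtPrime q''.asIdeal)) =
      Module.finrank (ResidueField A)
        (ResidueField (Localization.AtPrime (under β hint q'').asIdeal)) * resDeg β hint q'' := by
  letI := (ResidueField.map (locHom β hint q'')).toAlgebra
  haveI := resField_tower β hint q''
  exact (Module.finrank_mul_finrank (ResidueField A)
    (ResidueField (Localization.AtPrime (under β hint q'').asIdeal))
    (ResidueField (Localization.AtPrime q''.asIdeal))).symm

end Norms

section Push

variable {A : Type u} [CommRing A] [IsLocalRing A]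
variable {B : Type u} [CommRing B] [Algebra A B]
variable {C : Type u} [CommRing C] [Algebra A C]
variable (β : B →ₐ[A] C) (hint : β.toRingHom.IsIntegral)
variable (x₁ x₂ : A)

/-- The presentation at `q''` induced by a presentation at the maximal ideal below. -/
noncomputable def Pres.push (q'' : MaximalSpectrum C)
    (P : Pres (Localization.AtPrime (under β hint q'').asIdeal)
      (algebraMap A _ x₁) (algebraMap A _ x₂))
    (h : locHom β hint q'' P.π ∈ nonZeroDivisors (Localization.AtPrime q''.asIdeal)) :
    Pres (Localization.AtPrime q''.asIdeal) (algebraMap A _ x₁) (algebraMap A _ x₂) where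
  π := locHom β hint q'' P.π
  π_mem := h
  u₁ := Units.map (locHom β hint q'' : _ →* _) P.u₁
  u₂ := Units.map (locHom β hint q'' : _ →* _) P.u₂
  e₁ := P.e₁
  e₂ := P.e₂
  fac₁ := (locHom_algebraMap_base β hint q'' x₁).symm.trans
    ((congrArg (locHom β hint q'') P.fac₁).trans (by rw [map_mul, map_pow]; rfl))
  fac₂ := (locHom_algebraMap_base β hint q'' x₂).symm.trans
    ((congrArg (locHom β hint q'') P.fac₂).trans (by rw [map_mul, map_pow]; rfl))

theorem Pres.push_theta (q'' : MaximalSpectrum C)
    (P : Pres (Localization.AtPrime (under β hint q'').asIdeal)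
      (algebraMap A _ x₁) (algebraMap A _ x₂))
    (h : locHom β hint q'' P.π ∈ nonZeroDivisors (Localization.AtPrime q''.asIdeal)) :
    (Pres.push β hint x₁ x₂ q'' P h).theta =
      (ResidueField.map (locHom β hint q'') P.base) ^
        (Ring.ord (Localization.AtPrime q''.asIdeal) (locHom β hint q'' P.π)).toNat := by
  unfold Pres.theta
  congr 1
  unfold Pres.base
  simp only [map_mul, map_pow, map_inv₀, map_neg, map_one, ResidueField.map_residue]
  rfl

/-- The image of the local parameter is again a nonzerodivisor when `x₁ x₂` is a nonunit which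
is regular on `C`. -/
theorem locHom_pi_mem_nonZeroDivisors
    [∀ q : MaximalSpectrum B, IsLocalHom (algebraMap A (Localization.AtPrime q.asIdeal))]
    (hx : x₁ * x₂ ∈ maximalIdeal A) (hreg : algebraMap A C (x₁ * x₂) ∈ nonZeroDivisors C)
    (q'' : MaximalSpectrum C)
    (P : Pres (Localization.AtPrime (under β hint q'').asIdeal)
      (algebraMap A _ x₁) (algebraMap A _ x₂)) :
    locHom β hint q'' P.π ∈ nonZeroDivisors (Localization.AtPrime q''.asIdeal) := by
  have hreg' : algebraMap A (Localization.AtPrime q''.asIdeal) x₁ ∈ nonZeroDivisors _ ∧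
      algebraMap A (Localization.AtPrime q''.asIdeal) x₂ ∈ nonZeroDivisors _ := by
    have h1 : algebraMap C (Localization.AtPrime q''.asIdeal) (algebraMap A C (x₁ * x₂)) ∈
        nonZeroDivisors (Localization.AtPrime q''.asIdeal) :=
      IsLocalization.map_nonZeroDivisors_le q''.asIdeal.primeCompl _
        (Submonoid.mem_map_of_mem _ hreg)
    rw [← IsScalarTower.algebraMap_apply, map_mul] at h1
    exact mul_mem_nonZeroDivisors.1 h1
  have hpos : 1 ≤ P.e₁ ∨ 1 ≤ P.e₂ := by
    by_contra hcon
    push_neg at hcon
    have h1 : P.e₁ = 0 := by omega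
    have h2 : P.e₂ = 0 := by omega
    have hu : IsUnit (algebraMap A (Localization.AtPrime (under β hint q'').asIdeal) (x₁ * x₂)) := by
      have f1 := P.fac₁
      have f2 := P.fac₂
      rw [h1, pow_zero, mul_one] at f1
      rw [h2, pow_zero, mul_one] at f2
      have hu1 : IsUnit (algebraMap A (Localization.AtPrime (under β hint q'').asIdeal) x₁) := by
        rw [f1]; exact P.u₁.isUnit
      have hu2 : IsUnit (algebraMap A (Localization.AtPrime (under β hint q'').asIdeal) x₂) := by
        rw [f2]; exact P.u₂.isUnit
      rw [map_mul]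
      exact hu1.mul hu2
    exact hx (isUnit_of_map_unit _ _ hu)
  rcases hpos with h | h
  · have h3 := hreg'.1
    rw [← locHom_algebraMap_base β hint q'' x₁,
      (congrArg (locHom β hint q'') P.fac₁), map_mul, map_pow] at h3
    have h4 := (mul_mem_nonZeroDivisors.1 h3).2
    obtain ⟨n, hn⟩ : ∃ n, P.e₁ = n + 1 := ⟨P.e₁ - 1, by omega⟩
    rw [hn, pow_succ] at h4
    exact (mul_mem_nonZeroDivisors.1 h4).2
  · have h3 := hreg'.2
    rw [← locHom_algebraMap_base β hint q'' x₂,
      (congrArg (locHom β hint q'') P.fac₂), map_mul, map_pow] at h3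
    have h4 := (mul_mem_nonZeroDivisors.1 h3).2
    obtain ⟨n, hn⟩ : ∃ n, P.e₂ = n + 1 := ⟨P.e₂ - 1, by omega⟩
    rw [hn, pow_succ] at h4
    exact (mul_mem_nonZeroDivisors.1 h4).2

end Push

section Main

variable {A : Type u} [CommRing A] [IsNoetherianRing A] [IsLocalRing A]
variable {B : Type u} [CommRing B] [Algebra A B] [Module.Finite A B]
variable {C : Type u} [CommRing C] [Algebra A C] [Module.Finite A C]
variable (β : B →ₐ[A] C)
variable [∀ q : MaximalSpectrum B, IsLocalHom (algebraMap A (Localization.AtPrime q.asIdeal))]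
variable [∀ q : MaximalSpectrum C, IsLocalHom (algebraMap A (Localization.AtPrime q.asIdeal))]
variable (x₁ x₂ : A)

theorem isIntegral_of_finite : β.toRingHom.IsIntegral := by
  apply RingHom.IsIntegral.tower_top (algebraMap A B) β.toRingHom
  have : β.toRingHom.comp (algebraMap A B) = algebraMap A C := by
    ext a
    exact β.commutes a
  rw [this]
  exact algebraMap_isIntegral_iff.2 inferInstance

theorem noeth_dim_atPrime (hA : ringKrullDim A ≤ 1) (q : MaximalSpectrum B) :
    IsNoetherianRing (Localization.AtPrime q.asIdeal) ∧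
      Ring.KrullDimLE 1 (Localization.AtPrime q.asIdeal) := by
  haveI : IsNoetherianRing B := IsNoetherianRing.of_finite A B
  refine ⟨IsLocalization.isNoetherianRing q.asIdeal.primeCompl _ inferInstance, ?_⟩
  exact (Order.krullDimLE_iff 1 _).2 (krullDimLE_one_atPrime hA q.asIdeal)

/-- Refinement invariance: the product of the norms of the local symbols is the same for a
finite extension `B` of `A` and for a larger one `C`. -/
theorem prod_norm_theta_eq (hA : ringKrullDim A ≤ 1) (hβ : Function.Injective β)
    (hcoker : Module.length A (C ⧸ LinearMap.range β.toLinearMap) ≠ ⊤)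
    (hx : x₁ * x₂ ∈ maximalIdeal A) (hreg : algebraMap A C (x₁ * x₂) ∈ nonZeroDivisors C)
    [Fintype (MaximalSpectrum B)] [Fintype (MaximalSpectrum C)]
    (P : ∀ q : MaximalSpectrum B, Pres (Localization.AtPrime q.asIdeal)
      (algebraMap A _ x₁) (algebraMap A _ x₂))
    (P'' : ∀ q : MaximalSpectrum C, Pres (Localization.AtPrime q.asIdeal)
      (algebraMap A _ x₁) (algebraMap A _ x₂)) :
    ∏ q'', Algebra.norm (ResidueField A) (P'' q'').theta =
      ∏ q, Algebra.norm (ResidueField A) (P q).theta := by
  classical
  have hint : β.toRingHom.IsIntegral := isIntegral_of_finite β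
  have hπ : ∀ q, (P q).π ∈ nonZeroDivisors (Localization.AtPrime q.asIdeal) := fun q => (P q).π_mem
  set G : MaximalSpectrum B → ResidueField A := fun q => Algebra.norm (ResidueField A) (P q).base
    with hG
  set m'' : MaximalSpectrum C → ℕ := fun q'' =>
    (Ring.ord (Localization.AtPrime q''.asIdeal)
      (locHom β hint q'' (P (under β hint q'')).π)).toNat with hm''
  have key : ∀ q'' : MaximalSpectrum C, Algebra.norm (ResidueField A) (P'' q'').theta =
      G (under β hint q'') ^ (resDeg β hint q'' * m'' q'') := by
    intro q''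
    obtain ⟨h1, h2⟩ := noeth_dim_atPrime (A := A) hA q''
    have hnzd := locHom_pi_mem_nonZeroDivisors β hint x₁ x₂ hx hreg q'' (P (under β hint q''))
    rw [Pres.theta_eq (P'' q'') (Pres.push β hint x₁ x₂ q'' (P _) hnzd), Pres.push_theta, map_pow,
      norm_map_eq, ← pow_mul]
  have keyB : ∀ q : MaximalSpectrum B, Algebra.norm (ResidueField A) (P q).theta =
      G q ^ (Ring.ord (Localization.AtPrime q.asIdeal) (P q).π).toNat := by
    intro q
    unfold Pres.theta
    rw [map_pow]
  rw [← Finset.prod_fiberwise Finset.univ (under β hint)]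
  apply Finset.prod_congr rfl
  intro q _
  have h1 : ∀ q'' ∈ Finset.univ.filter (fun q'' => under β hint q'' = q),
      Algebra.norm (ResidueField A) (P'' q'').theta = G q ^ (resDeg β hint q'' * m'' q'') := by
    intro q'' hq''
    rw [key q'', (Finset.mem_filter.1 hq'').2]
  rw [Finset.prod_congr rfl h1, Finset.prod_pow_eq_pow_sum, keyB q]
  congr 1
  -- the numerical identity
  have hnum := ord_mul_length_eq_sum β hint hA hβ hcoker (x₁ * x₂) hx hreg
    (fun q => (P q).π) hπ q
  obtain ⟨hN, hD⟩ := noeth_dim_atPrime (A := A) hA q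
  have hfin : Ring.ord (Localization.AtPrime q.asIdeal) (P q).π ≠ ⊤ := Ring.ord_ne_top (hπ q)
  obtain ⟨mq, hmq⟩ := ENat.ne_top_iff_exists.1 hfin
  rw [← hmq, ENat.toNat_coe]
  haveI := q.isMaximal
  have hf : Module.length A (B ⧸ q.asIdeal) =
      Module.finrank (ResidueField A) (ResidueField (Localization.AtPrime q.asIdeal)) :=
    Groth.Agent.Lib.Helper18.NormOrd.length_quot_eq_finrank A B (Localization.AtPrime q.asIdeal)
      q.asIdeal
  set f := Module.finrank (ResidueField A) (ResidueField (Localization.AtPrime q.asIdeal)) with hfdef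
  have hfpos : f ≠ 0 := by
    intro h0
    rw [h0] at hf
    have : Nontrivial (B ⧸ q.asIdeal) := Ideal.Quotient.nontrivial_iff.2 q.isMaximal.ne_top
    have hpos := Module.length_pos (R := A) (M := B ⧸ q.asIdeal)
    rw [hf] at hpos
    simp at hpos
  have hsum : ∑ q'' ∈ Finset.univ.filter (fun q'' => under β hint q'' = q),
      Ring.ord (Localization.AtPrime q''.asIdeal)
        (locHom β hint q'' (P (under β hint q'')).π) * Module.length A (C ⧸ q''.asIdeal) =
      ((∑ q'' ∈ Finset.univ.filter (fun q'' => under β hint q'' = q),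
        m'' q'' * (f * resDeg β hint q'') : ℕ) : ℕ∞) := by
    push_cast
    apply Finset.sum_congr rfl
    intro q'' hq''
    have hq : under β hint q'' = q := (Finset.mem_filter.1 hq'').2
    obtain ⟨hN'', hD''⟩ := noeth_dim_atPrime (A := A) hA q''
    have hnzd := locHom_pi_mem_nonZeroDivisors β hint x₁ x₂ hx hreg q'' (P (under β hint q''))
    have hfin'' := Ring.ord_ne_top hnzd
    obtain ⟨n, hn⟩ := ENat.ne_top_iff_exists.1 hfin''
    have hm : m'' q'' = n := by
      simp only [hm'']
      rw [← hn, ENat.toNat_coe]
    haveI := q''.isMaximal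
    have hf'' : Module.length A (C ⧸ q''.asIdeal) =
        Module.finrank (ResidueField A) (ResidueField (Localization.AtPrime q''.asIdeal)) :=
      Groth.Agent.Lib.Helper18.NormOrd.length_quot_eq_finrank A C
        (Localization.AtPrime q''.asIdeal) q''.asIdeal
    rw [hf'', finrank_eq_mul_resDeg β hint q'', ← hn, hm, hq]
    push_cast
    rfl
  rw [hsum, hf, ← hmq] at hnum
  have hnum' : mq * f = ∑ q'' ∈ Finset.univ.filter (fun q'' => under β hint q'' = q),
      m'' q'' * (f * resDeg β hint q'') := by
    exact_mod_cast hnum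
  have h3 : f * mq = f * ∑ q'' ∈ Finset.univ.filter (fun q'' => under β hint q'' = q),
      resDeg β hint q'' * m'' q'' := by
    rw [mul_comm f mq, hnum', Finset.mul_sum]
    apply Finset.sum_congr rfl
    intro q'' _
    ring
  exact (Nat.eq_of_mul_eq_mul_left (Nat.pos_of_ne_zero hfpos) h3).symm

end Main

end Groth.Agent.Lib.Helper18.Tame
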