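import Mathlib
import Groth.Prelude.Def_Tame
import Groth.Agent.Lib.Helper18.Tame.Refine
import Groth.Agent.Lib.Helper18.Tame.Embed
import Groth.Agent.Lib.Helper18.Tame.FinSub

/-!
# Independence of the tame symbol from the choice of tame data
-/

set_option autoImplicit false
universe u

namespace Groth.Agent.Lib.Helper18.Tame

open IsLocalRing CycAlg

section LocalHom

theorem isLocalHom_atPrime_of_integral (A C : Type*) [CommRing A] [IsLocalRing A] [CommRing C]
    [Algebra A C] [Algebra.IsIntegral A C] (q : MaximalSpectrum C) :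
    IsLocalHom (algebraMap A (Localization.AtPrime q.asIdeal)) := by
  constructor
  intro a ha
  haveI := q.isMaximal
  rw [IsScalarTower.algebraMap_apply A C (Localization.AtPrime q.asIdeal),
    IsLocalization.AtPrime.isUnit_to_map_iff (Localization.AtPrime q.asIdeal) q.asIdeal] at ha
  by_contra hnu
  apply ha
  have h1 : a ∈ maximalIdeal A := (mem_maximalIdeal a).2 hnu
  rw [← under_eq_maximalIdeal A C q.asIdeal] at h1
  exact h1

end LocalHom

section Data

variable {A : Type u} [CommRing A] [IsLocalRing A] {a₁ a₂ : A}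

/-- The presentation at `q` recorded by tame data. -/
def presOf (D : TameData A a₁ a₂) (q : MaximalSpectrum D.B) :
    Pres (Localization.AtPrime q.asIdeal) (algebraMap A _ a₁) (algebraMap A _ a₂) where
  π := D.π q
  π_mem := D.π_mem q
  u₁ := D.u₁ q
  u₂ := D.u₂ q
  e₁ := D.e₁ q
  e₂ := D.e₂ q
  fac₁ := D.fac₁ q
  fac₂ := D.fac₂ q

theorem localFactor_eq (D : TameData A a₁ a₂) (q : MaximalSpectrum D.B) :
    haveI := D.isLocalHom q
    D.localFactor q = Algebra.norm (ResidueField A) (presOf D q).theta := by
  unfold TameData.localFactor Pres.theta Pres.base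
  rw [map_pow]
  rfl

/-- The image of `a₁ a₂` is regular on the ring of tame data. -/
theorem regular_of_tameData (D : TameData A a₁ a₂) :
    algebraMap A D.B (a₁ * a₂) ∈ nonZeroDivisors D.B := by
  have key : ∀ b : D.B, algebraMap A D.B (a₁ * a₂) * b = 0 → b = 0 := by
    intro b hb
    apply MaximalSpectrum.toPiLocalization_injective D.B
    funext q
    rw [map_zero]
    show algebraMap D.B (Localization.AtPrime q.asIdeal) b = 0
    have h1 : algebraMap D.B (Localization.AtPrime q.asIdeal) (algebraMap A D.B (a₁ * a₂)) *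
        algebraMap D.B (Localization.AtPrime q.asIdeal) b = 0 := by
      rw [← map_mul, hb, map_zero]
    rw [← IsScalarTower.algebraMap_apply, map_mul, D.fac₁ q, D.fac₂ q] at h1
    have hnz : ((D.u₁ q : Localization.AtPrime q.asIdeal) * D.π q ^ D.e₁ q) *
        ((D.u₂ q : Localization.AtPrime q.asIdeal) * D.π q ^ D.e₂ q) ∈
        nonZeroDivisors (Localization.AtPrime q.asIdeal) :=
      mul_mem (mul_mem (D.u₁ q).isUnit.mem_nonZeroDivisors (pow_mem (D.π_mem q) _))
        (mul_mem (D.u₂ q).isUnit.mem_nonZeroDivisors (pow_mem (D.π_mem q) _))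
    exact (mem_nonZeroDivisors_iff.1 hnz).1 _ h1
  rw [mem_nonZeroDivisors_iff]
  exact ⟨key, fun b hb => key b (by rwa [mul_comm] at hb)⟩

end Data

section Main

variable {A : Type u} [CommRing A] [IsNoetherianRing A] [IsLocalRing A] {a₁ a₂ : A}

theorem value_eq_prod (D : TameData A a₁ a₂) [Fintype (MaximalSpectrum D.B)] :
    haveI := D.isLocalHom
    D.value = ∏ q, Algebra.norm (ResidueField A) (presOf D q).theta := by
  unfold TameData.value
  rw [finprod_eq_prod_of_fintype]
  exact Finset.prod_congr rfl fun q _ => localFactor_eq D q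

theorem coker_finite {B C : Type u} [CommRing B] [Algebra A B] [CommRing C] [Algebra A C]
    [Module.Finite A C] (hC : IsFinExt A C (maximalIdeal A)) (β : B →ₐ[A] C) :
    Module.length A (C ⧸ LinearMap.range β.toLinearMap) ≠ ⊤ := by
  obtain ⟨-, -, n, hn⟩ := hC
  apply length_quot_ne_top_of_pow_smul_le _ n
  intro r hr x
  obtain ⟨r', hr'⟩ := hn r hr x
  exact ⟨algebraMap A B r', by
    rw [AlgHom.toLinearMap_apply, AlgHom.commutes]
    exact hr'⟩

/-- Independence of the value of tame data, when `a₁ a₂` is not a unit. -/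
theorem value_eq_of_nonunit (hA : ringKrullDim A ≤ 1) (h₁ : a₁ ∈ nonZeroDivisors A)
    (h₂ : a₂ ∈ nonZeroDivisors A) (hx : a₁ * a₂ ∈ maximalIdeal A) (D D' : TameData A a₁ a₂) :
    D.value = D'.value := by
  classical
  let Q := FractionRing A
  obtain ⟨ι, hι⟩ := exists_embedding (Q := Q) D.isFinExt (a₁ * a₂) hx (mul_mem h₁ h₂)
    (regular_of_tameData D)
  obtain ⟨ι', hι'⟩ := exists_embedding (Q := Q) D'.isFinExt (a₁ * a₂) hx (mul_mem h₁ h₂)
    (regular_of_tameData D')
  haveI : Module.Finite A D.B := D.isFinExt.2.1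
  haveI : Module.Finite A D'.B := D'.isFinExt.2.1
  haveI : Module.Finite A ι.range :=
    Module.Finite.of_surjective ι.rangeRestrict.toLinearMap ι.rangeRestrict_surjective
  haveI : Module.Finite A ι'.range :=
    Module.Finite.of_surjective ι'.rangeRestrict.toLinearMap ι'.rangeRestrict_surjective
  let C : Subalgebra A Q := ι.range ⊔ ι'.range
  haveI : Module.Finite A C := Subalgebra.finite_sup _ _
  let β : D.B →ₐ[A] C := (Subalgebra.inclusion le_sup_left).comp ι.rangeRestrict
  let β' : D'.B →ₐ[A] C := (Subalgebra.inclusion le_sup_right).comp ι'.rangeRestrict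
  have hβ : Function.Injective β := by
    intro x y hxy
    apply hι
    have := congrArg (fun z : C => (z : Q)) hxy
    exact this
  have hβ' : Function.Injective β' := by
    intro x y hxy
    apply hι'
    have := congrArg (fun z : C => (z : Q)) hxy
    exact this
  have hC : IsFinExt A C (maximalIdeal A) := isFinExt hA C
  have hreg : algebraMap A C (a₁ * a₂) ∈ nonZeroDivisors C := by
    refine mem_nonZeroDivisors_of_injective (f := C.val) Subtype.val_injective ?_
    have hu : IsUnit (algebraMap A Q (a₁ * a₂)) :=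
      IsLocalization.map_units Q (⟨a₁ * a₂, mul_mem h₁ h₂⟩ : nonZeroDivisors A)
    exact hu.mem_nonZeroDivisors
  haveI : ∀ q'' : MaximalSpectrum C,
      IsLocalHom (algebraMap A (Localization.AtPrime q''.asIdeal)) :=
    isLocalHom_atPrime_of_integral A C
  haveI := D.isLocalHom
  haveI := D'.isLocalHom
  haveI : Finite (MaximalSpectrum D.B) := finite_maximalSpectrum_of_finite A D.B
  haveI : Finite (MaximalSpectrum D'.B) := finite_maximalSpectrum_of_finite A D'.B
  haveI : Finite (MaximalSpectrum C) := finite_maximalSpectrum_of_finite A C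
  haveI : Fintype (MaximalSpectrum D.B) := Fintype.ofFinite _
  haveI : Fintype (MaximalSpectrum D'.B) := Fintype.ofFinite _
  haveI : Fintype (MaximalSpectrum C) := Fintype.ofFinite _
  have hint : β.toRingHom.IsIntegral := isIntegral_of_finite β
  let P'' : ∀ q'' : MaximalSpectrum C, Pres (Localization.AtPrime q''.asIdeal)
      (algebraMap A _ a₁) (algebraMap A _ a₂) := fun q'' =>
    Pres.push β hint a₁ a₂ q'' (presOf D (under β hint q''))
      (locHom_pi_mem_nonZeroDivisors β hint a₁ a₂ hx hreg q'' _)
  rw [value_eq_prod D, value_eq_prod D',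
    ← prod_norm_theta_eq β a₁ a₂ hA hβ (coker_finite hC β) hx hreg (presOf D) P'',
    ← prod_norm_theta_eq β' a₁ a₂ hA hβ' (coker_finite hC β') hx hreg (presOf D') P'']

omit [IsNoetherianRing A] in
/-- If both entries are units, every choice of tame data has value one. -/
theorem value_eq_one_of_units (hu₁ : IsUnit a₁) (hu₂ : IsUnit a₂) (D : TameData A a₁ a₂) :
    D.value = 1 := by
  unfold TameData.value
  apply finprod_eq_one_of_forall_eq_one
  intro q
  unfold TameData.localFactor
  by_cases hπ : IsUnit (D.π q)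
  · rw [Ring.ord_of_isUnit hπ]
    simp
  · have key : ∀ (x : A) (u : (Localization.AtPrime q.asIdeal)ˣ) (e : ℕ), IsUnit x →
        algebraMap A (Localization.AtPrime q.asIdeal) x =
          (u : Localization.AtPrime q.asIdeal) * D.π q ^ e → e = 0 := by
      intro x u e hx hfac
      by_contra he
      apply hπ
      have h1 : IsUnit ((u : Localization.AtPrime q.asIdeal) * D.π q ^ e) := by
        rw [← hfac]
        exact hx.map _
      have h2 : IsUnit (D.π q ^ e) := isUnit_of_mul_isUnit_right h1
      exact (isUnit_pow_iff he).1 h2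
    have e1 : D.e₁ q = 0 := key a₁ (D.u₁ q) _ hu₁ (D.fac₁ q)
    have e2 : D.e₂ q = 0 := key a₂ (D.u₂ q) _ hu₂ (D.fac₂ q)
    rw [e1, e2]
    simp

end Main

end Groth.Agent.Lib.Helper18.Tame
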