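import Mathlib

/-!
# Integrality of the partial Horner sums of an algebraic relation
-/

set_option autoImplicit false
universe u

namespace Groth.Agent.Lib.Helper18.Tame

open Polynomial

section

variable {Q : Type*} [CommRing Q] (x : Q) (c : ℕ → Q) (n : ℕ)
  (Y : ℕ → Q)

theorem horner_rel (hrel : ∑ i ∈ Finset.range (n + 1), c i * x ^ i = 0) (hY0 : Y 0 = 0)
    (hY : ∀ k, Y (k + 1) = x * Y k + c (n - k)) :
    ∀ k ≤ n + 1, x ^ (n + 1 - k) * Y k + ∑ i ∈ Finset.range (n + 1 - k), c i * x ^ i = 0 := by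
  intro k
  induction k with
  | zero => intro _; simpa [hY0] using hrel
  | succ k ih =>
    intro hk
    have h0 := ih (by omega)
    have e1 : n + 1 - k = (n - k) + 1 := by omega
    have e2 : n + 1 - (k + 1) = n - k := by omega
    rw [e1, Finset.sum_range_succ] at h0
    rw [e2, hY k, ← h0]
    ring

theorem horner_last (hrel : ∑ i ∈ Finset.range (n + 1), c i * x ^ i = 0) (hY0 : Y 0 = 0)
    (hY : ∀ k, Y (k + 1) = x * Y k + c (n - k)) : Y (n + 1) = 0 := by
  simpa using horner_rel x c n Y hrel hY0 hY (n + 1) le_rfl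

end

theorem isIntegral_of_monic_rel {A Q : Type*} [CommRing A] [CommRing Q] [Algebra A Q] (z : Q)
    (m : ℕ) (d : ℕ → A)
    (h : z ^ m + ∑ i ∈ Finset.range m, algebraMap A Q (d i) * z ^ i = 0) : IsIntegral A z := by
  refine ⟨X ^ m + ∑ i ∈ Finset.range m, C (d i) * X ^ i, ?_, ?_⟩
  · apply Polynomial.monic_X_pow_add
    refine (Polynomial.degree_sum_le _ _).trans_lt ?_
    rw [Finset.sup_lt_iff (by exact WithBot.bot_lt_coe m)]
    intro i hi
    refine (Polynomial.degree_C_mul_X_pow_le i (d i)).trans_lt ?_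
    exact_mod_cast Finset.mem_range.1 hi
  · simpa [Polynomial.eval₂_finset_sum] using h

theorem horner_isIntegral {R Q : Type*} [CommRing R] [CommRing Q] [Algebra R Q] (x : Q)
    (c : ℕ → Q) (hc : ∀ i, IsIntegral R (c i)) (n : ℕ) (Y : ℕ → Q)
    (hrel : ∑ i ∈ Finset.range (n + 1), c i * x ^ i = 0) (hY0 : Y 0 = 0)
    (hY : ∀ k, Y (k + 1) = x * Y k + c (n - k)) :
    ∀ k ≤ n + 1, IsIntegral R (Y k) := by
  intro k
  induction k with
  | zero => intro _; rw [hY0]; exact isIntegral_zero
  | succ k ih =>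
    intro hk
    have hYk := ih (by omega)
    rw [hY k]
    refine IsIntegral.add ?_ (hc _)
    have hP := horner_rel x c n Y hrel hY0 hY k (by omega)
    obtain ⟨m, hm⟩ : ∃ m, n + 1 - k = m + 1 := ⟨n - k, by omega⟩
    rw [hm] at hP
    -- the monic relation for `x * Y k`
    have hrel2 : (x * Y k) ^ (m + 1) +
        ∑ i ∈ Finset.range (m + 1), (c i * Y k ^ (m - i)) * (x * Y k) ^ i = 0 := by
      have h2 : Y k ^ m * (x ^ (m + 1) * Y k + ∑ i ∈ Finset.range (m + 1), c i * x ^ i) = 0 := by
        rw [hP, mul_zero]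
      rw [mul_add, Finset.mul_sum] at h2
      rw [← h2]
      congr 1
      · ring
      · apply Finset.sum_congr rfl
        intro i hi
        have him : i ≤ m := Nat.lt_succ_iff.1 (Finset.mem_range.1 hi)
        have : Y k ^ m = Y k ^ (m - i) * Y k ^ i := by
          rw [← pow_add, Nat.sub_add_cancel him]
        rw [this]
        ring
    let IC := integralClosure R Q
    have hz : IsIntegral IC (x * Y k) := by
      apply isIntegral_of_monic_rel (A := IC) (x * Y k) (m + 1)
        (fun i => (⟨c i, hc i⟩ : IC) * (⟨Y k, hYk⟩ : IC) ^ (m - i))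
      exact hrel2
    exact isIntegral_trans (A := IC) _ hz

end Groth.Agent.Lib.Helper18.Tame
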