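import Mathlib
import Groth.Agent.Lib.Helper18.Tame.FinSub
import Groth.Agent.Lib.Helper18.Tame.Horner
import Groth.Agent.Lib.Helper18.Tame.SemiLocal

/-!
# Common factors after a finite extension (semilocal version, inside the total ring of fractions)
-/

set_option autoImplicit false
universe u

namespace Groth.Agent.Lib.Helper18.Tame

open Groth.Agent.Lib.Helper2.RelLength

section Comb

variable {A : Type u} [CommRing A] {Q : Type u} [CommRing Q] [Algebra A Q]

/-- `C`-linear combinations of `g 0, …, g (k-1)`, as an `A`-submodule. -/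
def comb (C : Subalgebra A Q) (g : ℕ → Q) (k : ℕ) : Submodule A Q where
  carrier := {y | ∃ r : ℕ → Q, (∀ i, r i ∈ C) ∧ y = ∑ i ∈ Finset.range k, r i * g i}
  add_mem' := by
    rintro _ _ ⟨r, hr, rfl⟩ ⟨r', hr', rfl⟩
    exact ⟨r + r', fun i => C.add_mem (hr i) (hr' i), by simp [add_mul, Finset.sum_add_distrib]⟩
  zero_mem' := ⟨0, fun i => C.zero_mem, by simp⟩
  smul_mem' := by
    rintro c _ ⟨r, hr, rfl⟩
    exact ⟨fun i => c • r i, fun i => C.smul_mem (hr i) c, by simp [Finset.smul_sum]⟩

theorem mem_comb {C : Subalgebra A Q} {g : ℕ → Q} {k : ℕ} {y : Q} :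
    y ∈ comb C g k ↔ ∃ r : ℕ → Q, (∀ i, r i ∈ C) ∧ y = ∑ i ∈ Finset.range k, r i * g i :=
  Iff.rfl

theorem comb_mono (C : Subalgebra A Q) (g : ℕ → Q) {k k' : ℕ} (h : k ≤ k') :
    comb C g k ≤ comb C g k' := by
  classical
  rintro _ ⟨r, hr, rfl⟩
  refine ⟨fun i => if i < k then r i else 0, fun i => ?_, ?_⟩
  · by_cases hi : i < k
    · simp only [hi, if_true]; exact hr i
    · simp only [hi, if_false]; exact C.zero_mem
  · rw [← Finset.sum_subset (Finset.range_subset_range.2 h)]
    · apply Finset.sum_congr rfl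
      intro i hi
      simp [Finset.mem_range.1 hi]
    · intro i _ hi
      have : ¬ i < k := fun h' => hi (Finset.mem_range.2 h')
      simp [this]

theorem mul_mem_comb (C : Subalgebra A Q) (g : ℕ → Q) {k i : ℕ} (hi : i < k) {z : Q}
    (hz : z ∈ C) : z * g i ∈ comb C g k := by
  classical
  refine ⟨fun j => if j = i then z else 0, fun j => ?_, ?_⟩
  · by_cases hj : j = i
    · simp only [hj, if_true]; exact hz
    · simp only [hj, if_false]; exact C.zero_mem
  · simp only [ite_mul, zero_mul]
    rw [Finset.sum_ite_eq' (Finset.range k) i]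
    simp [hi]

theorem sm_comb_le (C : Subalgebra A Q) (g : ℕ → Q) (k : ℕ) {b : Q} (hb : b ∈ C) :
    sm b (comb C g k) ≤ comb C g k := by
  intro y hy
  obtain ⟨_, ⟨r, hr, rfl⟩, rfl⟩ := mem_sm.1 hy
  exact ⟨fun i => b * r i, fun i => C.mul_mem hb (hr i), by
    rw [Finset.mul_sum]; exact Finset.sum_congr rfl fun i _ => by ring⟩

theorem comb_zero (C : Subalgebra A Q) (g : ℕ → Q) : comb C g 0 = ⊥ := by
  rw [eq_bot_iff]
  rintro _ ⟨r, _, rfl⟩
  simp

theorem comb_le (C : Subalgebra A Q) (g : ℕ → Q) (hg : ∀ i, g i ∈ C) (k : ℕ) :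
    comb C g k ≤ Subalgebra.toSubmodule C := by
  rintro _ ⟨r, hr, rfl⟩
  exact Subalgebra.sum_mem _ fun i _ => C.mul_mem (hr i) (hg i)

end Comb

section Rel

variable {A : Type u} [CommRing A] [IsNoetherianRing A] [IsLocalRing A]
  {Q : Type u} [CommRing Q] [Algebra A Q] [IsFractionRing A Q]

/-- A homogeneous relation between `a` and `b` with coefficients in `C`, one of which is
`b * s - 1`. -/
theorem exists_unit_relation_sub (hA : ringKrullDim A ≤ 1) (C : Subalgebra A Q)
    [Module.Finite A C] (a b : Q) (ha : a ∈ C) (hb : b ∈ C) (hub : IsUnit b) :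
    ∃ (n : ℕ) (c : ℕ → Q) (k : ℕ), k ≤ n ∧ (∀ i, c i ∈ C) ∧ (∃ s ∈ C, c k = b * s - 1) ∧
      ∑ i ∈ Finset.range (n + 1), c i * (a ^ i * b ^ (n - i)) = 0 := by
  classical
  set f : Q →ₗ[A] Q := LinearMap.mulLeft A b with hf
  set Cm : Submodule A Q := Subalgebra.toSubmodule C with hCm
  have hfin : ordC C b ≠ ⊤ := ordC_ne_top hA C hub
  obtain ⟨n, hn⟩ := ENat.ne_top_iff_exists.1 hfin
  set g : ℕ → Q := fun i => a ^ i * b ^ (n - i) with hg
  have hgC : ∀ i, g i ∈ C := fun i => C.mul_mem (C.pow_mem ha _) (C.pow_mem hb _)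
  set J : Submodule A Q := comb C g (n + 1) with hJ
  have hJC : J ≤ Cm := comb_le C g hgC _
  have hbn : sm (b ^ n) Cm ≤ J := by
    intro y hy
    obtain ⟨z, hz, rfl⟩ := mem_sm.1 hy
    have := mul_mem_comb C g (k := n + 1) (i := 0) (Nat.succ_pos n) hz
    simpa [hg, mul_comm] using this
  have hJfin : rl J Cm ≠ ⊤ := by
    have h1 : rl (sm (b ^ n) Cm) Cm ≠ ⊤ := ordC_ne_top hA C (hub.pow n)
    exact ne_top_of_le_ne_top h1 (rl_le_of_le_left hbn hJC)
  have hlen : rl (sm b J) J = (n : ℕ∞) := by
    rw [hn]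
    exact rl_map_eq_of_le f (mulLeft_injective hub) J Cm hJC (sm_le C hb) (sm_comb_le C g _ hb)
      hJfin
  let K : ℕ → Submodule A Q := fun k => sm b J ⊔ comb C g k
  have hKmono : Monotone K := fun k k' hkk' => sup_le_sup_left (comb_mono C g hkk') _
  have hK0 : K 0 = sm b J := by simp [K, comb_zero]
  have hKn : K (n + 1) = J := sup_of_le_right (sm_comb_le C g _ hb)
  obtain ⟨k, hkn, hk⟩ := exists_le_of_rl_le K hKmono n (by rw [hK0, hKn, hlen])
  have hgk : g k ∈ K k := by
    apply hk
    apply Submodule.mem_sup_right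
    have := mul_mem_comb C g (k := k + 1) (i := k) (Nat.lt_succ_self k) C.one_mem
    simpa using this
  obtain ⟨y', hy', z, hz, hyz⟩ := Submodule.mem_sup.1 hgk
  obtain ⟨y, hy, rfl⟩ := mem_sm.1 hy'
  obtain ⟨ly, hly, rfl⟩ := hy
  obtain ⟨lz, hlz, rfl⟩ := hz
  have e2 : ∑ i ∈ Finset.range k, lz i * g i =
      ∑ i ∈ Finset.range (n + 1), (if i < k then lz i else 0) * g i := by
    rw [← Finset.sum_subset (Finset.range_subset_range.2 (Nat.le_succ_of_le hkn))]
    · apply Finset.sum_congr rfl
      intro i hi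
      simp [Finset.mem_range.1 hi]
    · intro i _ hi
      have : ¬ i < k := fun h' => hi (Finset.mem_range.2 h')
      simp [this]
  have e3 : g k = ∑ i ∈ Finset.range (n + 1), (if i = k then (1 : Q) else 0) * g i := by
    simp only [ite_mul, one_mul, zero_mul]
    rw [Finset.sum_ite_eq' (Finset.range (n + 1)) k g]
    simp [Nat.lt_succ_of_le hkn]
  refine ⟨n, fun i => b * ly i + (if i < k then lz i else 0) - (if i = k then (1 : Q) else 0),
    k, hkn, ?_, ⟨ly k, hly k, by simp⟩, ?_⟩
  · intro i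
    refine C.sub_mem (C.add_mem (C.mul_mem hb (hly i)) ?_) ?_
    · by_cases hi : i < k
      · simp only [hi, if_true]; exact hlz i
      · simp only [hi, if_false]; exact C.zero_mem
    · by_cases hi : i = k
      · simp only [hi, if_true]; exact C.one_mem
      · simp only [hi, if_false]; exact C.zero_mem
  · have : ∀ i, (b * ly i + (if i < k then lz i else 0) - (if i = k then (1 : Q) else 0)) *
        (a ^ i * b ^ (n - i))
        = b * (ly i * g i) + (if i < k then lz i else 0) * g i -
          (if i = k then (1 : Q) else 0) * g i := by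
      intro i
      simp only [hg]
      ring
    simp only [this]
    rw [Finset.sum_sub_distrib, Finset.sum_add_distrib, ← Finset.mul_sum, ← e2, ← e3, hyz,
      sub_self]

/-- After a finite extension inside the total ring of fractions, two nonzerodivisors acquire a
common factor with coprime cofactors. -/
theorem exists_common_factor (hA : ringKrullDim A ≤ 1) (C : Subalgebra A Q)
    [Module.Finite A C] (a b : Q) (ha : a ∈ C) (hb : b ∈ C) (hua : IsUnit a) (hub : IsUnit b) :
    ∃ (C' : Subalgebra A Q), C ≤ C' ∧ Module.Finite A C' ∧ ∃ t a' b' α β : Q,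
      t ∈ C' ∧ a' ∈ C' ∧ b' ∈ C' ∧ α ∈ C' ∧ β ∈ C' ∧ a = t * a' ∧ b = t * b' ∧
      α * a' + β * b' = 1 := by
  classical
  obtain ⟨n, c, k, hkn, hcC, ⟨s, hsC, hck⟩, hrel⟩ := exists_unit_relation_sub hA C a b ha hb hub
  set bi : Q := ((hub.unit⁻¹ : Qˣ) : Q) with hbi
  have hbbi : b * bi = 1 := IsUnit.mul_val_inv hub
  set x : Q := a * bi with hx
  have hxb : x * b = a := by rw [hx, mul_assoc, mul_comm bi b, hbbi, mul_one]
  have hrelx : ∑ i ∈ Finset.range (n + 1), c i * x ^ i = 0 := by
    have h1 : ∀ i ∈ Finset.range (n + 1), c i * (a ^ i * b ^ (n - i)) = (c i * x ^ i) * b ^ n := by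
      intro i hi
      have hin : i ≤ n := Nat.lt_succ_iff.1 (Finset.mem_range.1 hi)
      rw [← hxb, mul_pow, mul_assoc (x ^ i), ← pow_add, Nat.add_sub_cancel' hin]
      ring
    rw [Finset.sum_congr rfl h1, ← Finset.sum_mul] at hrel
    exact (hub.pow n).mul_left_eq_zero.1 hrel
  let Y : ℕ → Q := fun k => Nat.rec 0 (fun k yk => x * yk + c (n - k)) k
  have hY0 : Y 0 = 0 := rfl
  have hY : ∀ k, Y (k + 1) = x * Y k + c (n - k) := fun k => rfl
  have hcint : ∀ i, IsIntegral A (c i) := fun i =>
    IsIntegral.of_mem_of_fg C (Module.Finite.iff_fg.1 inferInstance) _ (hcC i)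
  have hYint := horner_isIntegral x c hcint n Y hrelx hY0 hY
  have hYlast := horner_last x c n Y hrelx hY0 hY
  let D : Subalgebra A Q := Algebra.adjoin A (Y '' (Set.Iic (n + 1)))
  haveI hDfin : Module.Finite A D := Module.Finite.iff_fg.2
    (fg_adjoin_of_finite (Set.Finite.image _ (Set.finite_Iic _))
      (by rintro _ ⟨k, hk, rfl⟩; exact hYint k hk))
  let C' : Subalgebra A Q := C ⊔ D
  haveI hC'fin : Module.Finite A C' := Subalgebra.finite_sup C D
  have hCC' : C ≤ C' := le_sup_left
  have hYC' : ∀ j ≤ n + 1, Y j ∈ C' := fun j hj =>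
    (le_sup_right : D ≤ C') (Algebra.subset_adjoin ⟨j, hj, rfl⟩)
  have hxY : ∀ j ≤ n, x * Y j ∈ C' := by
    intro j hj
    have : x * Y j = Y (j + 1) - c (n - j) := by rw [hY j]; ring
    rw [this]
    exact C'.sub_mem (hYC' (j + 1) (by omega)) (hCC' (hcC _))
  haveI : Finite (MaximalSpectrum C') := finite_maximalSpectrum_of_finite A C'
  let aS : C' := ⟨a, hCC' ha⟩
  let bS : C' := ⟨b, hCC' hb⟩
  have hloc : ∀ P : MaximalSpectrum C', ∃ f ∈ Ideal.span {aS, bS}, ∃ s ∉ P.asIdeal,
      ∀ y ∈ Ideal.span {aS, bS}, s * y ∈ Ideal.span {f} := by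
    intro P
    have haI : aS ∈ Ideal.span {aS, bS} := Ideal.subset_span (by simp)
    have hbI : bS ∈ Ideal.span {aS, bS} := Ideal.subset_span (by simp)
    by_cases hbP : bS ∈ P.asIdeal
    · let u : C' := ⟨Y (n - k + 1), hYC' (n - k + 1) (by omega)⟩
      let w : C' := ⟨x * Y (n - k), hxY (n - k) (by omega)⟩
      have huw : u - w = ⟨c k, hCC' (hcC k)⟩ := by
        apply Subtype.ext
        show Y (n - k + 1) - x * Y (n - k) = c k
        rw [hY (n - k), Nat.sub_sub_self hkn]
        ring
      have hnot : u - w ∉ P.asIdeal := by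
        intro hmem
        have h1 : bS * ⟨s, hCC' hsC⟩ - (u - w) = 1 := by
          rw [huw]
          apply Subtype.ext
          show b * s - c k = 1
          rw [hck]
          ring
        have : (1 : C') ∈ P.asIdeal := by
          rw [← h1]
          exact P.asIdeal.sub_mem (P.asIdeal.mul_mem_right _ hbP) hmem
        exact P.isMaximal.ne_top ((Ideal.eq_top_iff_one _).2 this)
      have hor : u ∉ P.asIdeal ∨ w ∉ P.asIdeal := by
        by_contra hcon
        push_neg at hcon
        exact hnot (P.asIdeal.sub_mem hcon.1 hcon.2)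
      rcases hor with hu | hw
      · refine ⟨bS, hbI, u, hu, ?_⟩
        have hk0 : 1 ≤ k := by
          by_contra hk0
          have hk0' : k = 0 := by omega
          apply hu
          have : u = 0 := by
            apply Subtype.ext
            show Y (n - k + 1) = 0
            rw [hk0', Nat.sub_zero]
            exact hYlast
          rw [this]
          exact P.asIdeal.zero_mem
        let xu : C' := ⟨x * Y (n - k + 1), hxY (n - k + 1) (by omega)⟩
        have hua' : u * aS = xu * bS := by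
          apply Subtype.ext
          show Y (n - k + 1) * a = x * Y (n - k + 1) * b
          rw [← hxb]
          ring
        intro y hy
        obtain ⟨α, β, rfl⟩ := Ideal.mem_span_pair.1 hy
        rw [Ideal.mem_span_singleton']
        refine ⟨α * xu + β * u, ?_⟩
        rw [mul_add, mul_left_comm u α, hua']
        ring
      · refine ⟨aS, haI, w, hw, ?_⟩
        let yk : C' := ⟨Y (n - k), hYC' (n - k) (by omega)⟩
        have hwb : w * bS = yk * aS := by
          apply Subtype.ext
          show x * Y (n - k) * b = Y (n - k) * a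
          rw [← hxb]
          ring
        intro y hy
        obtain ⟨α, β, rfl⟩ := Ideal.mem_span_pair.1 hy
        rw [Ideal.mem_span_singleton']
        refine ⟨α * w + β * yk, ?_⟩
        rw [mul_add, mul_left_comm w β, hwb]
        ring
    · refine ⟨bS, hbI, bS, hbP, fun y _ => ?_⟩
      rw [Ideal.mem_span_singleton']
      exact ⟨y, mul_comm _ _⟩
  obtain ⟨t, htI, hIt⟩ := exists_eq_span_singleton_of_locally _ hloc
  have haI : aS ∈ Ideal.span {t} := by rw [← hIt]; exact Ideal.subset_span (by simp)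
  have hbI : bS ∈ Ideal.span {t} := by rw [← hIt]; exact Ideal.subset_span (by simp)
  obtain ⟨a', ha'⟩ := Ideal.mem_span_singleton'.1 haI
  obtain ⟨b', hb'⟩ := Ideal.mem_span_singleton'.1 hbI
  obtain ⟨α, β, hαβ⟩ := Ideal.mem_span_pair.1 htI
  have ea : a = (t : Q) * a' := by
    have := congrArg Subtype.val ha'
    simp only [aS] at this
    rw [← this]
    exact mul_comm _ _
  have eb : b = (t : Q) * b' := by
    have := congrArg Subtype.val hb'
    simp only [bS] at this
    rw [← this]
    exact mul_comm _ _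
  have hut : IsUnit (t : Q) := isUnit_of_mul_isUnit_left (ea ▸ hua)
  refine ⟨C', hCC', hC'fin, t, a', b', α, β, t.2, a'.2, b'.2, α.2, β.2, ea, eb, ?_⟩
  have h1 : (α : Q) * a + β * b = t := congrArg Subtype.val hαβ
  rw [ea, eb] at h1
  have h2 : (t : Q) * ((α : Q) * a' + β * b') = t * 1 := by
    linear_combination h1
  exact hut.mul_left_cancel h2

end Rel

end Groth.Agent.Lib.Helper18.Tame
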