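import Mathlib

/-!
# Pairwise comaximal nonzerodivisors are monomials in one local parameter at each prime
-/

set_option autoImplicit false
universe u

namespace Groth.Agent.Lib.Helper18.Tame

theorem exists_local_monomial {B : Type*} [CommRing B] (q : Ideal B) [q.IsPrime] (S : Finset B)
    (hS : ∀ s ∈ S, s ∈ nonZeroDivisors B)
    (hcomax : ∀ s ∈ S, ∀ s' ∈ S, s ≠ s' → ∃ α β : B, α * s + β * s' = 1) :
    ∃ π : Localization.AtPrime q, π ∈ nonZeroDivisors (Localization.AtPrime q) ∧
      ∀ z ∈ Submonoid.closure (S : Set B), ∀ v : Bˣ,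
        ∃ (w : (Localization.AtPrime q)ˣ) (e : ℕ),
          algebraMap B (Localization.AtPrime q) (v * z) = w * π ^ e := by
  classical
  set L := Localization.AtPrime q with hL
  have hunit : ∀ x : B, x ∉ q → IsUnit (algebraMap B L x) := fun x hx =>
    IsLocalization.map_units L (⟨x, hx⟩ : q.primeCompl)
  have hv : ∀ v : Bˣ, IsUnit (algebraMap B L v) := fun v => v.isUnit.map _
  -- reduce to the closure statement
  suffices h : ∃ π : L, π ∈ nonZeroDivisors L ∧ ∀ z ∈ Submonoid.closure (S : Set B),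
      ∃ (w : Lˣ) (e : ℕ), algebraMap B L z = w * π ^ e by
    obtain ⟨π, hπ, h⟩ := h
    refine ⟨π, hπ, fun z hz v => ?_⟩
    obtain ⟨w, e, hw⟩ := h z hz
    refine ⟨(hv v).unit * w, e, ?_⟩
    rw [map_mul, hw, Units.val_mul, IsUnit.unit_spec, mul_assoc]
  by_cases h : ∃ s ∈ S, s ∈ q
  · obtain ⟨s₀, hs₀, hs₀q⟩ := h
    have hother : ∀ s ∈ S, s ≠ s₀ → s ∉ q := by
      intro s hs hne hsq
      obtain ⟨α, β, e⟩ := hcomax s hs s₀ hs₀ hne
      have : (1 : B) ∈ q := by
        rw [← e]
        exact q.add_mem (q.mul_mem_left _ hsq) (q.mul_mem_left _ hs₀q)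
      exact (Ideal.IsPrime.ne_top ‹_›) ((Ideal.eq_top_iff_one _).2 this)
    refine ⟨algebraMap B L s₀, ?_, ?_⟩
    · exact IsLocalization.map_nonZeroDivisors_le q.primeCompl L
        (Submonoid.mem_map_of_mem _ (hS s₀ hs₀))
    · intro z hz
      induction hz using Submonoid.closure_induction with
      | mem s hs =>
        by_cases hne : s = s₀
        · exact ⟨1, 1, by simp [hne]⟩
        · exact ⟨(hunit s (hother s hs hne)).unit, 0, by simp⟩
      | one => exact ⟨1, 0, by simp⟩
      | mul a b _ _ iha ihb =>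
        obtain ⟨w, e, hw⟩ := iha
        obtain ⟨w', e', hw'⟩ := ihb
        refine ⟨w * w', e + e', ?_⟩
        rw [map_mul, hw, hw', pow_add, Units.val_mul]
        ring
  · push_neg at h
    refine ⟨1, one_mem _, ?_⟩
    intro z hz
    induction hz using Submonoid.closure_induction with
    | mem s hs => exact ⟨(hunit s (h s hs)).unit, 0, by simp⟩
    | one => exact ⟨1, 0, by simp⟩
    | mul a b _ _ iha ihb =>
      obtain ⟨w, e, hw⟩ := iha
      obtain ⟨w', e', hw'⟩ := ihb
      refine ⟨w * w', e + e', ?_⟩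
      rw [map_mul, hw, hw', pow_add, Units.val_mul]
      ring

end Groth.Agent.Lib.Helper18.Tame
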