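import Mathlib
import Groth.Agent.Lib.Helper18.Tame.CommonFactor
import Groth.Agent.Lib.Helper18.Tame.LocalMon

/-!
# Making finitely many nonzerodivisors pairwise comaximal monomials after a finite extension
-/

set_option autoImplicit false
universe u

namespace Groth.Agent.Lib.Helper18.Tame

open Groth.Agent.Lib.Helper2.RelLength

section Defs

variable {A : Type u} [CommRing A] {Q : Type u} [CommRing Q] [Algebra A Q]

/-- `x` and `y` generate the unit ideal of `C`. -/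
def Comax (C : Subalgebra A Q) (x y : Q) : Prop := ∃ α ∈ C, ∃ β ∈ C, α * x + β * y = 1

theorem Comax.mono {C C' : Subalgebra A Q} (h : C ≤ C') {x y : Q} (hc : Comax C x y) :
    Comax C' x y := by
  obtain ⟨α, hα, β, hβ, e⟩ := hc
  exact ⟨α, h hα, β, h hβ, e⟩

theorem Comax.of_le {C C' : Subalgebra A Q} (h : C ≤ C') [Module.Finite A C'] {x y : Q}
    (hx : x ∈ C) (hy : y ∈ C) (hc : Comax C' x y) : Comax C x y := by
  obtain ⟨α, hα, β, hβ, e⟩ := hc
  let f : C →+* C' := (Subalgebra.inclusion h).toRingHom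
  have hinj : Function.Injective f := Subalgebra.inclusion_injective h
  have hint : f.IsIntegral := by
    apply RingHom.IsIntegral.tower_top (algebraMap A C) f
    have : f.comp (algebraMap A C) = algebraMap A C' := by
      ext a
      rfl
    rw [this]
    exact algebraMap_isIntegral_iff.2 inferInstance
  let I : Ideal C := Ideal.span {⟨x, hx⟩, ⟨y, hy⟩}
  have hmap : I.map f = ⊤ := by
    rw [Ideal.eq_top_iff_one]
    have h1 : f ⟨x, hx⟩ ∈ I.map f := Ideal.mem_map_of_mem f (Ideal.subset_span (by simp))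
    have h2 : f ⟨y, hy⟩ ∈ I.map f := Ideal.mem_map_of_mem f (Ideal.subset_span (by simp))
    have : (1 : C') = ⟨α, hα⟩ * f ⟨x, hx⟩ + ⟨β, hβ⟩ * f ⟨y, hy⟩ := by
      apply Subtype.ext
      exact e.symm
    rw [this]
    exact Ideal.add_mem _ (Ideal.mul_mem_left _ _ h1) (Ideal.mul_mem_left _ _ h2)
  have htop : I = ⊤ := (Ideal.map_eq_top_iff f hinj hint).1 hmap
  have h1 : (1 : C) ∈ I := by rw [htop]; trivial
  obtain ⟨α', β', e'⟩ := Ideal.mem_span_pair.1 h1
  exact ⟨α', α'.2, β', β'.2, congrArg Subtype.val e'⟩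

/-- `x` is a unit of `C` times a product of elements of `S`. -/
def IsMon (C : Subalgebra A Q) (S : Set Q) (x : Q) : Prop :=
  ∃ v ∈ C, ∃ v' ∈ C, v * v' = 1 ∧ ∃ m ∈ Submonoid.closure S, x = v * m

theorem IsMon.of_mem {C : Subalgebra A Q} {S : Set Q} {x : Q} (hx : x ∈ S) : IsMon C S x :=
  ⟨1, C.one_mem, 1, C.one_mem, one_mul 1, x, Submonoid.subset_closure hx, (one_mul x).symm⟩

theorem IsMon.mul {C : Subalgebra A Q} {S : Set Q} {x y : Q} (hx : IsMon C S x)
    (hy : IsMon C S y) : IsMon C S (x * y) := by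
  obtain ⟨v, hv, v', hv', e, m, hm, rfl⟩ := hx
  obtain ⟨w, hw, w', hw', e', m', hm', rfl⟩ := hy
  refine ⟨v * w, C.mul_mem hv hw, v' * w', C.mul_mem hv' hw', ?_, m * m',
    Submonoid.mul_mem _ hm hm', by ring⟩
  calc v * w * (v' * w') = (v * v') * (w * w') := by ring
    _ = 1 := by rw [e, e', one_mul]

theorem IsMon.trans {C C' : Subalgebra A Q} (h : C ≤ C') {S S' : Set Q}
    (hS : ∀ s ∈ S, IsMon C' S' s) {x : Q} (hx : IsMon C S x) : IsMon C' S' x := by
  obtain ⟨v, hv, v', hv', e, m, hm, rfl⟩ := hx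
  have hv1 : IsMon C' S' v :=
    ⟨v, h hv, v', h hv', e, 1, Submonoid.one_mem _, (mul_one v).symm⟩
  refine hv1.mul ?_
  induction hm using Submonoid.closure_induction with
  | mem s hs => exact hS s hs
  | one => exact ⟨1, C'.one_mem, 1, C'.one_mem, one_mul 1, 1, Submonoid.one_mem _, (one_mul 1).symm⟩
  | mul a b _ _ iha ihb => exact iha.mul ihb

/-- The measure: the sum of the orders. -/
noncomputable def mu (C : Subalgebra A Q) (S : Finset Q) : ℕ := ∑ s ∈ S, (ordC C s).toNat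

theorem mu_insert_le [DecidableEq Q] (C : Subalgebra A Q) (S : Finset Q) (a : Q) :
    mu C (insert a S) ≤ (ordC C a).toNat + mu C S := by
  unfold mu
  by_cases ha : a ∈ S
  · rw [Finset.insert_eq_of_mem ha]
    exact Nat.le_add_left _ _
  · rw [Finset.sum_insert ha]

end Defs

section Algo

variable {A : Type u} [CommRing A] [IsNoetherianRing A] [IsLocalRing A]
  {Q : Type u} [CommRing Q] [Algebra A Q] [IsFractionRing A Q]

theorem mu_eq_of_le (hA : ringKrullDim A ≤ 1) (C C' : Subalgebra A Q) [Module.Finite A C']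
    (h : C ≤ C') (S : Finset Q) (hS : ∀ s ∈ S, s ∈ C ∧ IsUnit s) : mu C' S = mu C S := by
  unfold mu
  apply Finset.sum_congr rfl
  intro s hs
  rw [ordC_eq_of_le C C' h (rl_ne_top_of_le hA C C' h) (hS s hs).1 (hS s hs).2]

/-- After a finite extension, a finite set of nonzerodivisors becomes a set of monomials in
pairwise comaximal nonzerodivisors. -/
theorem exists_pairwise_comax (hA : ringKrullDim A ≤ 1) :
    ∀ (μ : ℕ) (C : Subalgebra A Q) (_ : Module.Finite A C) (S : Finset Q),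
      (∀ s ∈ S, s ∈ C ∧ IsUnit s) → mu C S = μ →
      ∃ (C' : Subalgebra A Q), C ≤ C' ∧ Module.Finite A C' ∧ ∃ S' : Finset Q,
        (∀ s ∈ S', s ∈ C' ∧ IsUnit s) ∧ (∀ s ∈ S, IsMon C' (S' : Set Q) s) ∧
        ∀ s ∈ S', ∀ s' ∈ S', s ≠ s' → Comax C' s s' := by
  classical
  intro μ
  induction μ using Nat.strong_induction_on with
  | _ μ ih =>
  intro C hC S hS hμ
  by_cases hall : ∀ s ∈ S, ∀ s' ∈ S, s ≠ s' → Comax C s s'
  · exact ⟨C, le_rfl, hC, S, hS, fun s hs => IsMon.of_mem hs, hall⟩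
  push_neg at hall
  obtain ⟨s, hs, s', hs', hne, hncomax⟩ := hall
  obtain ⟨C₁, hCC₁, hC₁, t, σ, σ', α, β, ht, hσ, hσ', hα, hβ, es, es', hαβ⟩ :=
    exists_common_factor hA C s s' (hS s hs).1 (hS s' hs').1 (hS s hs).2 (hS s' hs').2
  haveI := hC₁
  have hut : IsUnit t := isUnit_of_mul_isUnit_left (es ▸ (hS s hs).2)
  have huσ : IsUnit σ := isUnit_of_mul_isUnit_right (es ▸ (hS s hs).2)
  have huσ' : IsUnit σ' := isUnit_of_mul_isUnit_right (es' ▸ (hS s' hs').2)
  set S₀ : Finset Q := (S.erase s).erase s' with hS₀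
  set S₁ : Finset Q := insert t (insert σ (insert σ' S₀)) with hS₁
  have hS₀S : ∀ x ∈ S₀, x ∈ S := fun x hx => Finset.mem_of_mem_erase (Finset.mem_of_mem_erase hx)
  have hS₁' : ∀ x ∈ S₁, x ∈ C₁ ∧ IsUnit x := by
    intro x hx
    simp only [hS₁, Finset.mem_insert] at hx
    rcases hx with rfl | rfl | rfl | hx
    · exact ⟨ht, hut⟩
    · exact ⟨hσ, huσ⟩
    · exact ⟨hσ', huσ'⟩
    · exact ⟨hCC₁ (hS x (hS₀S x hx)).1, (hS x (hS₀S x hx)).2⟩
  -- the measure drops
  have hfin : ∀ x : Q, IsUnit x → ordC C₁ x ≠ ⊤ := fun x hx => ordC_ne_top hA C₁ hx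
  have hord_s : (ordC C₁ s).toNat = (ordC C₁ t).toNat + (ordC C₁ σ).toNat := by
    rw [es, ordC_mul C₁ ht hσ hut, ENat.toNat_add (hfin t hut) (hfin σ huσ)]
  have hord_s' : (ordC C₁ s').toNat = (ordC C₁ t).toNat + (ordC C₁ σ').toNat := by
    rw [es', ordC_mul C₁ ht hσ' hut, ENat.toNat_add (hfin t hut) (hfin σ' huσ')]
  have htpos : 1 ≤ (ordC C₁ t).toNat := by
    by_contra hlt
    have h0 : (ordC C₁ t).toNat = 0 := by omega
    have h0' : ordC C₁ t = 0 := by
      rcases (ENat.toNat_eq_zero).1 h0 with h | h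
      · exact h
      · exact absurd h (hfin t hut)
    obtain ⟨z, hz, htz⟩ := (ordC_eq_zero_iff C₁ ht).1 h0'
    apply hncomax
    apply Comax.of_le hCC₁ (hS s hs).1 (hS s' hs').1
    refine ⟨z * α, C₁.mul_mem hz hα, z * β, C₁.mul_mem hz hβ, ?_⟩
    rw [es, es']
    calc z * α * (t * σ) + z * β * (t * σ') = (t * z) * (α * σ + β * σ') := by ring
      _ = 1 := by rw [htz, hαβ, one_mul]
  have hmuS : mu C S = (ordC C s).toNat + ((ordC C s').toNat + mu C S₀) := by
    unfold mu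
    have hs'e : s' ∈ S.erase s := Finset.mem_erase.2 ⟨fun h => hne h.symm, hs'⟩
    rw [← Finset.add_sum_erase S _ hs, ← Finset.add_sum_erase (S.erase s) _ hs'e]
  have hmuS₀ : mu C₁ S₀ = mu C S₀ :=
    mu_eq_of_le hA C C₁ hCC₁ S₀ (fun x hx => hS x (hS₀S x hx))
  have hos : ordC C₁ s = ordC C s :=
    ordC_eq_of_le C C₁ hCC₁ (rl_ne_top_of_le hA C C₁ hCC₁) (hS s hs).1 (hS s hs).2
  have hos' : ordC C₁ s' = ordC C s' :=
    ordC_eq_of_le C C₁ hCC₁ (rl_ne_top_of_le hA C C₁ hCC₁) (hS s' hs').1 (hS s' hs').2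
  have hmuS₁ : mu C₁ S₁ ≤ (ordC C₁ t).toNat + ((ordC C₁ σ).toNat + ((ordC C₁ σ').toNat +
      mu C₁ S₀)) := by
    refine (mu_insert_le C₁ _ t).trans (Nat.add_le_add_left ?_ _)
    refine (mu_insert_le C₁ _ σ).trans (Nat.add_le_add_left ?_ _)
    exact mu_insert_le C₁ _ σ'
  have hlt : mu C₁ S₁ < μ := by
    rw [← hμ, hmuS, ← hos, ← hos', hord_s, hord_s', ← hmuS₀]
    omega
  obtain ⟨C', hC₁C', hC', S', hS', hmon, hcomax⟩ := ih (mu C₁ S₁) hlt C₁ hC₁ S₁ hS₁' rfl
  refine ⟨C', hCC₁.trans hC₁C', hC', S', hS', ?_, hcomax⟩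
  intro x hx
  have htm : IsMon C' (S' : Set Q) t := hmon t (by simp [hS₁])
  have hσm : IsMon C' (S' : Set Q) σ := hmon σ (by simp [hS₁])
  have hσ'm : IsMon C' (S' : Set Q) σ' := hmon σ' (by simp [hS₁])
  by_cases hxs : x = s
  · rw [hxs, es]; exact htm.mul hσm
  by_cases hxs' : x = s'
  · rw [hxs', es']; exact htm.mul hσ'm
  · apply hmon x
    simp only [hS₁, hS₀, Finset.mem_insert, Finset.mem_erase]
    exact Or.inr (Or.inr (Or.inr ⟨hxs', hxs, hx⟩))

theorem mem_nonZeroDivisors_of_isUnit_val (C : Subalgebra A Q) (z : C) (hz : IsUnit (z : Q)) :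
    z ∈ nonZeroDivisors C := by
  refine mem_nonZeroDivisors_of_injective (f := C.val) Subtype.val_injective ?_
  exact hz.mem_nonZeroDivisors

/-- After a finite extension, finitely many nonzerodivisors are monomials in one local parameter
at each maximal ideal. -/
theorem exists_finSub_local_monomial (hA : ringKrullDim A ≤ 1) (C : Subalgebra A Q)
    [Module.Finite A C] (T : Finset Q) (hT : ∀ x ∈ T, x ∈ C ∧ IsUnit x) :
    ∃ (C' : Subalgebra A Q) (hCC' : C ≤ C'), Module.Finite A C' ∧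
      ∀ q : MaximalSpectrum C', ∃ π : Localization.AtPrime q.asIdeal,
        π ∈ nonZeroDivisors (Localization.AtPrime q.asIdeal) ∧
        ∀ x (hx : x ∈ T), ∃ (v : (Localization.AtPrime q.asIdeal)ˣ) (e : ℕ),
          algebraMap C' (Localization.AtPrime q.asIdeal) ⟨x, hCC' (hT x hx).1⟩ = v * π ^ e := by
  classical
  obtain ⟨C', hCC', hC', S', hS', hmon, hcomax⟩ :=
    exists_pairwise_comax hA (mu C T) C inferInstance T hT rfl
  refine ⟨C', hCC', hC', fun q => ?_⟩
  haveI := q.isMaximal.isPrime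
  let SB : Finset C' := S'.subtype (fun x => x ∈ C')
  have hSBval : Subtype.val '' (SB : Set C') = (S' : Set Q) := by
    ext x
    constructor
    · rintro ⟨y, hy, rfl⟩
      exact Finset.mem_subtype.1 hy
    · intro hx
      exact ⟨⟨x, (hS' x hx).1⟩, Finset.mem_subtype.2 hx, rfl⟩
  obtain ⟨π, hπ, hloc⟩ := exists_local_monomial q.asIdeal SB
    (fun s hs => mem_nonZeroDivisors_of_isUnit_val C' s (hS' _ (Finset.mem_subtype.1 hs)).2)
    (by
      intro s hs s' hs' hne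
      obtain ⟨α, hα, β, hβ, e⟩ := hcomax s.1 (Finset.mem_subtype.1 hs) s'.1
        (Finset.mem_subtype.1 hs') (fun h => hne (Subtype.ext h))
      exact ⟨⟨α, hα⟩, ⟨β, hβ⟩, Subtype.ext e⟩)
  refine ⟨π, hπ, fun x hx => ?_⟩
  obtain ⟨v, hv, v', hv', e, m, hm, hxm⟩ := hmon x hx
  have hm' : m ∈ (Submonoid.closure (SB : Set C')).map C'.val.toMonoidHom := by
    rw [MonoidHom.map_mclosure]
    have : (C'.val.toMonoidHom : C' → Q) '' (SB : Set C') = (S' : Set Q) := hSBval
    rw [this]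
    exact hm
  obtain ⟨m', hm'c, hm'e⟩ := hm'
  let vu : C'ˣ := ⟨⟨v, hv⟩, ⟨v', hv'⟩, Subtype.ext e, Subtype.ext (by rw [mul_comm]; exact e)⟩
  obtain ⟨w, k, hw⟩ := hloc m' hm'c vu
  refine ⟨w, k, ?_⟩
  rw [← hw]
  congr 1
  apply Subtype.ext
  show x = v * (m' : Q)
  rw [hxm]
  congr 1
  exact hm'e.symm

end Algo

end Groth.Agent.Lib.Helper18.Tame
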