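import Mathlib
import Groth.Prelude.Def_Tame
import Groth.Agent.Lib.Helper18.Tame.Monomialize
import Groth.Agent.Lib.Helper18.Tame.Indep

/-!
# Simultaneous tame data for finitely many nonzerodivisors
-/

set_option autoImplicit false
universe u

namespace Groth.Agent.Lib.Helper18.Tame

open IsLocalRing CycAlg

/-- A finite extension on which all elements of `T` are monomials in one local parameter at
each maximal ideal. -/
structure CommonData (A : Type u) [CommRing A] [IsLocalRing A] (T : Finset A) where
  C : Type u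
  [commRing : CommRing C]
  [algebra : Algebra A C]
  isFinExt : IsFinExt A C (maximalIdeal A)
  π : (q : MaximalSpectrum C) → Localization.AtPrime q.asIdeal
  π_mem : ∀ q, π q ∈ nonZeroDivisors (Localization.AtPrime q.asIdeal)
  v : A → (q : MaximalSpectrum C) → (Localization.AtPrime q.asIdeal)ˣ
  k : A → MaximalSpectrum C → ℕ
  fac : ∀ x ∈ T, ∀ q, algebraMap A (Localization.AtPrime q.asIdeal) x =
    (v x q : Localization.AtPrime q.asIdeal) * π q ^ k x q

attribute [instance] CommonData.commRing CommonData.algebra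

section Exists

variable {A : Type u} [CommRing A] [IsNoetherianRing A] [IsLocalRing A]

theorem exists_commonData (hA : ringKrullDim A ≤ 1) (T : Finset A)
    (hT : ∀ x ∈ T, x ∈ nonZeroDivisors A) : Nonempty (CommonData A T) := by
  classical
  let Q := FractionRing A
  let T' : Finset Q := T.image (algebraMap A Q)
  have hT' : ∀ x ∈ T', x ∈ (⊥ : Subalgebra A Q) ∧ IsUnit x := by
    intro x hx
    obtain ⟨a, ha, rfl⟩ := Finset.mem_image.1 hx
    exact ⟨Subalgebra.algebraMap_mem _ _, IsLocalization.map_units Q ⟨a, hT a ha⟩⟩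
  obtain ⟨C', hCC', hfin, hloc⟩ := exists_finSub_local_monomial hA ⊥ T' hT'
  haveI := hfin
  choose π hπ hfac using hloc
  have hfac' : ∀ (x : A) (q : MaximalSpectrum C'), ∃ (v : (Localization.AtPrime q.asIdeal)ˣ)
      (e : ℕ), x ∈ T → algebraMap A (Localization.AtPrime q.asIdeal) x = v * π q ^ e := by
    intro x q
    by_cases hx : x ∈ T
    · obtain ⟨v, e, hv⟩ := hfac q (algebraMap A Q x) (Finset.mem_image_of_mem _ hx)
      refine ⟨v, e, fun _ => ?_⟩
      rw [← hv, IsScalarTower.algebraMap_apply A C' (Localization.AtPrime q.asIdeal)]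
      rfl
    · exact ⟨1, 0, fun h => absurd h hx⟩
  choose v k hvk using hfac'
  exact ⟨{ C := C', isFinExt := isFinExt hA C', π := π, π_mem := hπ, v := v, k := k,
           fac := fun x hx q => hvk x q hx }⟩

end Exists

section Use

variable {A : Type u} [CommRing A] [IsLocalRing A] {T : Finset A}

theorem CommonData.isLocalHom (Dc : CommonData A T) (q : MaximalSpectrum Dc.C) :
    IsLocalHom (algebraMap A (Localization.AtPrime q.asIdeal)) := by
  haveI : Module.Finite A Dc.C := Dc.isFinExt.2.1
  exact isLocalHom_atPrime_of_integral A Dc.C q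

/-- Tame data on the ring of common data, from any presentations with the common parameter. -/
def CommonData.tameData (Dc : CommonData A T) (x y : A)
    (u₁ u₂ : (q : MaximalSpectrum Dc.C) → (Localization.AtPrime q.asIdeal)ˣ)
    (e₁ e₂ : MaximalSpectrum Dc.C → ℕ)
    (fac₁ : ∀ q, algebraMap A (Localization.AtPrime q.asIdeal) x =
      (u₁ q : Localization.AtPrime q.asIdeal) * Dc.π q ^ e₁ q)
    (fac₂ : ∀ q, algebraMap A (Localization.AtPrime q.asIdeal) y =
      (u₂ q : Localization.AtPrime q.asIdeal) * Dc.π q ^ e₂ q) : TameData A x y where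
  B := Dc.C
  isFinExt := Dc.isFinExt
  isLocalHom := Dc.isLocalHom
  π := Dc.π
  π_mem := Dc.π_mem
  u₁ := u₁
  u₂ := u₂
  e₁ := e₁
  e₂ := e₂
  fac₁ := fac₁
  fac₂ := fac₂

end Use

section Symbol

variable {A : Type u} [CommRing A] [IsNoetherianRing A] [IsLocalRing A]

/-- The tame symbol is the value of any tame data. -/
theorem tameSymbol_eq_value (hA : ringKrullDim A ≤ 1) {a₁ a₂ : A} (h₁ : a₁ ∈ nonZeroDivisors A)
    (h₂ : a₂ ∈ nonZeroDivisors A) (D : TameData A a₁ a₂) : tameSymbol A a₁ a₂ = D.value := by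
  unfold tameSymbol
  rw [dif_pos ⟨D⟩]
  by_cases hx : a₁ * a₂ ∈ maximalIdeal A
  · exact value_eq_of_nonunit hA h₁ h₂ hx _ D
  · have hu : IsUnit (a₁ * a₂) := by
      by_contra hnu
      exact hx ((mem_maximalIdeal _).2 hnu)
    have hu₁ : IsUnit a₁ := isUnit_of_mul_isUnit_left hu
    have hu₂ : IsUnit a₂ := isUnit_of_mul_isUnit_right hu
    rw [value_eq_one_of_units hu₁ hu₂ _, value_eq_one_of_units hu₁ hu₂ D]

end Symbol

end Groth.Agent.Lib.Helper18.Tame
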