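import Mathlib

/-!
# The Steinberg-type relation for local monomial symbols
-/

set_option autoImplicit false
universe u

namespace Groth.Agent.Lib.Helper18.Tame

open IsLocalRing

section

variable {L : Type*} [CommRing L] [IsLocalRing L]

/-- The residue class `(-1)^{e₁e₂} ū₁^{e₂} ū₂^{-e₁}`. -/
noncomputable def sbase (u₁ u₂ : Lˣ) (e₁ e₂ : ℕ) : ResidueField L :=
  (-1 : ResidueField L) ^ (e₁ * e₂) * residue L (u₁ : L) ^ e₂ * (residue L (u₂ : L) ^ e₁)⁻¹

theorem residue_unit_ne_zero'' (u : Lˣ) : residue L (u : L) ≠ 0 := by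
  intro h
  have := (residue_eq_zero_iff (u : L)).1 h
  exact (mem_maximalIdeal _).1 this u.isUnit

/-- Uniqueness of the exponent in a monomial presentation with a non-unit parameter. -/
theorem exp_unique_aux (π : L) (hπ : π ∈ nonZeroDivisors L) (hnu : ¬ IsUnit π) (u w : Lˣ)
    (m n : ℕ) (hmn : m ≤ n) (h : (u : L) * π ^ m = w * π ^ n) : m = n ∧ u = w := by
  obtain ⟨d, rfl⟩ := Nat.exists_eq_add_of_le hmn
  have h1 : π ^ m * ((u : L) - w * π ^ d) = 0 := by
    rw [pow_add] at h
    linear_combination h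
  have h2 : (u : L) - w * π ^ d = 0 := by
    have hm : π ^ m ∈ nonZeroDivisors L := pow_mem hπ m
    exact (mem_nonZeroDivisors_iff.1 hm).1 _ h1
  have h3 : (u : L) = w * π ^ d := sub_eq_zero.1 h2
  have hd : d = 0 := by
    by_contra hd
    apply hnu
    have h4 : IsUnit ((w : L) * π ^ d) := h3 ▸ u.isUnit
    exact (isUnit_pow_iff hd).1 (isUnit_of_mul_isUnit_right h4)
  subst hd
  refine ⟨by simp, ?_⟩
  apply Units.ext
  simpa using h3

theorem exp_unique (π : L) (hπ : π ∈ nonZeroDivisors L) (hnu : ¬ IsUnit π) (u w : Lˣ)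
    (m n : ℕ) (h : (u : L) * π ^ m = w * π ^ n) : m = n ∧ u = w := by
  rcases le_total m n with hmn | hmn
  · exact exp_unique_aux π hπ hnu u w m n hmn h
  · obtain ⟨h1, h2⟩ := exp_unique_aux π hπ hnu w u n m hmn h.symm
    exact ⟨h1.symm, h2.symm⟩

theorem neg_one_pow_sq' (K : Type*) [Field K] (n : ℕ) : (-1 : K) ^ (n * n) = (-1) ^ n := by
  rcases Nat.even_or_odd n with h | h
  · rw [h.neg_one_pow, (h.mul_right n).neg_one_pow]
  · rw [h.neg_one_pow, (h.mul h).neg_one_pow]

theorem sq_neg_one_pow (K : Type*) [Field K] (n : ℕ) : ((-1 : K) ^ n) ^ 2 = 1 := by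
  rw [← pow_mul, mul_comm, pow_mul]
  simp

/-- The Steinberg-type relation: if `γ π^l = β π^j - α π^i` then the symbols satisfy
`{α π^i, γ π^l} {β π^j, β π^j} = {β π^j, γ π^l} {α π^i, β π^j}`. -/
theorem sbase_steinberg (π : L) (hπ : π ∈ nonZeroDivisors L) (hnu : ¬ IsUnit π) (α β γ : Lˣ)
    (i j l : ℕ) (h : (γ : L) * π ^ l = β * π ^ j - α * π ^ i) :
    sbase α γ i l * sbase β β j j = sbase β γ j l * sbase α β i j := by
  have hπm : π ∈ maximalIdeal L := (mem_maximalIdeal _).2 hnu
  have hA : residue L (α : L) ≠ 0 := residue_unit_ne_zero'' α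
  have hB : residue L (β : L) ≠ 0 := residue_unit_ne_zero'' β
  have hG : residue L (γ : L) ≠ 0 := residue_unit_ne_zero'' γ
  rcases lt_trichotomy i j with hij | hij | hij
  · -- `i < j`
    obtain ⟨d, rfl⟩ := Nat.exists_eq_add_of_lt hij
    have hw : IsUnit ((β : L) * π ^ (d + 1) - α) := by
      by_contra hn
      have h1 : (β : L) * π ^ (d + 1) - α ∈ maximalIdeal L := (mem_maximalIdeal _).2 hn
      have h2 : (β : L) * π ^ (d + 1) ∈ maximalIdeal L :=
        Ideal.mul_mem_left _ _ (Ideal.pow_mem_of_mem _ hπm _ (Nat.succ_pos d))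
      have h3 : (α : L) ∈ maximalIdeal L := by
        have := Ideal.sub_mem _ h2 h1
        simpa using this
      exact (mem_maximalIdeal _).1 h3 α.isUnit
    have h' : (γ : L) * π ^ l = (hw.unit : L) * π ^ i := by
      rw [h, IsUnit.unit_spec]
      ring
    obtain ⟨rfl, hγ⟩ := exp_unique π hπ hnu γ hw.unit l i h'
    have hres : residue L (γ : L) = - residue L (α : L) := by
      rw [hγ, IsUnit.unit_spec, map_sub, map_mul, map_pow]
      have : residue L π = 0 := (residue_eq_zero_iff π).2 hπm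
      rw [this, zero_pow (Nat.succ_ne_zero d), mul_zero, zero_sub]
    unfold sbase
    rw [hres]
    set a := residue L (α : L) with ha
    set b := residue L (β : L) with hb
    rw [neg_one_pow_sq', neg_one_pow_sq', neg_pow a, neg_pow a, mul_comm (l + d + 1) l]
    have n1 : ((-1 : ResidueField L) ^ l) ≠ 0 := pow_ne_zero _ (by simp)
    have n3 : ((-1 : ResidueField L) ^ (l + d + 1)) ≠ 0 := pow_ne_zero _ (by simp)
    field_simp
    rw [sq_neg_one_pow, sq_neg_one_pow]
  · -- `i = j`
    subst hij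
    have h0 : (γ : L) * π ^ l = π ^ i * ((β : L) - α) := by rw [h]; ring
    have hil : i ≤ l := by
      by_contra hlt
      rw [not_le] at hlt
      obtain ⟨d, rfl⟩ := Nat.exists_eq_add_of_lt hlt
      have h1 : π ^ l * ((γ : L) - π ^ (d + 1) * ((β : L) - α)) = 0 := by
        rw [pow_add, pow_add] at h0
        rw [pow_add]
        linear_combination h0
      have h2 : (γ : L) - π ^ (d + 1) * ((β : L) - α) = 0 :=
        (mem_nonZeroDivisors_iff.1 (pow_mem hπ l)).1 _ h1
      have h3 : (γ : L) ∈ maximalIdeal L := by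
        rw [sub_eq_zero.1 h2]
        exact Ideal.mul_mem_right _ _ (Ideal.pow_mem_of_mem _ hπm _ (Nat.succ_pos d))
      exact (mem_maximalIdeal _).1 h3 γ.isUnit
    obtain ⟨d, rfl⟩ := Nat.exists_eq_add_of_le hil
    have h1 : π ^ i * ((γ : L) * π ^ d - ((β : L) - α)) = 0 := by
      rw [pow_add] at h0
      linear_combination h0
    have h2 : (γ : L) * π ^ d = (β : L) - α :=
      sub_eq_zero.1 ((mem_nonZeroDivisors_iff.1 (pow_mem hπ i)).1 _ h1)
    unfold sbase
    set a := residue L (α : L) with ha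
    set b := residue L (β : L) with hb
    set g := residue L (γ : L) with hg
    rcases Nat.eq_zero_or_pos d with hd | hd
    · subst hd
      rw [neg_one_pow_sq', add_zero]
      have n1 : ((-1 : ResidueField L) ^ i) ≠ 0 := pow_ne_zero _ (by simp)
      field_simp
    · have hab : b = a := by
        have h3 : residue L ((γ : L) * π ^ d) = 0 := by
          rw [residue_eq_zero_iff]
          exact Ideal.mul_mem_left _ _ (Ideal.pow_mem_of_mem _ hπm _ hd)
        rw [h2, map_sub] at h3
        exact sub_eq_zero.1 h3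
      rw [hab, neg_one_pow_sq']
  · -- `j < i`
    obtain ⟨d, rfl⟩ := Nat.exists_eq_add_of_lt hij
    have hw : IsUnit ((β : L) - α * π ^ (d + 1)) := by
      by_contra hn
      have h1 : (β : L) - α * π ^ (d + 1) ∈ maximalIdeal L := (mem_maximalIdeal _).2 hn
      have h2 : (α : L) * π ^ (d + 1) ∈ maximalIdeal L :=
        Ideal.mul_mem_left _ _ (Ideal.pow_mem_of_mem _ hπm _ (Nat.succ_pos d))
      have h3 : (β : L) ∈ maximalIdeal L := by
        have := Ideal.add_mem _ h1 h2
        simpa using this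
      exact (mem_maximalIdeal _).1 h3 β.isUnit
    have h' : (γ : L) * π ^ l = (hw.unit : L) * π ^ j := by
      rw [h, IsUnit.unit_spec]
      ring
    obtain ⟨rfl, hγ⟩ := exp_unique π hπ hnu γ hw.unit l j h'
    have hres : residue L (γ : L) = residue L (β : L) := by
      rw [hγ, IsUnit.unit_spec, map_sub, map_mul, map_pow]
      have : residue L π = 0 := (residue_eq_zero_iff π).2 hπm
      rw [this, zero_pow (Nat.succ_ne_zero d), mul_zero, sub_zero]
    unfold sbase
    rw [hres]
    set a := residue L (α : L) with ha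
    set b := residue L (β : L) with hb
    rw [neg_one_pow_sq']
    ring

end

end Groth.Agent.Lib.Helper18.Tame
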