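import Mathlib
import Groth.Agent.Lib.Helper18.Tame.Common
import Groth.Agent.Lib.Helper18.Tame.Steinberg

/-!
# Laws of the tame symbol
-/

set_option autoImplicit false
universe u

namespace Groth.Agent.Lib.Helper18.Tame

open IsLocalRing CycAlg

section Factor

variable {A : Type u} [CommRing A] [IsLocalRing A] {T : Finset A}

/-- The residue class whose norm enters the local factor. -/
noncomputable def CommonData.base (Dc : CommonData A T) (q : MaximalSpectrum Dc.C)
    (u₁ u₂ : (Localization.AtPrime q.asIdeal)ˣ) (e₁ e₂ : ℕ) :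
    ResidueField (Localization.AtPrime q.asIdeal) :=
  (-1 : ResidueField (Localization.AtPrime q.asIdeal)) ^ (e₁ * e₂) *
    residue (Localization.AtPrime q.asIdeal) (u₁ : Localization.AtPrime q.asIdeal) ^ e₂ *
    (residue (Localization.AtPrime q.asIdeal) (u₂ : Localization.AtPrime q.asIdeal) ^ e₁)⁻¹

/-- The local factor at `q` of a pair of presentations with the common parameter. -/
noncomputable def CommonData.lfac (Dc : CommonData A T) (q : MaximalSpectrum Dc.C)
    (u₁ u₂ : (Localization.AtPrime q.asIdeal)ˣ) (e₁ e₂ : ℕ) : ResidueField A :=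
  haveI := Dc.isLocalHom q
  (Algebra.norm (ResidueField A) (Dc.base q u₁ u₂ e₁ e₂)) ^
    (Ring.ord (Localization.AtPrime q.asIdeal) (Dc.π q)).toNat

theorem CommonData.value_tameData (Dc : CommonData A T) (x y : A)
    (u₁ u₂ : (q : MaximalSpectrum Dc.C) → (Localization.AtPrime q.asIdeal)ˣ)
    (e₁ e₂ : MaximalSpectrum Dc.C → ℕ)
    (fac₁ : ∀ q, algebraMap A (Localization.AtPrime q.asIdeal) x =
      (u₁ q : Localization.AtPrime q.asIdeal) * Dc.π q ^ e₁ q)
    (fac₂ : ∀ q, algebraMap A (Localization.AtPrime q.asIdeal) y =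
      (u₂ q : Localization.AtPrime q.asIdeal) * Dc.π q ^ e₂ q) :
    (Dc.tameData x y u₁ u₂ e₁ e₂ fac₁ fac₂).value =
      ∏ᶠ q, Dc.lfac q (u₁ q) (u₂ q) (e₁ q) (e₂ q) := rfl

theorem CommonData.finite_maxSpec (Dc : CommonData A T) : Finite (MaximalSpectrum Dc.C) := by
  haveI : Module.Finite A Dc.C := Dc.isFinExt.2.1
  exact finite_maximalSpectrum_of_finite A Dc.C

theorem residue_unit_ne_zero' {L : Type*} [CommRing L] [IsLocalRing L] (u : Lˣ) :
    residue L (u : L) ≠ 0 := by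
  intro h
  have := (residue_eq_zero_iff (u : L)).1 h
  exact (mem_maximalIdeal _).1 this u.isUnit

theorem CommonData.base_ne_zero (Dc : CommonData A T) (q : MaximalSpectrum Dc.C)
    (u₁ u₂ : (Localization.AtPrime q.asIdeal)ˣ) (e₁ e₂ : ℕ) : Dc.base q u₁ u₂ e₁ e₂ ≠ 0 := by
  unfold CommonData.base
  refine mul_ne_zero (mul_ne_zero (pow_ne_zero _ (by simp)) (pow_ne_zero _ ?_))
    (inv_ne_zero (pow_ne_zero _ ?_))
  · exact residue_unit_ne_zero' _
  · exact residue_unit_ne_zero' _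

theorem norm_ne_zero_of_ne_zero {K F : Type*} [Field K] [Field F] [Algebra K F] {y : F}
    (hy : y ≠ 0) : Algebra.norm K y ≠ 0 := by
  intro h
  have h1 : Algebra.norm K y * Algebra.norm K y⁻¹ = 1 := by
    rw [← map_mul, mul_inv_cancel₀ hy, map_one]
  rw [h, zero_mul] at h1
  exact zero_ne_one h1

theorem CommonData.lfac_ne_zero (Dc : CommonData A T) (q : MaximalSpectrum Dc.C)
    (u₁ u₂ : (Localization.AtPrime q.asIdeal)ˣ) (e₁ e₂ : ℕ) : Dc.lfac q u₁ u₂ e₁ e₂ ≠ 0 := by
  unfold CommonData.lfac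
  haveI := Dc.isLocalHom q
  exact pow_ne_zero _ (norm_ne_zero_of_ne_zero (Dc.base_ne_zero q u₁ u₂ e₁ e₂))

theorem CommonData.base_mul_left (Dc : CommonData A T) (q : MaximalSpectrum Dc.C)
    (u₁ u₁' u₂ : (Localization.AtPrime q.asIdeal)ˣ) (e₁ e₁' e₂ : ℕ) :
    Dc.base q (u₁ * u₁') u₂ (e₁ + e₁') e₂ = Dc.base q u₁ u₂ e₁ e₂ * Dc.base q u₁' u₂ e₁' e₂ := by
  unfold CommonData.base
  have h2 : residue (Localization.AtPrime q.asIdeal) (u₂ : Localization.AtPrime q.asIdeal) ≠ 0 :=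
    residue_unit_ne_zero' _
  rw [Units.val_mul, map_mul, add_mul, pow_add, mul_pow, pow_add, mul_inv]
  ring

theorem CommonData.base_mul_right (Dc : CommonData A T) (q : MaximalSpectrum Dc.C)
    (u₁ u₂ u₂' : (Localization.AtPrime q.asIdeal)ˣ) (e₁ e₂ e₂' : ℕ) :
    Dc.base q u₁ (u₂ * u₂') e₁ (e₂ + e₂') = Dc.base q u₁ u₂ e₁ e₂ * Dc.base q u₁ u₂' e₁ e₂' := by
  unfold CommonData.base
  rw [Units.val_mul, map_mul, mul_add, pow_add, mul_pow, pow_add, mul_inv]
  ring

theorem CommonData.lfac_mul_left (Dc : CommonData A T) (q : MaximalSpectrum Dc.C)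
    (u₁ u₁' u₂ : (Localization.AtPrime q.asIdeal)ˣ) (e₁ e₁' e₂ : ℕ) :
    Dc.lfac q (u₁ * u₁') u₂ (e₁ + e₁') e₂ = Dc.lfac q u₁ u₂ e₁ e₂ * Dc.lfac q u₁' u₂ e₁' e₂ := by
  unfold CommonData.lfac
  rw [Dc.base_mul_left, map_mul, mul_pow]

theorem CommonData.lfac_mul_right (Dc : CommonData A T) (q : MaximalSpectrum Dc.C)
    (u₁ u₂ u₂' : (Localization.AtPrime q.asIdeal)ˣ) (e₁ e₂ e₂' : ℕ) :
    Dc.lfac q u₁ (u₂ * u₂') e₁ (e₂ + e₂') = Dc.lfac q u₁ u₂ e₁ e₂ * Dc.lfac q u₁ u₂' e₁ e₂' := by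
  unfold CommonData.lfac
  rw [Dc.base_mul_right, map_mul, mul_pow]

/-- The residue degree at `q`. -/
noncomputable def CommonData.fdeg (Dc : CommonData A T) (q : MaximalSpectrum Dc.C) : ℕ :=
  haveI := Dc.isLocalHom q
  Module.finrank (ResidueField A) (ResidueField (Localization.AtPrime q.asIdeal))

theorem CommonData.lfac_diag (Dc : CommonData A T) (q : MaximalSpectrum Dc.C)
    (u : (Localization.AtPrime q.asIdeal)ˣ) (e : ℕ) :
    Dc.lfac q u u e e = (-1) ^ (Dc.fdeg q *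
      (e * (Ring.ord (Localization.AtPrime q.asIdeal) (Dc.π q)).toNat)) := by
  unfold CommonData.lfac CommonData.base CommonData.fdeg
  haveI := Dc.isLocalHom q
  have h2 : residue (Localization.AtPrime q.asIdeal) (u : Localization.AtPrime q.asIdeal) ^ e ≠ 0 :=
    pow_ne_zero _ (residue_unit_ne_zero' _)
  rw [mul_assoc, mul_inv_cancel₀ h2, mul_one, neg_one_pow_sq']
  have h3 : ((-1 : ResidueField (Localization.AtPrime q.asIdeal)) ^ e) =
      algebraMap (ResidueField A) (ResidueField (Localization.AtPrime q.asIdeal)) ((-1) ^ e) := by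
    rw [map_pow, map_neg, map_one]
  rw [h3, Algebra.norm_algebraMap, ← pow_mul, ← pow_mul]
  congr 1
  ring

theorem CommonData.lfac_unit (Dc : CommonData A T) (q : MaximalSpectrum Dc.C) (c : Aˣ)
    (u : (Localization.AtPrime q.asIdeal)ˣ) (e : ℕ) :
    Dc.lfac q (Units.map (algebraMap A (Localization.AtPrime q.asIdeal)).toMonoidHom c) u 0 e =
      residue A (c : A) ^ (Dc.fdeg q *
        (e * (Ring.ord (Localization.AtPrime q.asIdeal) (Dc.π q)).toNat)) := by
  unfold CommonData.lfac CommonData.base CommonData.fdeg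
  haveI := Dc.isLocalHom q
  rw [zero_mul, pow_zero, pow_zero, inv_one, mul_one, one_mul]
  have h3 : residue (Localization.AtPrime q.asIdeal)
      ((Units.map (algebraMap A (Localization.AtPrime q.asIdeal)).toMonoidHom c :
        (Localization.AtPrime q.asIdeal)ˣ) : Localization.AtPrime q.asIdeal) ^ e =
      algebraMap (ResidueField A) (ResidueField (Localization.AtPrime q.asIdeal))
        (residue A (c : A) ^ e) := by
    rw [map_pow, IsLocalRing.ResidueField.algebraMap_residue]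
    rfl
  rw [h3, Algebra.norm_algebraMap, ← pow_mul, ← pow_mul]
  congr 1
  ring

theorem CommonData.lfac_steinberg (Dc : CommonData A T) (q : MaximalSpectrum Dc.C)
    (α β γ : (Localization.AtPrime q.asIdeal)ˣ) (i j l : ℕ)
    (h : (γ : Localization.AtPrime q.asIdeal) * Dc.π q ^ l = β * Dc.π q ^ j - α * Dc.π q ^ i) :
    Dc.lfac q α γ i l * Dc.lfac q β β j j = Dc.lfac q β γ j l * Dc.lfac q α β i j := by
  unfold CommonData.lfac
  haveI := Dc.isLocalHom q
  by_cases hπ : IsUnit (Dc.π q)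
  · rw [Ring.ord_of_isUnit hπ]
    simp
  · have := sbase_steinberg (Dc.π q) (Dc.π_mem q) hπ α β γ i j l h
    rw [← mul_pow, ← mul_pow, ← map_mul, ← map_mul]
    congr 2

end Factor

section Sum

variable {A : Type u} [CommRing A] [IsNoetherianRing A] [IsLocalRing A] {T : Finset A}

omit [IsNoetherianRing A] in
theorem CommonData.regular (Dc : CommonData A T) {b : A} (hb : b ∈ T) :
    algebraMap A Dc.C b ∈ nonZeroDivisors Dc.C := by
  have h := regular_of_tameData (Dc.tameData b b (Dc.v b) (Dc.v b) (Dc.k b) (Dc.k b)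
    (Dc.fac b hb) (Dc.fac b hb))
  rw [map_mul] at h
  exact (mul_mem_nonZeroDivisors.1 h).1

theorem CommonData.length_eq_sum (hA : ringKrullDim A ≤ 1) (Dc : CommonData A T)
    [Fintype (MaximalSpectrum Dc.C)] {b : A} (hb : b ∈ T) (hbn : b ∈ nonZeroDivisors A) :
    (Module.length A (A ⧸ Ideal.span {b})).toNat =
      ∑ q, Dc.fdeg q * (Dc.k b q *
        (Ring.ord (Localization.AtPrime q.asIdeal) (Dc.π q)).toNat) := by
  haveI : Module.Finite A Dc.C := Dc.isFinExt.2.1
  have h1 := length_quot_span_eq_of_injective (Algebra.ofId A Dc.C) Dc.isFinExt.1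
    (coker_finite Dc.isFinExt _) b (Dc.regular hb)
  obtain ⟨k, hk⟩ := Groth.Agent.Lib.Helper2.ChiLocal2.exists_pow_le_of_dim_one b hA hbn
  have hfin : IsFiniteLength Dc.C (Dc.C ⧸ Ideal.span {algebraMap A Dc.C b}) := by
    apply isFiniteLength_quot_ideal_of_pow (A := A) _ k
    intro r hr
    obtain ⟨c, hc⟩ := Ideal.mem_span_singleton'.1 (hk hr)
    rw [← hc, map_mul]
    exact Ideal.mul_mem_left _ _ (Ideal.subset_span rfl)
  have h2 := length_quot_span_eq_sum (A := A) (algebraMap A Dc.C b) hfin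
  have h3 : Module.length A (A ⧸ Ideal.span {b}) =
      ((∑ q, Dc.fdeg q * (Dc.k b q *
        (Ring.ord (Localization.AtPrime q.asIdeal) (Dc.π q)).toNat) : ℕ) : ℕ∞) := by
    rw [h1]
    show Module.length A (Dc.C ⧸ Ideal.span {algebraMap A Dc.C b}) = _
    rw [h2]
    push_cast
    apply Finset.sum_congr rfl
    intro q _
    haveI := Dc.isLocalHom
    obtain ⟨hN, hD⟩ := noeth_dim_atPrime (A := A) hA q
    haveI := q.isMaximal
    have hf : Module.length A (Dc.C ⧸ q.asIdeal) = Dc.fdeg q :=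
      Groth.Agent.Lib.Helper18.NormOrd.length_quot_eq_finrank A Dc.C
        (Localization.AtPrime q.asIdeal) q.asIdeal
    rw [hf, ← IsScalarTower.algebraMap_apply, Dc.fac b hb q,
      Ring.ord_mul_of_isUnit_left (Dc.v b q).isUnit, Ring.ord_pow (Dc.π_mem q)]
    obtain ⟨n, hn⟩ := ENat.ne_top_iff_exists.1 (Ring.ord_ne_top (Dc.π_mem q))
    rw [← hn, ENat.toNat_coe]
    push_cast
    ring
  rw [h3, ENat.toNat_coe]

end Sum

section Symbol

variable {A : Type u} [CommRing A] [IsNoetherianRing A] [IsLocalRing A] {T : Finset A}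

theorem CommonData.symbol_eq (hA : ringKrullDim A ≤ 1) (Dc : CommonData A T)
    [Fintype (MaximalSpectrum Dc.C)] {x y : A} (hx : x ∈ nonZeroDivisors A)
    (hy : y ∈ nonZeroDivisors A)
    (u₁ u₂ : (q : MaximalSpectrum Dc.C) → (Localization.AtPrime q.asIdeal)ˣ)
    (e₁ e₂ : MaximalSpectrum Dc.C → ℕ)
    (fac₁ : ∀ q, algebraMap A (Localization.AtPrime q.asIdeal) x =
      (u₁ q : Localization.AtPrime q.asIdeal) * Dc.π q ^ e₁ q)
    (fac₂ : ∀ q, algebraMap A (Localization.AtPrime q.asIdeal) y =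
      (u₂ q : Localization.AtPrime q.asIdeal) * Dc.π q ^ e₂ q) :
    tameSymbol A x y = ∏ q, Dc.lfac q (u₁ q) (u₂ q) (e₁ q) (e₂ q) := by
  rw [tameSymbol_eq_value hA hx hy (Dc.tameData x y u₁ u₂ e₁ e₂ fac₁ fac₂), Dc.value_tameData,
    finprod_eq_prod_of_fintype]

end Symbol

end Groth.Agent.Lib.Helper18.Tame
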