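import Mathlib
import Groth.Prelude.Def_Tame
import Groth.Agent.Lib.Helper18.Tame.Laws2
import Groth.Agent.Lib.Helper18.Cyc.OrdFlat

/-!
# The tame symbol on fractions
-/

set_option autoImplicit false
set_option maxHeartbeats 800000
set_option linter.style.haveILetI false
set_option linter.unusedSectionVars false
universe u

namespace Groth.Agent.Lib.Helper18.Tame

open IsLocalRing CycAlg

section SymT

variable (B : Type u) [CommRing B] [IsLocalRing B]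

/-- The bimultiplicative extension of the tame symbol to pairs of formal fractions. -/
noncomputable def symT (x₁ x₂ y₁ y₂ : B) : ResidueField B :=
  tameSymbol B x₁ y₁ * tameSymbol B x₂ y₂ / (tameSymbol B x₁ y₂ * tameSymbol B x₂ y₁)

variable {B} [IsNoetherianRing B] (hB : ringKrullDim B ≤ 1)

local notation "nz" => nonZeroDivisors B
local notation "∂" => tameSymbol B

include hB

theorem ts_ne_zero {a b : B} (ha : a ∈ nz) (hb : b ∈ nz) : ∂ a b ≠ 0 :=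
  (tameSymbol_laws_le B hB).1 a b ha hb

theorem ts_mul_left {a a' b : B} (ha : a ∈ nz) (ha' : a' ∈ nz) (hb : b ∈ nz) :
    ∂ (a * a') b = ∂ a b * ∂ a' b :=
  ((tameSymbol_laws_le B hB).2.1 a a' b ha ha' hb).1

theorem ts_mul_right {a a' b : B} (ha : a ∈ nz) (ha' : a' ∈ nz) (hb : b ∈ nz) :
    ∂ b (a * a') = ∂ b a * ∂ b a' :=
  ((tameSymbol_laws_le B hB).2.1 a a' b ha ha' hb).2

theorem ts_diag {b : B} (hb : b ∈ nz) :
    ∂ b b = (-1) ^ (Module.length B (B ⧸ Ideal.span {b})).toNat :=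
  (tameSymbol_laws_le B hB).2.2.1 b hb

theorem ts_unit_left (c : Bˣ) {b : B} (hb : b ∈ nz) :
    ∂ (c : B) b = residue B (c : B) ^ (Module.length B (B ⧸ Ideal.span {b})).toNat :=
  (tameSymbol_laws_le B hB).2.2.2.1 c b hb

omit hB in
theorem length_span_unit (c : Bˣ) : Module.length B (B ⧸ Ideal.span {(c : B)}) = 0 := by
  rw [Ideal.span_singleton_eq_top.2 c.isUnit, Module.length_eq_zero_iff]
  exact Ideal.Quotient.subsingleton_iff.2 rfl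

omit hB in
theorem span_unit_mul (c : Bˣ) (b : B) : Ideal.span {(c : B) * b} = Ideal.span {b} :=
  Ideal.span_singleton_mul_left_unit c.isUnit b

theorem ts_unit_right (c : Bˣ) {b : B} (hb : b ∈ nz) :
    ∂ b (c : B) = (residue B (c : B) ^ (Module.length B (B ⧸ Ideal.span {b})).toNat)⁻¹ := by
  have hc : (c : B) ∈ nz := c.isUnit.mem_nonZeroDivisors
  have hcb : (c : B) * b ∈ nz := mul_mem hc hb
  have h1 := ts_diag hB hcb
  rw [span_unit_mul, ts_mul_left hB hc hb hcb, ts_mul_right hB hc hb hc,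
    ts_mul_right hB hc hb hb, ts_unit_left hB c hc, length_span_unit, ENat.toNat_zero, pow_zero, one_mul,
    ts_unit_left hB c hb, ts_diag hB hb] at h1
  have hne : residue B (c : B) ^ (Module.length B (B ⧸ Ideal.span {b})).toNat ≠ 0 :=
    pow_ne_zero _ ((c.isUnit.map (residue B)).ne_zero)
  have hne2 : ((-1 : ResidueField B)) ^ (Module.length B (B ⧸ Ideal.span {b})).toNat ≠ 0 :=
    pow_ne_zero _ (neg_ne_zero.2 one_ne_zero)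
  have h2 : (∂ b (c : B) * residue B (c : B) ^ (Module.length B (B ⧸ Ideal.span {b})).toNat) *
      (-1) ^ (Module.length B (B ⧸ Ideal.span {b})).toNat =
      1 * (-1) ^ (Module.length B (B ⧸ Ideal.span {b})).toNat := by
    rw [one_mul]
    conv_rhs => rw [← h1]
    ring
  have h3 := mul_right_cancel₀ hne2 h2
  exact eq_inv_of_mul_eq_one_left h3

theorem symT_ne_zero {x₁ x₂ y₁ y₂ : B} (hx₁ : x₁ ∈ nz) (hx₂ : x₂ ∈ nz) (hy₁ : y₁ ∈ nz)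
    (hy₂ : y₂ ∈ nz) : symT B x₁ x₂ y₁ y₂ ≠ 0 := by
  unfold symT
  exact div_ne_zero (mul_ne_zero (ts_ne_zero hB hx₁ hy₁) (ts_ne_zero hB hx₂ hy₂))
    (mul_ne_zero (ts_ne_zero hB hx₁ hy₂) (ts_ne_zero hB hx₂ hy₁))

theorem symT_congr_left {x₁ x₂ x₁' x₂' y₁ y₂ : B} (hx₁ : x₁ ∈ nz) (hx₂ : x₂ ∈ nz)
    (hx₁' : x₁' ∈ nz) (hx₂' : x₂' ∈ nz) (hy₁ : y₁ ∈ nz) (hy₂ : y₂ ∈ nz)
    (h : x₁ * x₂' = x₁' * x₂) : symT B x₁ x₂ y₁ y₂ = symT B x₁' x₂' y₁ y₂ := by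
  unfold symT
  have e1 : ∂ x₁ y₁ * ∂ x₂' y₁ = ∂ x₁' y₁ * ∂ x₂ y₁ := by
    rw [← ts_mul_left hB hx₁ hx₂' hy₁, ← ts_mul_left hB hx₁' hx₂ hy₁, h]
  have e2 : ∂ x₁ y₂ * ∂ x₂' y₂ = ∂ x₁' y₂ * ∂ x₂ y₂ := by
    rw [← ts_mul_left hB hx₁ hx₂' hy₂, ← ts_mul_left hB hx₁' hx₂ hy₂, h]
  rw [div_eq_div_iff (mul_ne_zero (ts_ne_zero hB hx₁ hy₂) (ts_ne_zero hB hx₂ hy₁))
    (mul_ne_zero (ts_ne_zero hB hx₁' hy₂) (ts_ne_zero hB hx₂' hy₁))]
  calc ∂ x₁ y₁ * ∂ x₂ y₂ * (∂ x₁' y₂ * ∂ x₂' y₁)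
      = (∂ x₁ y₁ * ∂ x₂' y₁) * (∂ x₁' y₂ * ∂ x₂ y₂) := by ring
    _ = (∂ x₁' y₁ * ∂ x₂ y₁) * (∂ x₁ y₂ * ∂ x₂' y₂) := by rw [e1, e2]
    _ = ∂ x₁' y₁ * ∂ x₂' y₂ * (∂ x₁ y₂ * ∂ x₂ y₁) := by ring

theorem symT_congr_right {x₁ x₂ y₁ y₂ y₁' y₂' : B} (hx₁ : x₁ ∈ nz) (hx₂ : x₂ ∈ nz)
    (hy₁ : y₁ ∈ nz) (hy₂ : y₂ ∈ nz) (hy₁' : y₁' ∈ nz) (hy₂' : y₂' ∈ nz)
    (h : y₁ * y₂' = y₁' * y₂) : symT B x₁ x₂ y₁ y₂ = symT B x₁ x₂ y₁' y₂' := by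
  unfold symT
  have e1 : ∂ x₁ y₁ * ∂ x₁ y₂' = ∂ x₁ y₁' * ∂ x₁ y₂ := by
    rw [← ts_mul_right hB hy₁ hy₂' hx₁, ← ts_mul_right hB hy₁' hy₂ hx₁, h]
  have e2 : ∂ x₂ y₁ * ∂ x₂ y₂' = ∂ x₂ y₁' * ∂ x₂ y₂ := by
    rw [← ts_mul_right hB hy₁ hy₂' hx₂, ← ts_mul_right hB hy₁' hy₂ hx₂, h]
  rw [div_eq_div_iff (mul_ne_zero (ts_ne_zero hB hx₁ hy₂) (ts_ne_zero hB hx₂ hy₁))
    (mul_ne_zero (ts_ne_zero hB hx₁ hy₂') (ts_ne_zero hB hx₂ hy₁'))]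
  calc ∂ x₁ y₁ * ∂ x₂ y₂ * (∂ x₁ y₂' * ∂ x₂ y₁')
      = (∂ x₁ y₁ * ∂ x₁ y₂') * (∂ x₂ y₁' * ∂ x₂ y₂) := by ring
    _ = (∂ x₁ y₁' * ∂ x₁ y₂) * (∂ x₂ y₁ * ∂ x₂ y₂') := by rw [e1, e2]
    _ = ∂ x₁ y₁' * ∂ x₂ y₂' * (∂ x₁ y₂ * ∂ x₂ y₁) := by ring

theorem symT_mul_left {x₁ x₂ x₁' x₂' y₁ y₂ : B} (hx₁ : x₁ ∈ nz) (hx₂ : x₂ ∈ nz)
    (hx₁' : x₁' ∈ nz) (hx₂' : x₂' ∈ nz) (hy₁ : y₁ ∈ nz) (hy₂ : y₂ ∈ nz) :
    symT B (x₁ * x₁') (x₂ * x₂') y₁ y₂ = symT B x₁ x₂ y₁ y₂ * symT B x₁' x₂' y₁ y₂ := by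
  unfold symT
  rw [ts_mul_left hB hx₁ hx₁' hy₁, ts_mul_left hB hx₂ hx₂' hy₂, ts_mul_left hB hx₁ hx₁' hy₂,
    ts_mul_left hB hx₂ hx₂' hy₁, div_mul_div_comm]
  congr 1 <;> ring

theorem symT_mul_right {x₁ x₂ y₁ y₂ y₁' y₂' : B} (hx₁ : x₁ ∈ nz) (hx₂ : x₂ ∈ nz)
    (hy₁ : y₁ ∈ nz) (hy₂ : y₂ ∈ nz) (hy₁' : y₁' ∈ nz) (hy₂' : y₂' ∈ nz) :
    symT B x₁ x₂ (y₁ * y₁') (y₂ * y₂') = symT B x₁ x₂ y₁ y₂ * symT B x₁ x₂ y₁' y₂' := by
  unfold symT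
  rw [ts_mul_right hB hy₁ hy₁' hx₁, ts_mul_right hB hy₂ hy₂' hx₂, ts_mul_right hB hy₂ hy₂' hx₁,
    ts_mul_right hB hy₁ hy₁' hx₂, div_mul_div_comm]
  congr 1 <;> ring

theorem symT_unit_left (c : Bˣ) {y₁ y₂ : B} (hy₁ : y₁ ∈ nz) (hy₂ : y₂ ∈ nz) :
    symT B (c : B) 1 y₁ y₂ =
      residue B (c : B) ^ (Module.length B (B ⧸ Ideal.span {y₁})).toNat /
        residue B (c : B) ^ (Module.length B (B ⧸ Ideal.span {y₂})).toNat := by
  unfold symT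
  have h1 := ts_unit_left hB (1 : Bˣ) hy₁
  have h2 := ts_unit_left hB (1 : Bˣ) hy₂
  rw [Units.val_one, map_one, one_pow] at h1 h2
  rw [ts_unit_left hB c hy₁, ts_unit_left hB c hy₂, h1, h2, mul_one, mul_one]

theorem symT_unit_right (c : Bˣ) {x₁ x₂ : B} (hx₁ : x₁ ∈ nz) (hx₂ : x₂ ∈ nz) :
    symT B x₁ x₂ (c : B) 1 =
      residue B (c : B) ^ (Module.length B (B ⧸ Ideal.span {x₂})).toNat /
        residue B (c : B) ^ (Module.length B (B ⧸ Ideal.span {x₁})).toNat := by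
  unfold symT
  have h1 := ts_unit_right hB (1 : Bˣ) hx₁
  have h2 := ts_unit_right hB (1 : Bˣ) hx₂
  rw [Units.val_one, map_one, one_pow, inv_one] at h1 h2
  rw [ts_unit_right hB c hx₁, ts_unit_right hB c hx₂, h1, h2, mul_one, one_mul,
    inv_div_inv]

end SymT

section TameK

open Groth.Agent.Lib.Helper24.LatDist Groth.Agent.Lib.Helper18.CycDiv

variable (B : Type u) [CommRing B] [IsLocalRing B] [IsDomain B]
  (K : Type u) [Field K] [Algebra B K] [IsFractionRing B K]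

/-- The tame symbol of two elements of the fraction field. -/
noncomputable def tameK (a b : K) : ResidueField B :=
  symT B (IsLocalization.sec (nonZeroDivisors B) a).1 (IsLocalization.sec (nonZeroDivisors B) a).2
    (IsLocalization.sec (nonZeroDivisors B) b).1 (IsLocalization.sec (nonZeroDivisors B) b).2

variable {B K}

theorem sec_facts {x₁ x₂ : B} (hx₁ : x₁ ≠ 0) (hx₂ : x₂ ≠ 0) :
    (IsLocalization.sec (nonZeroDivisors B) (algebraMap B K x₁ / algebraMap B K x₂)).1 ≠ 0 ∧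
    (IsLocalization.sec (nonZeroDivisors B) (algebraMap B K x₁ / algebraMap B K x₂)).1 * x₂ =
      x₁ * ((IsLocalization.sec (nonZeroDivisors B)
        (algebraMap B K x₁ / algebraMap B K x₂)).2 : B) := by
  have hinj := IsFractionRing.injective B K
  have hx₂' : algebraMap B K x₂ ≠ 0 := fun h0 => hx₂ (hinj (by rw [h0, map_zero]))
  have hx₁' : algebraMap B K x₁ ≠ 0 := fun h0 => hx₁ (hinj (by rw [h0, map_zero]))
  have hspec := IsLocalization.sec_spec (nonZeroDivisors B)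
    (algebraMap B K x₁ / algebraMap B K x₂)
  set n := IsLocalization.sec (nonZeroDivisors B) (algebraMap B K x₁ / algebraMap B K x₂)
  have hn2 : algebraMap B K (n.2 : B) ≠ 0 := fun h0 =>
    nonZeroDivisors.ne_zero n.2.2 (hinj (by rw [h0, map_zero]))
  have key : n.1 * x₂ = x₁ * (n.2 : B) := by
    apply hinj
    rw [map_mul, map_mul, ← hspec]
    field_simp
  refine ⟨?_, key⟩
  intro h0
  rw [h0, zero_mul] at key
  exact (mul_ne_zero hx₁ (nonZeroDivisors.ne_zero n.2.2)) key.symm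

variable [IsNoetherianRing B] (hB : ringKrullDim B ≤ 1)

include hB

theorem tameK_eq {x₁ x₂ y₁ y₂ : B} (hx₁ : x₁ ≠ 0) (hx₂ : x₂ ≠ 0) (hy₁ : y₁ ≠ 0)
    (hy₂ : y₂ ≠ 0) :
    tameK B K (algebraMap B K x₁ / algebraMap B K x₂) (algebraMap B K y₁ / algebraMap B K y₂) =
      symT B x₁ x₂ y₁ y₂ := by
  unfold tameK
  obtain ⟨h1, h2⟩ := sec_facts (K := K) hx₁ hx₂
  obtain ⟨h3, h4⟩ := sec_facts (K := K) hy₁ hy₂
  have nzd : ∀ {z : B}, z ≠ 0 → z ∈ nonZeroDivisors B := fun hz =>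
    mem_nonZeroDivisors_of_ne_zero hz
  rw [symT_congr_left hB (nzd h1) (SetLike.coe_mem _) (nzd hx₁) (nzd hx₂) (nzd h3)
    (SetLike.coe_mem _) h2,
    symT_congr_right hB (nzd hx₁) (nzd hx₂) (nzd h3) (SetLike.coe_mem _) (nzd hy₁) (nzd hy₂) h4]

omit hB [IsNoetherianRing B] in
theorem exists_frac {a : K} (ha : a ≠ 0) : ∃ x₁ x₂ : B, x₁ ≠ 0 ∧ x₂ ≠ 0 ∧
    a = algebraMap B K x₁ / algebraMap B K x₂ := by
  obtain ⟨x₁, x₂, hx₂, rfl⟩ := IsFractionRing.div_surjective (A := B) a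
  refine ⟨x₁, x₂, ?_, nonZeroDivisors.ne_zero hx₂, rfl⟩
  rintro rfl
  simp at ha

theorem tameK_ne_zero {a b : K} (ha : a ≠ 0) (hb : b ≠ 0) : tameK B K a b ≠ 0 := by
  obtain ⟨x₁, x₂, hx₁, hx₂, rfl⟩ := exists_frac (B := B) ha
  obtain ⟨y₁, y₂, hy₁, hy₂, rfl⟩ := exists_frac (B := B) hb
  rw [tameK_eq hB hx₁ hx₂ hy₁ hy₂]
  exact symT_ne_zero hB (mem_nonZeroDivisors_of_ne_zero hx₁) (mem_nonZeroDivisors_of_ne_zero hx₂)
    (mem_nonZeroDivisors_of_ne_zero hy₁) (mem_nonZeroDivisors_of_ne_zero hy₂)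

theorem tameK_mul_left {a a' b : K} (ha : a ≠ 0) (ha' : a' ≠ 0) (hb : b ≠ 0) :
    tameK B K (a * a') b = tameK B K a b * tameK B K a' b := by
  obtain ⟨x₁, x₂, hx₁, hx₂, rfl⟩ := exists_frac (B := B) ha
  obtain ⟨x₁', x₂', hx₁', hx₂', rfl⟩ := exists_frac (B := B) ha'
  obtain ⟨y₁, y₂, hy₁, hy₂, rfl⟩ := exists_frac (B := B) hb
  have hmul : algebraMap B K x₁ / algebraMap B K x₂ * (algebraMap B K x₁' / algebraMap B K x₂') =
      algebraMap B K (x₁ * x₁') / algebraMap B K (x₂ * x₂') := by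
    rw [map_mul, map_mul, div_mul_div_comm]
  rw [hmul, tameK_eq hB (mul_ne_zero hx₁ hx₁') (mul_ne_zero hx₂ hx₂') hy₁ hy₂,
    tameK_eq hB hx₁ hx₂ hy₁ hy₂, tameK_eq hB hx₁' hx₂' hy₁ hy₂]
  exact symT_mul_left hB (mem_nonZeroDivisors_of_ne_zero hx₁) (mem_nonZeroDivisors_of_ne_zero hx₂)
    (mem_nonZeroDivisors_of_ne_zero hx₁') (mem_nonZeroDivisors_of_ne_zero hx₂')
    (mem_nonZeroDivisors_of_ne_zero hy₁) (mem_nonZeroDivisors_of_ne_zero hy₂)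

theorem tameK_mul_right {a b b' : K} (ha : a ≠ 0) (hb : b ≠ 0) (hb' : b' ≠ 0) :
    tameK B K a (b * b') = tameK B K a b * tameK B K a b' := by
  obtain ⟨x₁, x₂, hx₁, hx₂, rfl⟩ := exists_frac (B := B) ha
  obtain ⟨y₁, y₂, hy₁, hy₂, rfl⟩ := exists_frac (B := B) hb
  obtain ⟨y₁', y₂', hy₁', hy₂', rfl⟩ := exists_frac (B := B) hb'
  have hmul : algebraMap B K y₁ / algebraMap B K y₂ * (algebraMap B K y₁' / algebraMap B K y₂') =
      algebraMap B K (y₁ * y₁') / algebraMap B K (y₂ * y₂') := by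
    rw [map_mul, map_mul, div_mul_div_comm]
  rw [hmul, tameK_eq hB hx₁ hx₂ (mul_ne_zero hy₁ hy₁') (mul_ne_zero hy₂ hy₂'),
    tameK_eq hB hx₁ hx₂ hy₁ hy₂, tameK_eq hB hx₁ hx₂ hy₁' hy₂']
  exact symT_mul_right hB (mem_nonZeroDivisors_of_ne_zero hx₁) (mem_nonZeroDivisors_of_ne_zero hx₂)
    (mem_nonZeroDivisors_of_ne_zero hy₁) (mem_nonZeroDivisors_of_ne_zero hy₂)
    (mem_nonZeroDivisors_of_ne_zero hy₁') (mem_nonZeroDivisors_of_ne_zero hy₂')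

theorem tameK_unit_left (c : Bˣ) {b : K} (hb : b ≠ 0) :
    tameK B K (algebraMap B K (c : B)) b = residue B (c : B) ^ (ordFrac B K b) := by
  haveI : Ring.KrullDimLE 1 B := (Order.krullDimLE_iff 1 _).2 hB
  obtain ⟨y₁, y₂, hy₁, hy₂, rfl⟩ := exists_frac (B := B) hb
  have h1 : algebraMap B K (c : B) = algebraMap B K (c : B) / algebraMap B K 1 := by
    rw [map_one, div_one]
  rw [h1, tameK_eq hB c.ne_zero one_ne_zero hy₁ hy₂,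
    symT_unit_left hB c (mem_nonZeroDivisors_of_ne_zero hy₁) (mem_nonZeroDivisors_of_ne_zero hy₂),
    ordZ_div hy₁ hy₂]
  have hne : residue B (c : B) ≠ 0 := (c.isUnit.map (residue B)).ne_zero
  rw [zpow_sub₀ hne, zpow_natCast, zpow_natCast]
  rfl

theorem tameK_unit_right (c : Bˣ) {a : K} (ha : a ≠ 0) :
    tameK B K a (algebraMap B K (c : B)) = (residue B (c : B) ^ (ordFrac B K a))⁻¹ := by
  haveI : Ring.KrullDimLE 1 B := (Order.krullDimLE_iff 1 _).2 hB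
  obtain ⟨x₁, x₂, hx₁, hx₂, rfl⟩ := exists_frac (B := B) ha
  have h1 : algebraMap B K (c : B) = algebraMap B K (c : B) / algebraMap B K 1 := by
    rw [map_one, div_one]
  rw [h1, tameK_eq hB hx₁ hx₂ c.ne_zero one_ne_zero,
    symT_unit_right hB c (mem_nonZeroDivisors_of_ne_zero hx₁) (mem_nonZeroDivisors_of_ne_zero hx₂),
    ordZ_div hx₁ hx₂]
  have hne : residue B (c : B) ≠ 0 := (c.isUnit.map (residue B)).ne_zero
  rw [zpow_sub₀ hne, zpow_natCast, zpow_natCast, inv_div]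
  rfl

end TameK

end Groth.Agent.Lib.Helper18.Tame
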