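import Mathlib
import Groth.Agent.Lib.Helper18.Cyc.OrdTransfer
import Groth.Agent.Lib.Helper18.Tame.LocalSymbol

/-!
# Transport of monomial presentations and their symbols along ring isomorphisms
-/

set_option autoImplicit false
universe u

namespace Groth.Agent.Lib.Helper18.Tame

open IsLocalRing

variable {L L' : Type u} [CommRing L] [CommRing L']

/-- Transport of a presentation along a ring isomorphism. -/
def Pres.mapEquiv (j : L ≃+* L') {x₁ x₂ : L} (P : Pres L x₁ x₂) : Pres L' (j x₁) (j x₂) where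
  π := j P.π
  π_mem := (Groth.Agent.Lib.Helper18.CycDiv.mem_nonZeroDivisors_iff_of_ringEquiv j _).1 P.π_mem
  u₁ := Units.map j.toMonoidHom P.u₁
  u₂ := Units.map j.toMonoidHom P.u₂
  e₁ := P.e₁
  e₂ := P.e₂
  fac₁ := by
    conv_lhs => rw [P.fac₁]
    rw [map_mul, map_pow]
    rfl
  fac₂ := by
    conv_lhs => rw [P.fac₂]
    rw [map_mul, map_pow]
    rfl

theorem Pres.mapEquiv_theta [IsLocalRing L] [IsLocalRing L'] (j : L ≃+* L') {x₁ x₂ : L}
    (P : Pres L x₁ x₂) :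
    (P.mapEquiv j).theta = ResidueField.mapEquiv j P.theta := by
  unfold Pres.theta Pres.base
  rw [map_pow, map_mul, map_mul, map_pow, map_pow, map_inv₀, map_pow, map_neg, map_one]
  have hord : Ring.ord L' (P.mapEquiv j).π = Ring.ord L P.π :=
    (Groth.Agent.Lib.Helper18.CycDiv.ord_eq_of_ringEquiv j P.π).symm
  rw [hord]
  rfl

/-- Change of the elements presented, along equalities. -/
def Pres.cast {x₁ x₂ y₁ y₂ : L} (P : Pres L x₁ x₂) (h₁ : x₁ = y₁) (h₂ : x₂ = y₂) :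
    Pres L y₁ y₂ where
  π := P.π
  π_mem := P.π_mem
  u₁ := P.u₁
  u₂ := P.u₂
  e₁ := P.e₁
  e₂ := P.e₂
  fac₁ := h₁ ▸ P.fac₁
  fac₂ := h₂ ▸ P.fac₂

theorem Pres.cast_theta [IsLocalRing L] {x₁ x₂ y₁ y₂ : L} (P : Pres L x₁ x₂) (h₁ : x₁ = y₁)
    (h₂ : x₂ = y₂) : (P.cast h₁ h₂).theta = P.theta := rfl

end Groth.Agent.Lib.Helper18.Tame
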