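import Mathlib
import Groth.Agent.Lib.Helper18.Tame.Monomialize

/-!
# Persistent monomialization: the presentations survive every further extension
-/

set_option autoImplicit false
universe u

namespace Groth.Agent.Lib.Helper18.Tame

variable {A : Type u} [CommRing A] [IsNoetherianRing A] [IsLocalRing A]
  {Q : Type u} [CommRing Q] [Algebra A Q] [IsFractionRing A Q]

/-- After a finite extension `C'`, finitely many nonzerodivisors are monomials in one local
parameter at each maximal ideal of every subalgebra containing `C'`. -/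
theorem exists_finSub_local_monomial_ge (hA : ringKrullDim A ≤ 1) (C : Subalgebra A Q)
    [Module.Finite A C] (T : Finset Q) (hT : ∀ x ∈ T, x ∈ C ∧ IsUnit x) :
    ∃ (C' : Subalgebra A Q) (hCC' : C ≤ C'), Module.Finite A C' ∧
      ∀ (C'' : Subalgebra A Q) (hC'C'' : C' ≤ C'') (q : MaximalSpectrum C''),
        ∃ π : Localization.AtPrime q.asIdeal,
        π ∈ nonZeroDivisors (Localization.AtPrime q.asIdeal) ∧
        ∀ x (hx : x ∈ T), ∃ (v : (Localization.AtPrime q.asIdeal)ˣ) (e : ℕ),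
          algebraMap C'' (Localization.AtPrime q.asIdeal)
            ⟨x, hC'C'' (hCC' (hT x hx).1)⟩ = v * π ^ e := by
  classical
  obtain ⟨C', hCC', hC', S', hS', hmon, hcomax⟩ :=
    exists_pairwise_comax hA (mu C T) C inferInstance T hT rfl
  refine ⟨C', hCC', hC', fun C'' hC'C'' q => ?_⟩
  haveI := q.isMaximal.isPrime
  let SB : Finset C'' := S'.subtype (fun x => x ∈ C'')
  have hSBval : Subtype.val '' (SB : Set C'') = (S' : Set Q) := by
    ext x
    constructor
    · rintro ⟨y, hy, rfl⟩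
      exact Finset.mem_subtype.1 hy
    · intro hx
      exact ⟨⟨x, hC'C'' (hS' x hx).1⟩, Finset.mem_subtype.2 hx, rfl⟩
  obtain ⟨π, hπ, hloc⟩ := exists_local_monomial q.asIdeal SB
    (fun s hs => mem_nonZeroDivisors_of_isUnit_val C'' s (hS' _ (Finset.mem_subtype.1 hs)).2)
    (by
      intro s hs s' hs' hne
      obtain ⟨α, hα, β, hβ, e⟩ := hcomax s.1 (Finset.mem_subtype.1 hs) s'.1
        (Finset.mem_subtype.1 hs') (fun h => hne (Subtype.ext h))
      exact ⟨⟨α, hC'C'' hα⟩, ⟨β, hC'C'' hβ⟩, Subtype.ext e⟩)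
  refine ⟨π, hπ, fun x hx => ?_⟩
  obtain ⟨v, hv, v', hv', e, m, hm, hxm⟩ := hmon x hx
  have hm' : m ∈ (Submonoid.closure (SB : Set C'')).map C''.val.toMonoidHom := by
    rw [MonoidHom.map_mclosure]
    have : (C''.val.toMonoidHom : C'' → Q) '' (SB : Set C'') = (S' : Set Q) := hSBval
    rw [this]
    exact hm
  obtain ⟨m', hm'c, hm'e⟩ := hm'
  let vu : C''ˣ := ⟨⟨v, hC'C'' hv⟩, ⟨v', hC'C'' hv'⟩, Subtype.ext e,
    Subtype.ext (by rw [mul_comm]; exact e)⟩
  obtain ⟨w, k, hw⟩ := hloc m' hm'c vu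
  refine ⟨w, k, ?_⟩
  rw [← hw]
  congr 1
  apply Subtype.ext
  show x = v * (m' : Q)
  rw [hxm]
  congr 1
  exact hm'e.symm

end Groth.Agent.Lib.Helper18.Tame
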