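import Mathlib
import Groth.Prelude.Def_Tame
import Groth.Agent.Lib.Helper18.Tame.Common
import Groth.Agent.Lib.Helper18.Cyc.OrdTransfer

/-!
# The tame symbol is compatible with ring isomorphisms
-/

set_option autoImplicit false
set_option maxHeartbeats 800000
set_option linter.style.haveILetI false
set_option linter.unusedSectionVars false
universe u

namespace Groth.Agent.Lib.Helper18.Tame

open IsLocalRing CycAlg

section Transport

variable {R R' : Type u} [CommRing R] [CommRing R'] [IsLocalRing R] [IsLocalRing R']

/-- Transport of tame data along a ring isomorphism of the base. -/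
noncomputable def tdMap (j : R ≃+* R') {x y : R} (D : TameData R x y) :
    TameData R' (j x) (j y) :=
  letI algR'B : Algebra R' D.B := ((algebraMap R D.B).comp j.symm.toRingHom).toAlgebra
  have hmap : ∀ r' : R', algebraMap R' D.B r' = algebraMap R D.B (j.symm r') := fun _ => rfl
  have hmapL : ∀ (q : MaximalSpectrum D.B) (r' : R'),
      algebraMap R' (Localization.AtPrime q.asIdeal) r' =
        algebraMap R (Localization.AtPrime q.asIdeal) (j.symm r') := by
    intro q r'
    rw [IsScalarTower.algebraMap_apply R' D.B (Localization.AtPrime q.asIdeal), hmap,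
      ← IsScalarTower.algebraMap_apply]
  { B := D.B
    isFinExt := by
      refine ⟨?_, ?_, ?_⟩
      · intro a b hab
        rw [hmap, hmap] at hab
        exact j.symm.injective (D.isFinExt.1 hab)
      · haveI : Module.Finite R D.B := D.isFinExt.2.1
        letI : Algebra R R' := j.toRingHom.toAlgebra
        haveI : IsScalarTower R R' D.B := by
          apply IsScalarTower.of_algebraMap_eq
          intro r
          rw [hmap]
          show _ = algebraMap R D.B (j.symm (j r))
          rw [RingEquiv.symm_apply_apply]
        exact Module.Finite.of_restrictScalars_finite R R' D.B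
      · obtain ⟨n, hn⟩ := D.isFinExt.2.2
        refine ⟨n, fun r' hr' b => ?_⟩
        have hr : j.symm r' ∈ maximalIdeal R ^ n := by
          have h1 : (maximalIdeal R' ^ n).map (j.symm : R' →+* R) = maximalIdeal R ^ n := by
            rw [Ideal.map_pow, map_maximalIdeal_of_surjective (j.symm : R' →+* R) j.symm.surjective]
          rw [← h1]
          exact Ideal.mem_map_of_mem _ hr'
        obtain ⟨r₀, hr₀⟩ := hn (j.symm r') hr b
        refine ⟨j r₀, ?_⟩
        rw [hmap, RingEquiv.symm_apply_apply, hr₀, Algebra.smul_def, Algebra.smul_def, hmap]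
    isLocalHom := by
      intro q
      haveI := D.isLocalHom q
      constructor
      intro r' hr'
      rw [hmapL] at hr'
      have := isUnit_of_map_unit (algebraMap R (Localization.AtPrime q.asIdeal)) _ hr'
      have h2 := this.map j
      rwa [RingEquiv.apply_symm_apply] at h2
    π := D.π
    π_mem := D.π_mem
    u₁ := D.u₁
    u₂ := D.u₂
    e₁ := D.e₁
    e₂ := D.e₂
    fac₁ := by
      intro q
      rw [hmapL, RingEquiv.symm_apply_apply]
      exact D.fac₁ q
    fac₂ := by
      intro q
      rw [hmapL, RingEquiv.symm_apply_apply]
      exact D.fac₂ q }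

theorem tdMap_algebraMap (j : R ≃+* R') {x y : R} (D : TameData R x y)
    (q : MaximalSpectrum D.B) (r : R) :
    letI : Algebra R' D.B := (tdMap j D).algebra
    algebraMap R' (Localization.AtPrime q.asIdeal) (j r) =
      algebraMap R (Localization.AtPrime q.asIdeal) r := by
  letI algR'B : Algebra R' D.B := ((algebraMap R D.B).comp j.symm.toRingHom).toAlgebra
  show algebraMap R' (Localization.AtPrime q.asIdeal) (j r) = _
  rw [IsScalarTower.algebraMap_apply R' D.B (Localization.AtPrime q.asIdeal)]
  show algebraMap D.B (Localization.AtPrime q.asIdeal) (algebraMap R D.B (j.symm (j r))) = _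
  rw [RingEquiv.symm_apply_apply, ← IsScalarTower.algebraMap_apply]

theorem tdMap_localFactor (j : R ≃+* R') {x y : R} (D : TameData R x y)
    (q : MaximalSpectrum D.B) :
    (tdMap j D).localFactor q = ResidueField.mapEquiv j (D.localFactor q) := by
  unfold TameData.localFactor
  rw [map_pow]
  haveI := D.isLocalHom q
  letI : Algebra R' D.B := (tdMap j D).algebra
  haveI : IsLocalHom (algebraMap R' (Localization.AtPrime q.asIdeal)) := (tdMap j D).isLocalHom q
  have he : (algebraMap (ResidueField R') (ResidueField (Localization.AtPrime q.asIdeal))).comp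
      (ResidueField.mapEquiv j : ResidueField R →+* ResidueField R') =
      algebraMap (ResidueField R) (ResidueField (Localization.AtPrime q.asIdeal)) := by
    apply RingHom.ext
    intro z
    obtain ⟨r, rfl⟩ := residue_surjective z
    show ResidueField.map (algebraMap R' (Localization.AtPrime q.asIdeal))
      (ResidueField.map (j : R →+* R') (residue R r)) =
      ResidueField.map (algebraMap R (Localization.AtPrime q.asIdeal)) (residue R r)
    rw [ResidueField.map_residue, ResidueField.map_residue, ResidueField.map_residue]
    congr 1
    exact tdMap_algebraMap j D q r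
  exact congrArg (· ^ _) (Algebra.norm_eq_of_ringEquiv (ResidueField.mapEquiv j) he _).symm

theorem tdMap_value (j : R ≃+* R') {x y : R} (D : TameData R x y) :
    (tdMap j D).value = ResidueField.mapEquiv j D.value := by
  unfold TameData.value
  have h := MonoidHom.map_finprod_of_injective
    ((ResidueField.mapEquiv j).toMonoidHom : ResidueField R →* ResidueField R')
    (ResidueField.mapEquiv j).injective (fun q : MaximalSpectrum D.B => D.localFactor q)
  refine Eq.trans ?_ h.symm
  exact finprod_congr (fun q => tdMap_localFactor j D q)

end Transport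

section Symbol

variable {R R' : Type u} [CommRing R] [CommRing R'] [IsLocalRing R] [IsLocalRing R']
  [IsNoetherianRing R]

/-- The tame symbol commutes with ring isomorphisms. -/
theorem tameSymbol_mapEquiv (hR : ringKrullDim R ≤ 1) (j : R ≃+* R') {x y : R}
    (hx : x ∈ nonZeroDivisors R) (hy : y ∈ nonZeroDivisors R) :
    tameSymbol R' (j x) (j y) = ResidueField.mapEquiv j (tameSymbol R x y) := by
  classical
  haveI : IsNoetherianRing R' := isNoetherianRing_of_ringEquiv R j
  have hR' : ringKrullDim R' ≤ 1 := (ringKrullDim_eq_of_ringEquiv j).symm.le.trans hR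
  have hx' : j x ∈ nonZeroDivisors R' :=
    (Groth.Agent.Lib.Helper18.CycDiv.mem_nonZeroDivisors_iff_of_ringEquiv j _).1 hx
  have hy' : j y ∈ nonZeroDivisors R' :=
    (Groth.Agent.Lib.Helper18.CycDiv.mem_nonZeroDivisors_iff_of_ringEquiv j _).1 hy
  obtain ⟨Dc⟩ := exists_commonData hR ({x, y} : Finset R) (by
    intro z hz
    rcases Finset.mem_insert.1 hz with h | h
    · exact h ▸ hx
    · exact (Finset.mem_singleton.1 h) ▸ hy)
  let D : TameData R x y := Dc.tameData x y (Dc.v x) (Dc.v y) (Dc.k x) (Dc.k y)
    (Dc.fac x (Finset.mem_insert_self _ _))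
    (Dc.fac y (Finset.mem_insert_of_mem (Finset.mem_singleton_self _)))
  rw [tameSymbol_eq_value hR hx hy D, tameSymbol_eq_value hR' hx' hy' (tdMap j D),
    tdMap_value]

end Symbol

end Groth.Agent.Lib.Helper18.Tame
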