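import Mathlib
import Groth.Prelude.Def_Tame
import Groth.Agent.Lib.Helper18.Tame.Indep
import Groth.Agent.Lib.Helper18.Tame.SemiLocal

/-!
# Base change of tame data along a flat local homomorphism
-/

set_option autoImplicit false
universe u
open IsLocalRing TensorProduct

namespace Groth.Agent.Lib.Helper18.Tame.BC

open CycAlg

section Setup

variable {A A' : Type u} [CommRing A] [CommRing A'] [IsLocalRing A] [IsLocalRing A']
  [Algebra A A'] [IsLocalHom (algebraMap A A')]
variable {B : Type u} [CommRing B] [Algebra A B]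

variable (A A') in
/-- The map `B → A' ⊗ B`. -/
noncomputable abbrev inr : B →ₐ[A] A' ⊗[A] B := Algebra.TensorProduct.includeRight

omit [IsLocalRing A] [IsLocalRing A'] [IsLocalHom (algebraMap A A')] in
theorem inr_comp_algebraMap :
    (inr A A' (B := B)).toRingHom.comp (algebraMap A B) =
      (algebraMap A' (A' ⊗[A] B)).comp (algebraMap A A') := by
  ext a
  show (1 : A') ⊗ₜ[A] (algebraMap A B a) = algebraMap A' (A' ⊗[A] B) (algebraMap A A' a)
  rw [Algebra.TensorProduct.algebraMap_apply, Algebra.algebraMap_self, RingHom.id_apply,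
    Algebra.algebraMap_eq_smul_one, Algebra.algebraMap_eq_smul_one (R := A) (A := A'),
    TensorProduct.smul_tmul]

variable [Module.Finite A B]

/-- The maximal ideal of `B` under a maximal ideal of `A' ⊗ B`. -/
noncomputable def under' (q' : MaximalSpectrum (A' ⊗[A] B)) : MaximalSpectrum B :=
  ⟨q'.asIdeal.comap (inr A A' (B := B)).toRingHom, by
    haveI := q'.isMaximal
    have h1 : (q'.asIdeal.comap (inr A A' (B := B)).toRingHom).comap (algebraMap A B) =
        maximalIdeal A := by
      rw [Ideal.comap_comap, inr_comp_algebraMap, ← Ideal.comap_comap,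
        under_eq_maximalIdeal A' (A' ⊗[A] B) q'.asIdeal, IsLocalRing.maximalIdeal_comap]
    haveI : ((q'.asIdeal.comap (inr A A' (B := B)).toRingHom).comap (algebraMap A B)).IsMaximal := by
      rw [h1]
      exact maximalIdeal.isMaximal A
    exact Ideal.isMaximal_of_isIntegral_of_isMaximal_comap _ this⟩

/-- The local homomorphism `B_q → (A' ⊗ B)_q'`. -/
noncomputable def locHom' (q' : MaximalSpectrum (A' ⊗[A] B)) :
    Localization.AtPrime (under' q').asIdeal →+* Localization.AtPrime q'.asIdeal :=
  Localization.localRingHom _ _ (inr A A' (B := B)).toRingHom rfl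

theorem locHom'_algebraMap (q' : MaximalSpectrum (A' ⊗[A] B)) (b : B) :
    locHom' q' (algebraMap B _ b) = algebraMap (A' ⊗[A] B) _ (inr A A' b) :=
  Localization.localRingHom_to_map _ _ _ rfl b

theorem locHom'_algebraMap_base (q' : MaximalSpectrum (A' ⊗[A] B)) (a : A) :
    locHom' q' (algebraMap A _ a) =
      algebraMap A' (Localization.AtPrime q'.asIdeal) (algebraMap A A' a) := by
  rw [IsScalarTower.algebraMap_apply A B (Localization.AtPrime (under' q').asIdeal),
    locHom'_algebraMap,
    IsScalarTower.algebraMap_apply A' (A' ⊗[A] B) (Localization.AtPrime q'.asIdeal)]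
  congr 1
  exact congrArg (fun f => f a) (inr_comp_algebraMap (A' := A') (B := B))

instance isLocalHom_locHom' (q' : MaximalSpectrum (A' ⊗[A] B)) : IsLocalHom (locHom' q') :=
  Localization.isLocalHom_localRingHom _ _ _ rfl

section Flat

variable [Module.Flat A A']

omit [IsLocalRing A] [IsLocalRing A'] [IsLocalHom (algebraMap A A')] [Module.Finite A B] in
theorem inr_flat : (inr A A' (B := B)).toRingHom.Flat := by
  have h1 : (algebraMap B (B ⊗[A] A')).Flat := RingHom.flat_algebraMap_iff.2 inferInstance
  have h2 : ((Algebra.TensorProduct.comm A B A' : B ⊗[A] A' ≃ₐ[A] A' ⊗[A] B) : B ⊗[A] A' →+* A' ⊗[A] B).Flat :=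
    RingHom.Flat.of_bijective (Algebra.TensorProduct.comm A B A').bijective
  have h3 : (inr A A' (B := B)).toRingHom =
      ((Algebra.TensorProduct.comm A B A' : B ⊗[A] A' ≃ₐ[A] A' ⊗[A] B) :
        B ⊗[A] A' →+* A' ⊗[A] B).comp (algebraMap B (B ⊗[A] A')) := by
    ext b
    show (1 : A') ⊗ₜ[A] b = Algebra.TensorProduct.comm A B A' (algebraMap B (B ⊗[A] A') b)
    rw [Algebra.TensorProduct.algebraMap_apply, Algebra.algebraMap_self, RingHom.id_apply,
      Algebra.TensorProduct.comm_tmul]
  rw [h3]
  exact RingHom.Flat.comp h1 h2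

theorem locHom'_flat (q' : MaximalSpectrum (A' ⊗[A] B)) : (locHom' q').Flat :=
  RingHom.Flat.localRingHom (inr_flat (A := A)) _ _ rfl

/-- Flat ring homomorphisms preserve nonzerodivisors. -/
theorem map_mem_nonZeroDivisors_of_flat {L L' : Type*} [CommRing L] [CommRing L'] (φ : L →+* L')
    (hφ : φ.Flat) {x : L} (hx : x ∈ nonZeroDivisors L) : φ x ∈ nonZeroDivisors L' := by
  letI := φ.toAlgebra
  haveI : Module.Flat L L' := hφ
  have hreg : IsSMulRegular L' x := Module.Flat.isSMulRegular_of_nonZeroDivisors hx
  rw [mem_nonZeroDivisors_iff_right]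
  intro y hy
  apply hreg
  show x • y = x • 0
  rw [smul_zero, Algebra.smul_def, mul_comm]
  exact hy

omit [IsLocalHom (algebraMap A A')] [Module.Finite A B] in
theorem isFinExt_bc (hB : IsFinExt A B (maximalIdeal A))
    (hc : ∃ c : ℕ, maximalIdeal A' ^ c ≤ (maximalIdeal A).map (algebraMap A A')) :
    IsFinExt A' (A' ⊗[A] B) (maximalIdeal A') := by
  obtain ⟨hinj, hfin, n₀, hn₀⟩ := hB
  haveI := hfin
  obtain ⟨c, hc⟩ := hc
  refine ⟨?_, inferInstance, c * n₀, ?_⟩
  · have := Algebra.TensorProduct.includeLeft_injective (R := A) (S := A') (A := A') (B := B) hinj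
    intro x y hxy
    apply this
    simpa [Algebra.TensorProduct.algebraMap_apply] using hxy
  · -- the ideal of elements multiplying everything into the image of `A'`
    let T : Ideal A' :=
      { carrier := {r | ∀ b' : A' ⊗[A] B, r • b' ∈ (algebraMap A' (A' ⊗[A] B)).range}
        add_mem' := by
          intro r r' hr hr' b'
          rw [add_smul]
          exact add_mem (hr b') (hr' b')
        zero_mem' := by
          intro b'
          rw [zero_smul]
          exact zero_mem _
        smul_mem' := by
          intro a' r hr b'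
          obtain ⟨x, hx⟩ := hr b'
          refine ⟨a' * x, ?_⟩
          rw [map_mul, hx, smul_eq_mul, mul_smul, Algebra.smul_def a'] }
    have hT : (maximalIdeal A ^ n₀).map (algebraMap A A') ≤ T := by
      rw [Ideal.map_le_iff_le_comap]
      intro x hx b'
      induction b' using TensorProduct.induction_on with
      | zero =>
        rw [smul_zero]
        exact zero_mem _
      | tmul a' b =>
        obtain ⟨y, hy⟩ := hn₀ x hx b
        refine ⟨y • a', ?_⟩
        rw [Algebra.TensorProduct.algebraMap_apply, Algebra.algebraMap_self, RingHom.id_apply,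
          TensorProduct.smul_tmul', smul_eq_mul, ← Algebra.smul_def, TensorProduct.smul_tmul,
          TensorProduct.smul_tmul x a' b, ← hy, Algebra.algebraMap_eq_smul_one]
      | add w₁ w₂ h₁ h₂ =>
        rw [smul_add]
        exact add_mem h₁ h₂
    intro r hr b'
    have h1 : r ∈ (maximalIdeal A ^ n₀).map (algebraMap A A') := by
      rw [Ideal.map_pow]
      rw [pow_mul] at hr
      exact Ideal.pow_right_mono hc n₀ hr
    exact hT h1 b'

end Flat

end Setup

section Data

variable {A A' : Type u} [CommRing A] [CommRing A'] [IsLocalRing A] [IsLocalRing A']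
  [Algebra A A'] [IsLocalHom (algebraMap A A')] [Module.Flat A A'] {a₁ a₂ : A}

/-- The base change of tame data along a flat local homomorphism. -/
@[reducible] noncomputable def bcData (D : TameData A a₁ a₂)
    (hc : ∃ c : ℕ, maximalIdeal A' ^ c ≤ (maximalIdeal A).map (algebraMap A A')) :
    TameData A' (algebraMap A A' a₁) (algebraMap A A' a₂) :=
  haveI : Module.Finite A D.B := D.isFinExt.2.1
  { B := A' ⊗[A] D.B
    isFinExt := isFinExt_bc D.isFinExt hc
    isLocalHom := fun q' => isLocalHom_atPrime_of_integral A' (A' ⊗[A] D.B) q'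
    π := fun q' => locHom' q' (D.π (under' q'))
    π_mem := fun q' => map_mem_nonZeroDivisors_of_flat _ (locHom'_flat q') (D.π_mem _)
    u₁ := fun q' => Units.map (locHom' q' : _ →* _) (D.u₁ (under' q'))
    u₂ := fun q' => Units.map (locHom' q' : _ →* _) (D.u₂ (under' q'))
    e₁ := fun q' => D.e₁ (under' q')
    e₂ := fun q' => D.e₂ (under' q')
    fac₁ := fun q' => by
      rw [← locHom'_algebraMap_base, D.fac₁, map_mul, map_pow]
      rfl
    fac₂ := fun q' => by
      rw [← locHom'_algebraMap_base, D.fac₂, map_mul, map_pow]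
      rfl }

end Data

end Groth.Agent.Lib.Helper18.Tame.BC
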