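import Mathlib
import Groth.Agent.Lib.Helper18.Push.SemiLocal
import Groth.Agent.Lib.Helper18.Push.BCKer

/-!
# Lengths along flat algebras over a local ring, target not necessarily local
-/

set_option autoImplicit false
universe u v
open IsLocalRing TensorProduct Module

namespace Groth.Agent.Lib.Helper18.Tame.FlatLen

open Groth.Agent.Lib.Helper18.SemiLocal

/-- `ℓ_L(L ⊗_Λ M) = ℓ_Λ(M) · ℓ_L(L/𝔪_Λ L)` for a flat algebra `L` over a local ring `Λ` and a
`Λ`-module of finite length. -/
theorem length_baseChange_of_flat {Λ : Type u} {L : Type v} [CommRing Λ] [IsLocalRing Λ]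
    [CommRing L] [Algebra Λ L] [Module.Flat Λ L] (M : Type*) [AddCommGroup M] [Module Λ M]
    (h : IsFiniteLength Λ M) :
    Module.length L (L ⊗[Λ] M) =
      Module.length Λ M * Module.length L (L ⧸ (maximalIdeal Λ).map (algebraMap Λ L)) := by
  obtain ⟨s, hs_bot, hs_top⟩ := isFiniteLength_iff_exists_compositionSeries.mp h
  rw [← Module.length_compositionSeries s hs_bot hs_top]
  have key : ∀ k : Fin (s.length + 1), Module.length L (L ⊗[Λ] (s k)) =
      (k : ℕ) * Module.length L (L ⧸ (maximalIdeal Λ).map (algebraMap Λ L)) := by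
    intro k
    induction k using Fin.induction with
    | zero =>
      rw [← RelSeries.head, hs_bot]
      simp
    | succ j hj =>
      obtain ⟨Mx, hMx, -, h2⟩ := covBy_step (A := Λ) (s.step j)
      obtain rfl := IsLocalRing.eq_maximalIdeal hMx
      rw [h2 L, hj]
      simp [add_one_mul]
  have hlast := key (Fin.last _)
  rw [← RelSeries.last, hs_top, Fin.val_last] at hlast
  rw [← hlast]
  exact (AlgebraTensorModule.congr (LinearEquiv.refl L L)
    (Submodule.topEquiv : (⊤ : Submodule Λ M) ≃ₗ[Λ] M)).length_eq.symm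

section Abs

variable {Λ B U L : Type u} [CommRing Λ] [IsLocalRing Λ] [CommRing B] [CommRing U]
  [Algebra Λ U] [Algebra B U] [Module.Flat Λ U] [CommRing L] [Algebra B L] [Module.Flat B L]

/-- The map `L → U ⊗_B L`. -/
noncomputable def incR : L →+* U ⊗[B] L :=
  (Algebra.TensorProduct.includeRight : L →ₐ[B] U ⊗[B] L).toRingHom

omit [IsLocalRing Λ] [Algebra Λ U] [Module.Flat Λ U] [Module.Flat B L] in
theorem incR_apply (x : L) : incR (B := B) (U := U) x = (1 : U) ⊗ₜ[B] x := rfl

omit [IsLocalRing Λ] [Algebra Λ U] [Module.Flat Λ U] [Module.Flat B L] in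
theorem incR_surjective (hsurj : Function.Surjective (algebraMap B U)) :
    Function.Surjective (incR (B := B) (U := U) (L := L)) := by
  intro w
  induction w using TensorProduct.induction_on with
  | zero => exact ⟨0, map_zero _⟩
  | tmul u x =>
    obtain ⟨b, rfl⟩ := hsurj u
    refine ⟨b • x, ?_⟩
    rw [incR_apply, ← TensorProduct.smul_tmul, Algebra.smul_def, mul_one]
  | add w₁ w₂ h₁ h₂ =>
    obtain ⟨x₁, rfl⟩ := h₁
    obtain ⟨x₂, rfl⟩ := h₂
    exact ⟨x₁ + x₂, map_add _ _ _⟩

omit [IsLocalRing Λ] [Algebra Λ U] [Module.Flat Λ U] [Module.Flat B L] in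
theorem incR_comp_algebraMap :
    (incR (B := B) (U := U) (L := L)).comp (algebraMap B L) =
      (Algebra.TensorProduct.includeLeft : U →ₐ[B] U ⊗[B] L).toRingHom.comp (algebraMap B U) := by
  ext b
  show (1 : U) ⊗ₜ[B] (algebraMap B L b) = (algebraMap B U b) ⊗ₜ[B] (1 : L)
  rw [Algebra.algebraMap_eq_smul_one, Algebra.algebraMap_eq_smul_one, TensorProduct.smul_tmul]

omit [IsLocalRing Λ] [Algebra Λ U] [Module.Flat Λ U] [Module.Flat B L] in
theorem ker_incR (hsurj : Function.Surjective (algebraMap B U)) :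
    RingHom.ker (incR (B := B) (U := U) (L := L)) =
      (RingHom.ker (algebraMap B U)).map (algebraMap B L) := by
  have hsurj' : Function.Surjective (Algebra.ofId B U) := hsurj
  set Q : Ideal B := RingHom.ker (Algebra.ofId B U) with hQ
  have hQ' : Q = RingHom.ker (algebraMap B U) := rfl
  rw [← hQ']
  let e₁ : (L ⧸ Q.map (algebraMap B L)) ≃ₐ[L] L ⊗[B] (B ⧸ Q) :=
    Algebra.TensorProduct.quotIdealMapEquivTensorQuot L Q
  let e₂ : (B ⧸ Q) ≃ₐ[B] U := Ideal.quotientKerAlgEquivOfSurjective hsurj'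
  let e₃ : L ⊗[B] (B ⧸ Q) ≃ₐ[L] L ⊗[B] U := Algebra.TensorProduct.congr AlgEquiv.refl e₂
  let e₄ : L ⊗[B] U ≃ₐ[B] U ⊗[B] L := Algebra.TensorProduct.comm B L U
  have key : ∀ x : L, e₄ (e₃ (e₁ (Ideal.Quotient.mk _ x))) = incR (B := B) (U := U) x := by
    intro x
    have h1 : e₁ (Ideal.Quotient.mk _ x) = x ⊗ₜ[B] (1 : B ⧸ Q) := by
      have := e₁.commutes x
      rw [Algebra.TensorProduct.algebraMap_apply] at this
      exact this
    rw [h1]
    have h2 : e₃ (x ⊗ₜ[B] (1 : B ⧸ Q)) = x ⊗ₜ[B] (1 : U) := by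
      show Algebra.TensorProduct.congr AlgEquiv.refl e₂ (x ⊗ₜ[B] (1 : B ⧸ Q)) = _
      rw [Algebra.TensorProduct.congr_apply, Algebra.TensorProduct.map_tmul]
      simp
    rw [h2]
    show Algebra.TensorProduct.comm B L U (x ⊗ₜ[B] (1 : U)) = _
    rw [Algebra.TensorProduct.comm_tmul, incR_apply]
  ext x
  rw [RingHom.mem_ker, ← key, EmbeddingLike.map_eq_zero_iff, EmbeddingLike.map_eq_zero_iff,
    EmbeddingLike.map_eq_zero_iff, Ideal.Quotient.eq_zero_iff_mem]

/-- The fibre length formula, in abstract form. -/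
theorem length_quot_eq_mul (hsurj : Function.Surjective (algebraMap B U))
    (hfin : IsFiniteLength Λ Λ) :
    Module.length L (L ⧸ (RingHom.ker (algebraMap B U)).map (algebraMap B L)) =
      Module.length Λ Λ * Module.length L (L ⧸
        (((maximalIdeal Λ).map (algebraMap Λ U)).comap (algebraMap B U)).map (algebraMap B L)) := by
  haveI : Module.Flat Λ (U ⊗[B] L) := Module.Flat.trans Λ U (U ⊗[B] L)
  have hG := length_baseChange_of_flat (Λ := Λ) (L := U ⊗[B] L) Λ hfin
  rw [(AlgebraTensorModule.rid Λ (U ⊗[B] L) (U ⊗[B] L)).length_eq] at hG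
  have hφ := incR_surjective (B := B) (U := U) (L := L) hsurj
  set J : Ideal B := ((maximalIdeal Λ).map (algebraMap Λ U)).comap (algebraMap B U) with hJ
  have hker := ker_incR (B := B) (U := U) (L := L) hsurj
  -- first conversion
  have c1 : Module.length L (L ⧸ (RingHom.ker (algebraMap B U)).map (algebraMap B L)) =
      Module.length (U ⊗[B] L) (U ⊗[B] L) := by
    rw [Groth.Agent.Lib.Helper18.Push.length_quot_eq_of_surjective' (incR (B := B) (U := U)) hφ
      _ (⊥ : Ideal (U ⊗[B] L)) (by rw [← hker]; rfl)]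
    exact (Submodule.quotEquivOfEqBot (⊥ : Ideal (U ⊗[B] L)) rfl).length_eq
  -- second conversion
  have hmap : (maximalIdeal Λ).map (algebraMap Λ (U ⊗[B] L)) =
      (J.map (algebraMap B L)).map (incR (B := B) (U := U)) := by
    have h1 : algebraMap Λ (U ⊗[B] L) =
        (Algebra.TensorProduct.includeLeft : U →ₐ[B] U ⊗[B] L).toRingHom.comp
          (algebraMap Λ U) := by
      ext r
      rw [Algebra.TensorProduct.algebraMap_apply]
      rfl
    rw [h1, ← Ideal.map_map, Ideal.map_map (algebraMap B L), incR_comp_algebraMap, ← Ideal.map_map,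
      hJ, Ideal.map_comap_of_surjective _ hsurj]
  have c2 : Module.length L (L ⧸ J.map (algebraMap B L)) =
      Module.length (U ⊗[B] L) ((U ⊗[B] L) ⧸ (maximalIdeal Λ).map (algebraMap Λ (U ⊗[B] L))) := by
    apply Groth.Agent.Lib.Helper18.Push.length_quot_eq_of_surjective' (incR (B := B) (U := U)) hφ
    rw [hmap, Ideal.comap_map_of_surjective _ hφ]
    have h2 : Ideal.comap (incR (B := B) (U := U) (L := L)) ⊥ ≤ J.map (algebraMap B L) := by
      change RingHom.ker _ ≤ _
      rw [hker]
      apply Ideal.map_mono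
      intro b hb
      rw [hJ, Ideal.mem_comap, RingHom.mem_ker.1 hb]
      exact Ideal.zero_mem _
    exact sup_eq_left.2 h2
  rw [c1, c2, hG]

end Abs

end Groth.Agent.Lib.Helper18.Tame.FlatLen
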