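import Mathlib
import Groth.Prelude.Def_Tame
import Groth.Agent.Lib.Helper18.Tame.NormDet
import Groth.Agent.Lib.Helper18.Tame.FlatLen
import Groth.Agent.Lib.Helper18.Tame.BCData
import Groth.Agent.Lib.Helper18.Tame.Refine

/-!
# The norm identity behind the base change of the tame symbol
-/

set_option autoImplicit false
universe u
open IsLocalRing TensorProduct

namespace Groth.Agent.Lib.Helper18.Tame.BC

section Norm

variable {A A' : Type u} [CommRing A] [CommRing A'] [IsLocalRing A] [IsLocalRing A']
  [Algebra A A'] [IsLocalHom (algebraMap A A')]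
variable {B : Type u} [CommRing B] [Algebra A B] [Module.Finite A B]
variable (q : MaximalSpectrum B) [IsLocalHom (algebraMap A (Localization.AtPrime q.asIdeal))]

/-- The residue field at `q`. -/
abbrev Fq : Type u := ResidueField (Localization.AtPrime q.asIdeal)

variable (A A') in
/-- The fibre algebra `κ(A') ⊗_A κ(q)`. -/
abbrev Tq : Type u := ResidueField A' ⊗[A] Fq q

omit [IsLocalRing A] [IsLocalHom (algebraMap A (Localization.AtPrime q.asIdeal))] in
theorem finite_Fq : Module.Finite A (Fq q) := by
  haveI := q.isMaximal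
  haveI : Module.Finite B (Fq q) := inferInstance
  exact Module.Finite.trans (R := A) B (Fq q)

theorem finite_Fq' : Module.Finite (ResidueField A) (Fq q) := by
  haveI := finite_Fq (A := A) q
  exact Module.Finite.of_restrictScalars_finite A _ _

/-- The norm of `1 ⊗ β` is the image of the norm of `β`. -/
theorem norm_tmul (β : Fq q) :
    Algebra.norm (ResidueField A') ((1 : ResidueField A') ⊗ₜ[A] β : Tq A A' q) =
      algebraMap (ResidueField A) (ResidueField A') (Algebra.norm (ResidueField A) β) := by
  haveI := finite_Fq' (A := A) q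
  haveI : TensorProduct.CompatibleSMul A (ResidueField A) (ResidueField A') (Fq q) :=
    TensorProduct.CompatibleSMul.of_algebraMap_surjective _ _
      (residue_surjective : Function.Surjective (algebraMap A (ResidueField A)))
  let e : ResidueField A' ⊗[ResidueField A] Fq q ≃ₐ[ResidueField A'] ResidueField A' ⊗[A] Fq q :=
    Algebra.TensorProduct.equivOfCompatibleSMul A (ResidueField A) (ResidueField A')
      (ResidueField A') (Fq q)
  have h1 : ((1 : ResidueField A') ⊗ₜ[A] β : Tq A A' q) =
      e ((1 : ResidueField A') ⊗ₜ[ResidueField A] β) := rfl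
  rw [h1, Algebra.norm_eq_of_algEquiv, Algebra.norm_apply, ← Algebra.baseChange_lmul,
    LinearMap.det_baseChange, Algebra.norm_apply]

variable (A A') in
/-- The map `A' ⊗ B → κ(A') ⊗ κ(q)`. -/
noncomputable def gq : A' ⊗[A] B →ₐ[A'] Tq A A' q :=
  Algebra.TensorProduct.map (Algebra.ofId A' (ResidueField A'))
    (IsScalarTower.toAlgHom A B (Fq q))

omit [IsLocalRing A] [IsLocalHom (algebraMap A A')] [Module.Finite A B]
  [IsLocalHom (algebraMap A (Localization.AtPrime q.asIdeal))] in
theorem gq_tmul (a' : A') (b : B) :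
    gq A A' q (a' ⊗ₜ[A] b) = (residue A' a') ⊗ₜ[A] (algebraMap B (Fq q) b) := rfl

omit [IsLocalRing A] [IsLocalHom (algebraMap A A')] [Module.Finite A B]
  [IsLocalHom (algebraMap A (Localization.AtPrime q.asIdeal))] in
theorem gq_inr (b : B) :
    gq A A' q (inr A A' b) = (1 : ResidueField A') ⊗ₜ[A] (algebraMap B (Fq q) b) := by
  show gq A A' q ((1 : A') ⊗ₜ[A] b) = _
  rw [gq_tmul, map_one]

omit [IsLocalRing A] [IsLocalHom (algebraMap A A')] [Module.Finite A B]
  [IsLocalHom (algebraMap A (Localization.AtPrime q.asIdeal))] in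
theorem gq_surjective : Function.Surjective (gq A A' q) := by
  haveI := q.isMaximal
  exact Algebra.TensorProduct.map_surjective _ _
    (residue_surjective : Function.Surjective (Algebra.ofId A' (ResidueField A')))
    (Ideal.algebraMap_residueField_surjective q.asIdeal)

variable (A A') in
/-- The ideal of `A' ⊗ B` generated by `q`. -/
noncomputable def Q₀ : Ideal (A' ⊗[A] B) := q.asIdeal.map (inr A A' (B := B)).toRingHom

variable (A A') in
/-- The ideal of `A' ⊗ B` generated by `q` and the maximal ideal of `A'`. -/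
noncomputable def J₀ : Ideal (A' ⊗[A] B) :=
  (maximalIdeal A').map (algebraMap A' (A' ⊗[A] B)) ⊔ Q₀ A A' q

omit [IsLocalRing A] [IsLocalHom (algebraMap A A')] [Module.Finite A B]
  [IsLocalHom (algebraMap A (Localization.AtPrime q.asIdeal))] in
theorem ker_algebraMap_Fq : RingHom.ker (IsScalarTower.toAlgHom A B (Fq q)) = q.asIdeal := by
  haveI := q.isMaximal
  ext b
  rw [RingHom.mem_ker]
  show residue _ (algebraMap B (Localization.AtPrime q.asIdeal) b) = 0 ↔ _
  rw [residue_eq_zero_iff, IsLocalization.AtPrime.to_map_mem_maximal_iff _ q.asIdeal]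

omit [IsLocalRing A] [IsLocalHom (algebraMap A A')] [Module.Finite A B]
  [IsLocalHom (algebraMap A (Localization.AtPrime q.asIdeal))] in
theorem ker_gq : RingHom.ker (gq A A' q) = J₀ A A' q := by
  haveI := q.isMaximal
  have hf : Function.Surjective (Algebra.ofId A' (ResidueField A')) := residue_surjective
  have hg : Function.Surjective (IsScalarTower.toAlgHom A B (Fq q)) :=
    Ideal.algebraMap_residueField_surjective q.asIdeal
  have h0 := Algebra.TensorProduct.map_ker (Algebra.ofId A' (ResidueField A'))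
    (IsScalarTower.toAlgHom A B (Fq q)) hf hg
  have h1 : RingHom.ker (Algebra.ofId A' (ResidueField A')) = maximalIdeal A' :=
    Ideal.mk_ker
  rw [ker_algebraMap_Fq, h1] at h0
  have h2 : (gq A A' q : A' ⊗[A] B →+* Tq A A' q) =
      (Algebra.TensorProduct.map (Algebra.ofId A' (ResidueField A'))
        (IsScalarTower.toAlgHom A B (Fq q)) : A' ⊗[A] B →+* Tq A A' q) := rfl
  have h3 : RingHom.ker (gq A A' q) = RingHom.ker (Algebra.TensorProduct.map
      (Algebra.ofId A' (ResidueField A')) (IsScalarTower.toAlgHom A B (Fq q))) := rfl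
  rw [h3, h0]
  unfold J₀ Q₀
  congr 1

variable (A A') in
/-- `κ(A') ⊗ κ(q)` as an algebra over `A' ⊗ B`. -/
noncomputable abbrev algT : Algebra (A' ⊗[A] B) (Tq A A' q) := (gq A A' q).toRingHom.toAlgebra

attribute [local instance] algT

omit [IsLocalRing A] [IsLocalHom (algebraMap A A')] [Module.Finite A B]
  [IsLocalHom (algebraMap A (Localization.AtPrime q.asIdeal))] in
theorem algebraMap_Tq (s : A' ⊗[A] B) : algebraMap (A' ⊗[A] B) (Tq A A' q) s = gq A A' q s := rfl

instance towerT : IsScalarTower A' (A' ⊗[A] B) (Tq A A' q) :=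
  IsScalarTower.of_algebraMap_eq fun a' => ((gq A A' q).commutes a').symm

omit [IsLocalRing A] [IsLocalHom (algebraMap A A')] [Module.Finite A B]
  [IsLocalHom (algebraMap A (Localization.AtPrime q.asIdeal))] in
theorem mult_Tq (q' : MaximalSpectrum (A' ⊗[A] B)) :
    NormDet.mult q' (Tq A A' q) =
      Module.length (Localization.AtPrime q'.asIdeal) (Localization.AtPrime q'.asIdeal ⧸
        (J₀ A A' q).map (algebraMap (A' ⊗[A] B) (Localization.AtPrime q'.asIdeal))) := by
  have hsurj : Function.Surjective (Algebra.ofId (A' ⊗[A] B) (Tq A A' q)) := gq_surjective q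
  have hker : RingHom.ker (Algebra.ofId (A' ⊗[A] B) (Tq A A' q)) = J₀ A A' q := ker_gq q
  let e₁ : ((A' ⊗[A] B) ⧸ RingHom.ker (Algebra.ofId (A' ⊗[A] B) (Tq A A' q))) ≃ₗ[A' ⊗[A] B]
      Tq A A' q := (Ideal.quotientKerAlgEquivOfSurjective hsurj).toLinearEquiv
  let e₂ : ((A' ⊗[A] B) ⧸ J₀ A A' q) ≃ₗ[A' ⊗[A] B]
      ((A' ⊗[A] B) ⧸ RingHom.ker (Algebra.ofId (A' ⊗[A] B) (Tq A A' q))) :=
    Submodule.quotEquivOfEq _ _ hker.symm
  rw [← NormDet.mult_congr (e₂.trans e₁) q']
  unfold NormDet.mult
  exact ((Algebra.TensorProduct.quotIdealMapEquivTensorQuot (Localization.AtPrime q'.asIdeal)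
    (J₀ A A' q)).toLinearEquiv.length_eq).symm

theorem det_smulK_inr (b : B) :
    LinearMap.det (NormDet.smulK (R := A') (Tq A A' q) (inr A A' b)) =
      algebraMap (ResidueField A) (ResidueField A')
        (Algebra.norm (ResidueField A) (algebraMap B (Fq q) b)) := by
  rw [← norm_tmul, Algebra.norm_apply, ← gq_inr]
  congr 1

end Norm

section Fibre

variable {A A' : Type u} [CommRing A] [CommRing A'] [IsLocalRing A] [IsLocalRing A']
  [Algebra A A'] [IsLocalHom (algebraMap A A')]
variable {B : Type u} [CommRing B] [Algebra A B] [Module.Finite A B]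
variable (q : MaximalSpectrum B) [IsLocalHom (algebraMap A (Localization.AtPrime q.asIdeal))]

variable (A A') in
/-- The closed fibre ring `A'/𝔪_A A'`. -/
abbrev Abar : Type u := A' ⧸ (maximalIdeal A).map (algebraMap A A')

variable (A A') in
/-- The fibre algebra `(A'/𝔪_A A') ⊗_A κ(q)`. -/
abbrev Uq : Type u := Abar A A' ⊗[A] Fq q

instance isLocalRing_Abar : IsLocalRing (Abar A A') := by
  haveI : Nontrivial (Abar A A') :=
    Ideal.Quotient.nontrivial_iff.2 (map_maximalIdeal_lt_top (algebraMap A A')).ne
  exact IsLocalRing.of_surjective' (Ideal.Quotient.mk _) Ideal.Quotient.mk_surjective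

theorem flat_Uq : Module.Flat (Abar A A') (Uq A A' q) := by
  letI : Algebra (ResidueField A) (Abar A A') :=
    inferInstanceAs (Algebra (A ⧸ maximalIdeal A) (Abar A A'))
  haveI : IsScalarTower A (ResidueField A) (Abar A A') :=
    inferInstanceAs (IsScalarTower A (A ⧸ maximalIdeal A) (Abar A A'))
  haveI : TensorProduct.CompatibleSMul A (ResidueField A) (Abar A A') (Fq q) :=
    TensorProduct.CompatibleSMul.of_algebraMap_surjective _ _
      (residue_surjective : Function.Surjective (algebraMap A (ResidueField A)))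
  let e : Abar A A' ⊗[ResidueField A] Fq q ≃ₐ[Abar A A'] Abar A A' ⊗[A] Fq q :=
    Algebra.TensorProduct.equivOfCompatibleSMul A (ResidueField A) (Abar A A')
      (Abar A A') (Fq q)
  exact Module.Flat.of_linearEquiv e.toLinearEquiv.symm

variable (A A') in
/-- The map `A' ⊗ B → (A'/𝔪_A A') ⊗ κ(q)`. -/
noncomputable def gU : A' ⊗[A] B →ₐ[A'] Uq A A' q :=
  Algebra.TensorProduct.map (Ideal.Quotient.mkₐ A' ((maximalIdeal A).map (algebraMap A A')))
    (IsScalarTower.toAlgHom A B (Fq q))

omit [IsLocalHom (algebraMap A A')] [Module.Finite A B]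
  [IsLocalHom (algebraMap A (Localization.AtPrime q.asIdeal))] in
theorem gU_surjective : Function.Surjective (gU A A' q) := by
  haveI := q.isMaximal
  exact Algebra.TensorProduct.map_surjective _ _
    (Ideal.Quotient.mkₐ_surjective A' _)
    (Ideal.algebraMap_residueField_surjective q.asIdeal)

omit [IsLocalHom (algebraMap A A')]
  [IsLocalHom (algebraMap A (Localization.AtPrime q.asIdeal))] in
theorem ker_gU : RingHom.ker (gU A A' q) = Q₀ A A' q := by
  haveI := q.isMaximal
  have hf : Function.Surjective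
      (Ideal.Quotient.mkₐ A' ((maximalIdeal A).map (algebraMap A A'))) :=
    Ideal.Quotient.mkₐ_surjective A' _
  have hg : Function.Surjective (IsScalarTower.toAlgHom A B (Fq q)) :=
    Ideal.algebraMap_residueField_surjective q.asIdeal
  have h0 := Algebra.TensorProduct.map_ker
    (Ideal.Quotient.mkₐ A' ((maximalIdeal A).map (algebraMap A A')))
    (IsScalarTower.toAlgHom A B (Fq q)) hf hg
  have h1 : RingHom.ker (Ideal.Quotient.mkₐ A' ((maximalIdeal A).map (algebraMap A A'))) =
      (maximalIdeal A).map (algebraMap A A') := Ideal.Quotient.mkₐ_ker A' _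
  rw [ker_algebraMap_Fq, h1] at h0
  have h3 : RingHom.ker (gU A A' q) = RingHom.ker (Algebra.TensorProduct.map
      (Ideal.Quotient.mkₐ A' ((maximalIdeal A).map (algebraMap A A')))
      (IsScalarTower.toAlgHom A B (Fq q))) := rfl
  rw [h3, h0]
  have h4 : Ideal.map (Algebra.TensorProduct.includeLeft : A' →ₐ[A'] A' ⊗[A] B)
      ((maximalIdeal A).map (algebraMap A A')) ≤ Q₀ A A' q := by
    rw [Ideal.map_le_iff_le_comap, Ideal.map_le_iff_le_comap]
    intro a ha
    rw [Ideal.mem_comap, Ideal.mem_comap]
    have h5 : (Algebra.TensorProduct.includeLeft : A' →ₐ[A'] A' ⊗[A] B)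
        (algebraMap A A' a) = (inr A A' (B := B)).toRingHom (algebraMap A B a) :=
      (congrArg (fun f => f a) (inr_comp_algebraMap (A := A) (A' := A') (B := B))).symm
    rw [h5]
    apply Ideal.mem_map_of_mem
    have h6 : q.asIdeal.comap (algebraMap A B) = maximalIdeal A :=
      under_eq_maximalIdeal A B q.asIdeal
    rw [← h6] at ha
    exact ha
  exact sup_eq_right.2 h4

variable (A A') in
/-- `(A'/𝔪_A A') ⊗ κ(q)` as an algebra over `A' ⊗ B`. -/
noncomputable abbrev algU : Algebra (A' ⊗[A] B) (Uq A A' q) := (gU A A' q).toRingHom.toAlgebra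

attribute [local instance] algU

instance towerU : IsScalarTower A' (A' ⊗[A] B) (Uq A A' q) :=
  IsScalarTower.of_algebraMap_eq fun a' => ((gU A A' q).commutes a').symm

omit [IsLocalHom (algebraMap A (Localization.AtPrime q.asIdeal))] in
theorem comap_map_maximalIdeal_Uq :
    Ideal.comap (algebraMap (A' ⊗[A] B) (Uq A A' q))
      ((maximalIdeal (Abar A A')).map (algebraMap (Abar A A') (Uq A A' q))) = J₀ A A' q := by
  haveI : IsLocalHom (Ideal.Quotient.mk ((maximalIdeal A).map (algebraMap A A'))) :=
    IsLocalHom.of_surjective _ Ideal.Quotient.mk_surjective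
  have h1 : maximalIdeal (Abar A A') =
      (maximalIdeal A').map (Ideal.Quotient.mk ((maximalIdeal A).map (algebraMap A A'))) :=
    (Groth.Agent.Lib.Helper18.Push.map_maximalIdeal_of_surjective' _
      Ideal.Quotient.mk_surjective).symm
  have h2 : (algebraMap (Abar A A') (Uq A A' q)).comp
      (Ideal.Quotient.mk ((maximalIdeal A).map (algebraMap A A'))) =
      (algebraMap (A' ⊗[A] B) (Uq A A' q)).comp (algebraMap A' (A' ⊗[A] B)) := by
    rw [← IsScalarTower.algebraMap_eq A' (A' ⊗[A] B) (Uq A A' q)]
    exact (IsScalarTower.algebraMap_eq A' (Abar A A') (Uq A A' q)).symm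
  have hsurj : Function.Surjective (algebraMap (A' ⊗[A] B) (Uq A A' q)) := gU_surjective q
  rw [h1, Ideal.map_map, h2, ← Ideal.map_map, Ideal.comap_map_of_surjective _ hsurj]
  have h3 : Ideal.comap (algebraMap (A' ⊗[A] B) (Uq A A' q)) ⊥ = Q₀ A A' q := ker_gU q
  rw [h3]
  rfl

theorem length_fibre (hm : Module.length A' (Abar A A') ≠ ⊤)
    (q' : MaximalSpectrum (A' ⊗[A] B)) :
    Module.length (Localization.AtPrime q'.asIdeal) (Localization.AtPrime q'.asIdeal ⧸
        (Q₀ A A' q).map (algebraMap (A' ⊗[A] B) (Localization.AtPrime q'.asIdeal))) =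
      Module.length A' (Abar A A') *
        Module.length (Localization.AtPrime q'.asIdeal) (Localization.AtPrime q'.asIdeal ⧸
          (J₀ A A' q).map (algebraMap (A' ⊗[A] B) (Localization.AtPrime q'.asIdeal))) := by
  haveI := flat_Uq (A := A) (A' := A') q
  have hlen : Module.length A' (Abar A A') = Module.length (Abar A A') (Abar A A') :=
    Module.length_eq_of_surjective Ideal.Quotient.mk_surjective
  have hfin : IsFiniteLength (Abar A A') (Abar A A') := by
    rw [← Module.length_ne_top_iff, ← hlen]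
    exact hm
  have h := FlatLen.length_quot_eq_mul (Λ := Abar A A') (B := A' ⊗[A] B) (U := Uq A A' q)
    (L := Localization.AtPrime q'.asIdeal) (gU_surjective q) hfin
  rw [comap_map_maximalIdeal_Uq, ← hlen] at h
  have h3 : RingHom.ker (algebraMap (A' ⊗[A] B) (Uq A A' q)) = Q₀ A A' q := ker_gU q
  rw [h3] at h
  exact h

omit [IsLocalHom (algebraMap A (Localization.AtPrime q.asIdeal))] in
theorem Q₀_map_eq_top (q' : MaximalSpectrum (A' ⊗[A] B)) (h : under' q' ≠ q) :
    (Q₀ A A' q).map (algebraMap (A' ⊗[A] B) (Localization.AtPrime q'.asIdeal)) = ⊤ := by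
  haveI := q.isMaximal
  haveI := q'.isMaximal
  have hnle : ¬ q.asIdeal ≤ (under' q').asIdeal := by
    intro hle
    apply h
    apply MaximalSpectrum.ext
    exact (q.isMaximal.eq_of_le (under' q').isMaximal.ne_top hle).symm
  obtain ⟨b, hbq, hbq'⟩ := Set.not_subset.mp hnle
  have hb' : inr A A' b ∉ q'.asIdeal := hbq'
  apply Ideal.eq_top_of_isUnit_mem _
    (Ideal.mem_map_of_mem _ (Ideal.mem_map_of_mem (inr A A' (B := B)).toRingHom hbq))
  exact IsLocalization.map_units (Localization.AtPrime q'.asIdeal)
    (⟨inr A A' b, hb'⟩ : q'.asIdeal.primeCompl)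

attribute [local instance] algT

omit [IsLocalHom (algebraMap A A')] in
theorem isFiniteLength_Tq : IsFiniteLength (A' ⊗[A] B) (Tq A A' q) := by
  haveI := finite_Fq (A := A) q
  rw [← Module.length_ne_top_iff]
  have h1 : Module.length (A' ⊗[A] B) (Tq A A' q) ≤ Module.length A' (Tq A A' q) :=
    length_le_of_tower A'
  have h2 : Module.length A' (Tq A A' q) = Module.length (ResidueField A') (Tq A A' q) :=
    Module.length_eq_of_surjective
      (residue_surjective : Function.Surjective (algebraMap A' (ResidueField A')))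
  have h3 : Module.length (ResidueField A') (Tq A A' q) ≠ ⊤ := Module.length_ne_top
  exact ne_top_of_le_ne_top (h2 ▸ h3) h1

/-- **The norm identity.** -/
theorem norm_identity [Fintype (MaximalSpectrum (A' ⊗[A] B))]
    [∀ q' : MaximalSpectrum (A' ⊗[A] B),
      IsLocalHom (algebraMap A' (Localization.AtPrime q'.asIdeal))]
    (hm : Module.length A' (Abar A A') ≠ ⊤) (b : B) :
    ∏ q' : MaximalSpectrum (A' ⊗[A] B), NormDet.normAt (R := A') q' (inr A A' b) ^
        (Module.length (Localization.AtPrime q'.asIdeal) (Localization.AtPrime q'.asIdeal ⧸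
          (Q₀ A A' q).map
            (algebraMap (A' ⊗[A] B) (Localization.AtPrime q'.asIdeal)))).toNat =
      (algebraMap (ResidueField A) (ResidueField A')
        (Algebra.norm (ResidueField A) (algebraMap B (Fq q) b))) ^
        (Module.length A' (Abar A A')).toNat := by
  haveI := finite_Fq (A := A) q
  have hdet := NormDet.det_smulK_eq_prod (R := A') (S := A' ⊗[A] B) (Tq A A' q)
    (isFiniteLength_Tq q) (inr A A' b)
  rw [det_smulK_inr] at hdet
  rw [hdet, ← Finset.prod_pow]
  refine Finset.prod_congr rfl fun q' _ => ?_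
  rw [mult_Tq, length_fibre q hm q', ENat.toNat_mul, pow_mul']

end Fibre

end Groth.Agent.Lib.Helper18.Tame.BC
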