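import Mathlib
import Groth.Prelude.Def_Tame
import Groth.Agent.Lib.Helper18.Tame.BCNorm
import Groth.Agent.Lib.Helper18.Tame.Common
import Groth.Agent.Lib.Helper18.Cyc.OrdFlat

/-!
# The tame symbol and flat local homomorphisms
-/

set_option autoImplicit false
universe u
open IsLocalRing TensorProduct

namespace Groth.Agent.Lib.Helper18.Tame.BC

open CycAlg

section Units

variable {A : Type u} [CommRing A] [IsLocalRing A]

theorem tameSymbol_eq_one_of_units {a₁ a₂ : A} (hu₁ : IsUnit a₁) (hu₂ : IsUnit a₂) :
    tameSymbol A a₁ a₂ = 1 := by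
  unfold tameSymbol
  split_ifs with h
  · exact value_eq_one_of_units hu₁ hu₂ _
  · rfl

theorem exists_tameData [IsNoetherianRing A] (hA : ringKrullDim A ≤ 1) {a₁ a₂ : A}
    (h₁ : a₁ ∈ nonZeroDivisors A) (h₂ : a₂ ∈ nonZeroDivisors A) :
    Nonempty (TameData A a₁ a₂) := by
  classical
  obtain ⟨Dc⟩ := exists_commonData hA {a₁, a₂} (by
    intro x hx
    rcases Finset.mem_insert.1 hx with rfl | hx
    · exact h₁
    · rw [Finset.mem_singleton] at hx
      subst hx
      exact h₂)
  exact ⟨Dc.tameData a₁ a₂ (fun q => Dc.v a₁ q) (fun q => Dc.v a₂ q) (fun q => Dc.k a₁ q)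
    (fun q => Dc.k a₂ q) (fun q => Dc.fac a₁ (by simp) q) (fun q => Dc.fac a₂ (by simp) q)⟩

end Units

section Value

variable {A A' : Type u} [CommRing A] [CommRing A'] [IsLocalRing A] [IsLocalRing A']
  [Algebra A A'] [IsLocalHom (algebraMap A A')] [Module.Flat A A'] {a₁ a₂ : A}

theorem base_bc (D : TameData A a₁ a₂)
    (hc : ∃ c : ℕ, maximalIdeal A' ^ c ≤ (maximalIdeal A).map (algebraMap A A'))
    (q' : MaximalSpectrum (A' ⊗[A] D.B)) :
    haveI : Module.Finite A D.B := D.isFinExt.2.1
    (presOf (bcData D hc) q').base =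
      ResidueField.map (locHom' q') (presOf D (under' q')).base := by
  haveI : Module.Finite A D.B := D.isFinExt.2.1
  show (-1 : ResidueField (Localization.AtPrime q'.asIdeal)) ^
      (D.e₁ (under' q') * D.e₂ (under' q')) *
      residue _ (locHom' q' (D.u₁ (under' q') : Localization.AtPrime (under' q').asIdeal)) ^
        D.e₂ (under' q') *
      (residue _ (locHom' q' (D.u₂ (under' q') : Localization.AtPrime (under' q').asIdeal)) ^
        D.e₁ (under' q'))⁻¹ = _
  unfold Pres.base
  rw [map_mul, map_mul, map_pow, map_pow, map_inv₀, map_pow, map_neg, map_one,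
    ResidueField.map_residue, ResidueField.map_residue]
  rfl

theorem ord_bc (D : TameData A a₁ a₂)
    (hc : ∃ c : ℕ, maximalIdeal A' ^ c ≤ (maximalIdeal A).map (algebraMap A A'))
    (q' : MaximalSpectrum (A' ⊗[A] D.B)) :
    haveI : Module.Finite A D.B := D.isFinExt.2.1
    Ring.ord (Localization.AtPrime q'.asIdeal) ((bcData D hc).π q') =
      Ring.ord (Localization.AtPrime (under' q').asIdeal) (D.π (under' q')) *
        Module.length (Localization.AtPrime q'.asIdeal) (Localization.AtPrime q'.asIdeal ⧸
          (Q₀ A A' (under' q')).map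
            (algebraMap (A' ⊗[A] D.B) (Localization.AtPrime q'.asIdeal))) := by
  haveI : Module.Finite A D.B := D.isFinExt.2.1
  haveI := (under' q').isMaximal
  show Ring.ord _ (locHom' q' (D.π (under' q'))) = _
  rw [CycDiv.ord_map_of_flat (locHom' q') (locHom'_flat q')]
  have hcomp : (locHom' q').comp (algebraMap D.B (Localization.AtPrime (under' q').asIdeal)) =
      (algebraMap (A' ⊗[A] D.B) (Localization.AtPrime q'.asIdeal)).comp
        (inr A A' (B := D.B)).toRingHom := by
    ext b
    exact locHom'_algebraMap q' b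
  have hideal : (maximalIdeal (Localization.AtPrime (under' q').asIdeal)).map (locHom' q') =
      (Q₀ A A' (under' q')).map
        (algebraMap (A' ⊗[A] D.B) (Localization.AtPrime q'.asIdeal)) := by
    rw [← IsLocalization.AtPrime.map_eq_maximalIdeal (under' q').asIdeal
      (Localization.AtPrime (under' q').asIdeal), Ideal.map_map, hcomp]
    unfold Q₀
    rw [Ideal.map_map]
  rw [hideal]

theorem value_bc [IsNoetherianRing A] [IsNoetherianRing A'] (D : TameData A a₁ a₂)
    (hc : ∃ c : ℕ, maximalIdeal A' ^ c ≤ (maximalIdeal A).map (algebraMap A A'))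
    (hm : Module.length A' (Abar A A') ≠ ⊤) :
    ResidueField.map (algebraMap A A') D.value ^ (Module.length A' (Abar A A')).toNat =
      (bcData D hc).value := by
  classical
  haveI : Module.Finite A D.B := D.isFinExt.2.1
  haveI : Finite (MaximalSpectrum D.B) := finite_maximalSpectrum_of_finite A D.B
  haveI : Finite (MaximalSpectrum (A' ⊗[A] D.B)) :=
    finite_maximalSpectrum_of_finite A' (A' ⊗[A] D.B)
  haveI : Fintype (MaximalSpectrum D.B) := Fintype.ofFinite _
  haveI : Fintype (MaximalSpectrum (A' ⊗[A] D.B)) := Fintype.ofFinite _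
  haveI := D.isLocalHom
  haveI : ∀ q' : MaximalSpectrum (A' ⊗[A] D.B),
      IsLocalHom (algebraMap A' (Localization.AtPrime q'.asIdeal)) := (bcData D hc).isLocalHom
  -- lifts of the base classes
  have hlift : ∀ q : MaximalSpectrum D.B, ∃ b : D.B,
      algebraMap D.B (Fq q) b = (presOf D q).base := fun q => by
    haveI := q.isMaximal
    exact Ideal.algebraMap_residueField_surjective q.asIdeal _
  choose b hb using hlift
  -- the right hand side
  have hR : (bcData D hc).value = ∏ q' : MaximalSpectrum (A' ⊗[A] D.B),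
      NormDet.normAt (R := A') q' (inr A A' (b (under' q'))) ^
        ((Module.length (Localization.AtPrime q'.asIdeal) (Localization.AtPrime q'.asIdeal ⧸
          (Q₀ A A' (under' q')).map
            (algebraMap (A' ⊗[A] D.B) (Localization.AtPrime q'.asIdeal)))).toNat *
          (Ring.ord _ (D.π (under' q'))).toNat) := by
    rw [value_eq_prod (bcData D hc)]
    refine Finset.prod_congr rfl fun q' _ => ?_
    unfold Pres.theta
    rw [base_bc D hc q', map_pow]
    congr 1
    · unfold NormDet.normAt
      congr 1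
      rw [← hb (under' q')]
      show ResidueField.map (locHom' q') (residue _ (algebraMap D.B _ (b (under' q')))) = _
      rw [ResidueField.map_residue, locHom'_algebraMap]
    · show (Ring.ord _ ((bcData D hc).π q')).toNat = _
      rw [ord_bc D hc q', ENat.toNat_mul, mul_comm]
  have hmap : ∀ x : ResidueField A, ResidueField.map (algebraMap A A') x =
      algebraMap (ResidueField A) (ResidueField A') x := by
    intro x
    obtain ⟨a, rfl⟩ := residue_surjective x
    rw [ResidueField.map_residue, ResidueField.algebraMap_residue]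
  -- the left hand side
  have hL : ResidueField.map (algebraMap A A') D.value ^ (Module.length A' (Abar A A')).toNat =
      ∏ q : MaximalSpectrum D.B, ∏ q' : MaximalSpectrum (A' ⊗[A] D.B),
        NormDet.normAt (R := A') q' (inr A A' (b q)) ^
          ((Module.length (Localization.AtPrime q'.asIdeal) (Localization.AtPrime q'.asIdeal ⧸
            (Q₀ A A' q).map
              (algebraMap (A' ⊗[A] D.B) (Localization.AtPrime q'.asIdeal)))).toNat *
            (Ring.ord _ (D.π q)).toNat) := by
    rw [value_eq_prod D, map_prod, ← Finset.prod_pow]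
    refine Finset.prod_congr rfl fun q _ => ?_
    unfold Pres.theta
    rw [map_pow, map_pow, ← pow_mul, mul_comm, pow_mul, hmap, ← hb q, ← norm_identity q hm (b q),
      ← Finset.prod_pow]
    refine Finset.prod_congr rfl fun q' _ => ?_
    rw [← pow_mul]
    rfl
  rw [hL, hR, Finset.prod_comm]
  refine Finset.prod_congr rfl fun q' _ => ?_
  rw [Finset.prod_eq_single (under' q')]
  · intro q _ hq
    have htop := Q₀_map_eq_top (A := A) (A' := A') q q' (Ne.symm hq)
    rw [htop]
    haveI : Subsingleton (Localization.AtPrime q'.asIdeal ⧸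
        (⊤ : Ideal (Localization.AtPrime q'.asIdeal))) := Ideal.Quotient.subsingleton_iff.2 rfl
    rw [Module.length_eq_zero]
    simp
  · intro h
    exact absurd (Finset.mem_univ _) h

end Value

section Main

/-- **The tame symbol and flat local homomorphisms.** -/
theorem main1850 (A A' : Type u) [CommRing A] [CommRing A'] [IsNoetherianRing A]
    [IsNoetherianRing A'] [IsLocalRing A] [IsLocalRing A'] [Algebra A A']
    [IsLocalHom (algebraMap A A')] [Module.Flat A A'] (hA : ringKrullDim A = 1)
    (hA' : ringKrullDim A' = 1) (a₁ a₂ : A) (h₁ : a₁ ∈ nonZeroDivisors A)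
    (h₂ : a₂ ∈ nonZeroDivisors A) :
    IsLocalRing.ResidueField.map (algebraMap A A') (CycAlg.tameSymbol A a₁ a₂) ^
        (Module.length A' (A' ⧸ Ideal.map (algebraMap A A') (IsLocalRing.maximalIdeal A))).toNat =
      CycAlg.tameSymbol A' (algebraMap A A' a₁) (algebraMap A A' a₂) := by
  classical
  have hAle : ringKrullDim A ≤ 1 := hA.le
  have hA'le : ringKrullDim A' ≤ 1 := hA'.le
  have hflat : (algebraMap A A').Flat := RingHom.flat_algebraMap_iff.2 inferInstance
  have h₁' : algebraMap A A' a₁ ∈ nonZeroDivisors A' :=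
    map_mem_nonZeroDivisors_of_flat _ hflat h₁
  have h₂' : algebraMap A A' a₂ ∈ nonZeroDivisors A' :=
    map_mem_nonZeroDivisors_of_flat _ hflat h₂
  by_cases hu : IsUnit a₁ ∧ IsUnit a₂
  · rw [tameSymbol_eq_one_of_units hu.1 hu.2,
      tameSymbol_eq_one_of_units (hu.1.map (algebraMap A A')) (hu.2.map (algebraMap A A')),
      map_one, one_pow]
  · have hx : a₁ * a₂ ∈ maximalIdeal A := by
      rw [mem_maximalIdeal, mem_nonunits_iff]
      intro h
      exact hu ⟨isUnit_of_mul_isUnit_left h, isUnit_of_mul_isUnit_right h⟩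
    obtain ⟨D⟩ := exists_tameData hAle h₁ h₂
    have hreg' : algebraMap A A' (a₁ * a₂) ∈ nonZeroDivisors A' :=
      map_mem_nonZeroDivisors_of_flat _ hflat (mul_mem h₁ h₂)
    obtain ⟨c, hc0⟩ := Groth.Agent.Lib.Helper2.ChiLocal2.exists_pow_le_of_dim_one
      (algebraMap A A' (a₁ * a₂)) hA'le hreg'
    have hle : Ideal.span {algebraMap A A' (a₁ * a₂)} ≤
        (maximalIdeal A).map (algebraMap A A') := by
      rw [Ideal.span_singleton_le_iff_mem]
      exact Ideal.mem_map_of_mem _ hx
    have hc : ∃ c : ℕ, maximalIdeal A' ^ c ≤ (maximalIdeal A).map (algebraMap A A') :=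
      ⟨c, hc0.trans hle⟩
    have hm : Module.length A' (Abar A A') ≠ ⊤ :=
      length_quot_ideal_ne_top_of_pow (A := A') (B := A') _ c (fun r hr => hc0.trans hle hr)
    rw [tameSymbol_eq_value hAle h₁ h₂ D, tameSymbol_eq_value hA'le h₁' h₂' (bcData D hc)]
    exact value_bc D hc hm

end Main

end Groth.Agent.Lib.Helper18.Tame.BC
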