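import Mathlib
import Groth.Prelude.Def_Tame
import Groth.Agent.Lib.Helper18.Tame.BCData
import Groth.Agent.Lib.Helper18.Tame.Refine
import Groth.Agent.Lib.Helper18.Push.BCKer
import Groth.Agent.Lib.Helper18.Cyc.OrdTransfer

/-!
# Localizing tame data at a maximal ideal of an intermediate finite extension
-/

set_option autoImplicit false
universe u
open IsLocalRing TensorProduct

namespace Groth.Agent.Lib.Helper18.Tame.Loc

open CycAlg Groth.Agent.Lib.Helper18.Tame.BC

section Setup

variable {B C : Type u} [CommRing B] [CommRing C] [Algebra B C] [Module.Finite B C]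
variable (q : MaximalSpectrum B)

/-- The localization of `C` at `q`, as a tensor product. -/
abbrev Cq : Type u := Localization.AtPrime q.asIdeal ⊗[B] C

variable (C) in
/-- The map `C → C_q`. -/
noncomputable abbrev inrL : C →ₐ[B] Cq (C := C) q := inr B (Localization.AtPrime q.asIdeal)

/-- The maximal ideal of `C` under a maximal ideal of `C_q`. -/
noncomputable def underL (r' : MaximalSpectrum (Cq (C := C) q)) : MaximalSpectrum C :=
  ⟨r'.asIdeal.comap (inrL C q).toRingHom, by
    haveI := q.isMaximal
    haveI := r'.isMaximal
    have h1 : (r'.asIdeal.comap (inrL C q).toRingHom).comap (algebraMap B C) = q.asIdeal := by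
      rw [Ideal.comap_comap, inr_comp_algebraMap, ← Ideal.comap_comap,
        under_eq_maximalIdeal (Localization.AtPrime q.asIdeal) (Cq (C := C) q) r'.asIdeal]
      exact IsLocalization.AtPrime.comap_maximalIdeal (Localization.AtPrime q.asIdeal) q.asIdeal
    haveI : ((r'.asIdeal.comap (inrL C q).toRingHom).comap (algebraMap B C)).IsMaximal := by
      rw [h1]
      infer_instance
    exact Ideal.isMaximal_of_isIntegral_of_isMaximal_comap _ this⟩

theorem underL_comap (r' : MaximalSpectrum (Cq (C := C) q)) :
    (underL q r').asIdeal.comap (algebraMap B C) = q.asIdeal := by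
  haveI := q.isMaximal
  haveI := r'.isMaximal
  show (r'.asIdeal.comap (inrL C q).toRingHom).comap (algebraMap B C) = q.asIdeal
  rw [Ideal.comap_comap, inr_comp_algebraMap, ← Ideal.comap_comap,
    under_eq_maximalIdeal (Localization.AtPrime q.asIdeal) (Cq (C := C) q) r'.asIdeal]
  exact IsLocalization.AtPrime.comap_maximalIdeal (Localization.AtPrime q.asIdeal) q.asIdeal

/-- The local homomorphism `C_r → (C_q)_r'`. -/
noncomputable def locHomL (r' : MaximalSpectrum (Cq (C := C) q)) :
    Localization.AtPrime (underL q r').asIdeal →+* Localization.AtPrime r'.asIdeal :=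
  Localization.localRingHom _ _ (inrL C q).toRingHom rfl

theorem locHomL_algebraMap (r' : MaximalSpectrum (Cq (C := C) q)) (c : C) :
    locHomL q r' (algebraMap C _ c) = algebraMap (Cq (C := C) q) _ (inrL C q c) :=
  Localization.localRingHom_to_map _ _ _ rfl c

instance isLocalHom_locHomL (r' : MaximalSpectrum (Cq (C := C) q)) : IsLocalHom (locHomL q r') :=
  Localization.isLocalHom_localRingHom _ _ _ rfl

theorem locHomL_flat (r' : MaximalSpectrum (Cq (C := C) q)) :
    @RingHom.Flat (Localization.AtPrime (underL q r').asIdeal) (Localization.AtPrime r'.asIdeal)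
      _ _ (locHomL q r') :=
  RingHom.Flat.localRingHom (inr_flat (A := B)) _ _ rfl

attribute [local instance] Algebra.TensorProduct.rightAlgebra in
theorem locHomL_bijective (r' : MaximalSpectrum (Cq (C := C) q)) :
    Function.Bijective (locHomL q r') := by
  haveI := q.isMaximal
  haveI := r'.isMaximal
  haveI : IsLocalization (Algebra.algebraMapSubmonoid C q.asIdeal.primeCompl) (Cq (C := C) q) :=
    IsLocalization.tensorRight (R := B) (S := C) (Localization.AtPrime q.asIdeal)
      q.asIdeal.primeCompl
  haveI : IsScalarTower C (Cq (C := C) q) (Localization.AtPrime r'.asIdeal) := inferInstance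
  haveI hloc : IsLocalization.AtPrime (Localization.AtPrime r'.asIdeal)
      (r'.asIdeal.comap (algebraMap C (Cq (C := C) q))) :=
    IsLocalization.isLocalization_isLocalization_atPrime_isLocalization
      (Algebra.algebraMapSubmonoid C q.asIdeal.primeCompl) (Localization.AtPrime r'.asIdeal)
      r'.asIdeal
  have hu : (underL q r').asIdeal = r'.asIdeal.comap (algebraMap C (Cq (C := C) q)) := rfl
  haveI hloc' : IsLocalization.AtPrime (Localization.AtPrime r'.asIdeal) (underL q r').asIdeal :=
    hloc
  let e : Localization.AtPrime (underL q r').asIdeal ≃ₐ[C] Localization.AtPrime r'.asIdeal :=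
    IsLocalization.algEquiv (underL q r').asIdeal.primeCompl _ _
  have he : locHomL q r' = (e : Localization.AtPrime (underL q r').asIdeal →+*
      Localization.AtPrime r'.asIdeal) := by
    apply IsLocalization.ringHom_ext (underL q r').asIdeal.primeCompl
    ext c
    simp only [RingHom.comp_apply]
    rw [locHomL_algebraMap]
    exact (e.commutes c).symm
  rw [he]
  exact e.bijective

attribute [local instance] Algebra.TensorProduct.rightAlgebra in
theorem underL_injective : Function.Injective (underL (C := C) q) := by
  haveI := q.isMaximal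
  haveI : IsLocalization (Algebra.algebraMapSubmonoid C q.asIdeal.primeCompl) (Cq (C := C) q) :=
    IsLocalization.tensorRight (R := B) (S := C) (Localization.AtPrime q.asIdeal)
      q.asIdeal.primeCompl
  intro r₁ r₂ h
  have h' : Ideal.under C r₁.asIdeal = Ideal.under C r₂.asIdeal :=
    congrArg MaximalSpectrum.asIdeal h
  apply MaximalSpectrum.ext
  rw [← IsLocalization.map_comap (Algebra.algebraMapSubmonoid C q.asIdeal.primeCompl)
    (Cq (C := C) q) r₁.asIdeal, h', IsLocalization.map_comap
    (Algebra.algebraMapSubmonoid C q.asIdeal.primeCompl) (Cq (C := C) q) r₂.asIdeal]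

attribute [local instance] Algebra.TensorProduct.rightAlgebra in
theorem exists_underL_eq (r : MaximalSpectrum C)
    (hr : r.asIdeal.comap (algebraMap B C) = q.asIdeal) : ∃ r', underL q r' = r := by
  haveI := q.isMaximal
  haveI := r.isMaximal
  haveI : IsLocalization (Algebra.algebraMapSubmonoid C q.asIdeal.primeCompl) (Cq (C := C) q) :=
    IsLocalization.tensorRight (R := B) (S := C) (Localization.AtPrime q.asIdeal)
      q.asIdeal.primeCompl
  have hdisj : Disjoint (Algebra.algebraMapSubmonoid C q.asIdeal.primeCompl : Set C)
      (r.asIdeal : Set C) := by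
    rw [Set.disjoint_left]
    rintro _ ⟨s, hs, rfl⟩ hmem
    apply hs
    rw [← hr]
    exact hmem
  have hprime : (r.asIdeal.map (algebraMap C (Cq (C := C) q))).IsPrime :=
    IsLocalization.isPrime_of_isPrime_disjoint _ _ _ inferInstance hdisj
  have hcomap : (r.asIdeal.map (algebraMap C (Cq (C := C) q))).comap
      (algebraMap C (Cq (C := C) q)) = r.asIdeal :=
    IsLocalization.comap_map_of_isPrime_disjoint _ _ inferInstance hdisj
  obtain ⟨M, hM, hle⟩ := Ideal.exists_le_maximal _ hprime.ne_top
  have h1 : r.asIdeal ≤ M.comap (algebraMap C (Cq (C := C) q)) := by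
    rw [← hcomap]
    exact Ideal.comap_mono hle
  have h2 : M.comap (algebraMap C (Cq (C := C) q)) ≠ ⊤ :=
    (Ideal.comap_isPrime _ M).ne_top
  have h3 : r.asIdeal = M.comap (algebraMap C (Cq (C := C) q)) :=
    r.isMaximal.eq_of_le h2 h1
  refine ⟨⟨M, hM⟩, ?_⟩
  apply MaximalSpectrum.ext
  exact h3.symm

end Setup

section Base

variable {A : Type u} [CommRing A]
variable {B C : Type u} [CommRing B] [CommRing C] [Algebra A B] [Algebra A C] [Algebra B C]
  [IsScalarTower A B C] [Module.Finite B C]
variable (q : MaximalSpectrum B)

theorem locHomL_algebraMap_base (r' : MaximalSpectrum (Cq (C := C) q)) (a : A) :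
    locHomL q r' (algebraMap A _ a) =
      algebraMap (Localization.AtPrime q.asIdeal) (Localization.AtPrime r'.asIdeal)
        (algebraMap A (Localization.AtPrime q.asIdeal) a) := by
  rw [IsScalarTower.algebraMap_apply A C (Localization.AtPrime (underL q r').asIdeal),
    locHomL_algebraMap, IsScalarTower.algebraMap_apply A B C,
    IsScalarTower.algebraMap_apply (Localization.AtPrime q.asIdeal) (Cq (C := C) q)
      (Localization.AtPrime r'.asIdeal),
    IsScalarTower.algebraMap_apply A B (Localization.AtPrime q.asIdeal)]
  congr 1
  exact congrArg (fun f => f (algebraMap A B a))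
    (inr_comp_algebraMap (A := B) (A' := Localization.AtPrime q.asIdeal) (B := C))

theorem isFinExt_loc [IsLocalRing A] (hinj : Function.Injective (algebraMap B C))
    (hn : ∃ n : ℕ, ∀ r ∈ maximalIdeal A ^ n, ∀ c : C, r • c ∈ (algebraMap B C).range)
    (hc : ∃ N : ℕ, maximalIdeal (Localization.AtPrime q.asIdeal) ^ N ≤
      (maximalIdeal A).map (algebraMap A (Localization.AtPrime q.asIdeal))) :
    IsFinExt (Localization.AtPrime q.asIdeal) (Cq (C := C) q)
      (maximalIdeal (Localization.AtPrime q.asIdeal)) := by
  obtain ⟨n₀, hn₀⟩ := hn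
  obtain ⟨c, hc⟩ := hc
  refine ⟨?_, inferInstance, c * n₀, ?_⟩
  · have := Algebra.TensorProduct.includeLeft_injective (R := B)
      (S := Localization.AtPrime q.asIdeal) (A := Localization.AtPrime q.asIdeal) (B := C) hinj
    intro x y hxy
    apply this
    simpa [Algebra.TensorProduct.algebraMap_apply] using hxy
  · let T : Ideal (Localization.AtPrime q.asIdeal) :=
      { carrier := {r | ∀ b' : Cq (C := C) q, r • b' ∈
          (algebraMap (Localization.AtPrime q.asIdeal) (Cq (C := C) q)).range}
        add_mem' := by
          intro r r' hr hr' b'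
          rw [add_smul]
          exact add_mem (hr b') (hr' b')
        zero_mem' := by
          intro b'
          rw [zero_smul]
          exact zero_mem _
        smul_mem' := by
          intro a' r hr b'
          obtain ⟨x, hx⟩ := hr b'
          refine ⟨a' * x, ?_⟩
          rw [map_mul, hx, smul_eq_mul, mul_smul]
          exact (Algebra.smul_def a' (r • b')).symm }
    have hT : (maximalIdeal A ^ n₀).map (algebraMap A (Localization.AtPrime q.asIdeal)) ≤ T := by
      rw [Ideal.map_le_iff_le_comap]
      intro x hx b'
      induction b' using TensorProduct.induction_on with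
      | zero =>
        rw [smul_zero]
        exact zero_mem _
      | tmul s c₀ =>
        obtain ⟨y, hy⟩ := hn₀ x hx c₀
        refine ⟨y • s, ?_⟩
        rw [Algebra.TensorProduct.algebraMap_apply, Algebra.algebraMap_self, RingHom.id_apply,
          TensorProduct.smul_tmul', smul_eq_mul, ← Algebra.smul_def, TensorProduct.smul_tmul,
          TensorProduct.smul_tmul x s c₀, ← hy, Algebra.algebraMap_eq_smul_one]
      | add w₁ w₂ h₁ h₂ =>
        rw [smul_add]
        exact add_mem h₁ h₂
    intro r hr b'
    have h1 : r ∈ (maximalIdeal A ^ n₀).map (algebraMap A (Localization.AtPrime q.asIdeal)) := by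
      rw [Ideal.map_pow]
      rw [pow_mul] at hr
      exact Ideal.pow_right_mono hc n₀ hr
    exact hT h1 b'

end Base

section Data

variable {A : Type u} [CommRing A] [IsLocalRing A]
variable {B C : Type u} [CommRing B] [CommRing C] [Algebra A B] [Algebra A C] [Algebra B C]
  [IsScalarTower A B C] [Module.Finite B C]
variable {a₁ a₂ : A}

variable (A C) in
/-- The hypotheses needed to localize tame data on `C ⊇ B` at a maximal ideal of `B`. -/
structure LocHyp (q : MaximalSpectrum B) : Prop where
  inj : Function.Injective (algebraMap B C)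
  coker : ∃ n : ℕ, ∀ r ∈ maximalIdeal A ^ n, ∀ c : C, r • c ∈ (algebraMap B C).range
  pow : ∃ N : ℕ, maximalIdeal (Localization.AtPrime q.asIdeal) ^ N ≤
      (maximalIdeal A).map (algebraMap A (Localization.AtPrime q.asIdeal))

/-- Tame data from a family of presentations. -/
@[reducible] noncomputable def ofPres (hC : IsFinExt A C (maximalIdeal A))
    (hloc : ∀ r : MaximalSpectrum C, IsLocalHom (algebraMap A (Localization.AtPrime r.asIdeal)))
    (P : ∀ r : MaximalSpectrum C, Pres (Localization.AtPrime r.asIdeal)
      (algebraMap A _ a₁) (algebraMap A _ a₂)) : TameData A a₁ a₂ :=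
  { B := C
    isFinExt := hC
    isLocalHom := hloc
    π := fun r => (P r).π
    π_mem := fun r => (P r).π_mem
    u₁ := fun r => (P r).u₁
    u₂ := fun r => (P r).u₂
    e₁ := fun r => (P r).e₁
    e₂ := fun r => (P r).e₂
    fac₁ := fun r => (P r).fac₁
    fac₂ := fun r => (P r).fac₂ }

variable (P : ∀ r : MaximalSpectrum C, Pres (Localization.AtPrime r.asIdeal)
      (algebraMap A _ a₁) (algebraMap A _ a₂))
variable (q : MaximalSpectrum B)

/-- The localization of tame data at a maximal ideal of an intermediate ring. -/
@[reducible] noncomputable def locData (h : LocHyp A C q) :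
    TameData (Localization.AtPrime q.asIdeal) (algebraMap A _ a₁) (algebraMap A _ a₂) :=
  { B := Cq (C := C) q
    isFinExt := isFinExt_loc q h.inj h.coker h.pow
    isLocalHom := fun r' =>
      isLocalHom_atPrime_of_integral (Localization.AtPrime q.asIdeal) (Cq (C := C) q) r'
    π := fun r' => locHomL q r' (P (underL q r')).π
    π_mem := fun r' => map_mem_nonZeroDivisors_of_flat _ (locHomL_flat q r') (P _).π_mem
    u₁ := fun r' => Units.map (locHomL q r' : _ →* _) (P (underL q r')).u₁
    u₂ := fun r' => Units.map (locHomL q r' : _ →* _) (P (underL q r')).u₂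
    e₁ := fun r' => (P (underL q r')).e₁
    e₂ := fun r' => (P (underL q r')).e₂
    fac₁ := fun r' => (locHomL_algebraMap_base q r' a₁).symm.trans
      ((congrArg (locHomL q r') (P (underL q r')).fac₁).trans (by rw [map_mul, map_pow]; rfl))
    fac₂ := fun r' => (locHomL_algebraMap_base q r' a₂).symm.trans
      ((congrArg (locHomL q r') (P (underL q r')).fac₂).trans (by rw [map_mul, map_pow]; rfl)) }

theorem base_loc (h : LocHyp A C q) (r' : MaximalSpectrum (Cq (C := C) q)) :
    (presOf (locData P q h) r').base =
      ResidueField.map (locHomL q r') (P (underL q r')).base := by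
  show (-1 : ResidueField (Localization.AtPrime r'.asIdeal)) ^
      ((P (underL q r')).e₁ * (P (underL q r')).e₂) *
      residue _ (locHomL q r' ((P (underL q r')).u₁ :
        Localization.AtPrime (underL q r').asIdeal)) ^ (P (underL q r')).e₂ *
      (residue _ (locHomL q r' ((P (underL q r')).u₂ :
        Localization.AtPrime (underL q r').asIdeal)) ^ (P (underL q r')).e₁)⁻¹ = _
  unfold Pres.base
  rw [map_mul, map_mul, map_pow, map_pow, map_inv₀, map_pow, map_neg, map_one,
    ResidueField.map_residue, ResidueField.map_residue]

theorem ord_loc (h : LocHyp A C q) (r' : MaximalSpectrum (Cq (C := C) q)) :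
    Ring.ord (Localization.AtPrime r'.asIdeal) ((locData P q h).π r') =
      Ring.ord (Localization.AtPrime (underL q r').asIdeal) (P (underL q r')).π := by
  let e : Localization.AtPrime (underL q r').asIdeal ≃+* Localization.AtPrime r'.asIdeal :=
    RingEquiv.ofBijective (locHomL q r') (locHomL_bijective q r')
  show Ring.ord _ (locHomL q r' (P (underL q r')).π) = _
  have h1 := CycDiv.ord_eq_of_ringEquiv (R := Localization.AtPrime (underL q r').asIdeal)
    (R' := Localization.AtPrime r'.asIdeal) e (P (underL q r')).π
  rw [h1]
  rfl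

theorem theta_loc (h : LocHyp A C q) (r' : MaximalSpectrum (Cq (C := C) q)) :
    (presOf (locData P q h) r').theta =
      ResidueField.map (locHomL q r') (P (underL q r')).theta := by
  unfold Pres.theta
  rw [base_loc P q h r', map_pow]
  congr 2
  exact ord_loc P q h r'

end Data

end Groth.Agent.Lib.Helper18.Tame.Loc
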