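import Mathlib
import Groth.Prelude.Def_Tame
import Groth.Agent.Lib.Helper18.Tame.LocData
import Groth.Agent.Lib.Helper18.Tame.Common

/-!
# The norm of the tame symbol of a localized intermediate ring
-/

set_option autoImplicit false
universe u
open IsLocalRing TensorProduct

namespace Groth.Agent.Lib.Helper18.Tame.Loc

open CycAlg Groth.Agent.Lib.Helper18.Tame.BC

section Norm

variable {A : Type u} [CommRing A] [IsLocalRing A]
variable {B C : Type u} [CommRing B] [CommRing C] [Algebra A B] [Algebra A C] [Algebra B C]
  [IsScalarTower A B C] [Module.Finite B C]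
variable (q : MaximalSpectrum B)

theorem norm_norm_loc [hq : IsLocalHom (algebraMap A (Localization.AtPrime q.asIdeal))]
    (r' : MaximalSpectrum (Cq (C := C) q))
    [hr : IsLocalHom (algebraMap A (Localization.AtPrime (underL q r').asIdeal))]
    [hr' : IsLocalHom (algebraMap (Localization.AtPrime q.asIdeal)
      (Localization.AtPrime r'.asIdeal))]
    (y : ResidueField (Localization.AtPrime (underL q r').asIdeal)) :
    Algebra.norm (ResidueField A)
      (Algebra.norm (ResidueField (Localization.AtPrime q.asIdeal))
        (ResidueField.map (locHomL q r') y :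
          ResidueField (Localization.AtPrime r'.asIdeal))) = Algebra.norm (ResidueField A) y := by
  letI : Algebra (ResidueField A) (ResidueField (Localization.AtPrime r'.asIdeal)) :=
    ((algebraMap (ResidueField (Localization.AtPrime q.asIdeal))
      (ResidueField (Localization.AtPrime r'.asIdeal))).comp
      (algebraMap (ResidueField A) (ResidueField (Localization.AtPrime q.asIdeal)))).toAlgebra
  haveI : IsScalarTower (ResidueField A) (ResidueField (Localization.AtPrime q.asIdeal))
      (ResidueField (Localization.AtPrime r'.asIdeal)) :=
    IsScalarTower.of_algebraMap_eq (fun _ => rfl)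
  rw [Algebra.norm_norm]
  let e₀ : Localization.AtPrime (underL q r').asIdeal ≃+* Localization.AtPrime r'.asIdeal :=
    RingEquiv.ofBijective (locHomL q r') (locHomL_bijective q r')
  let e : ResidueField (Localization.AtPrime (underL q r').asIdeal) ≃+*
      ResidueField (Localization.AtPrime r'.asIdeal) := ResidueField.mapEquiv e₀
  have he : RingHom.comp (algebraMap (ResidueField A)
      (ResidueField (Localization.AtPrime r'.asIdeal)))
      ((RingEquiv.refl (ResidueField A) : ResidueField A ≃+* ResidueField A) :
        ResidueField A →+* ResidueField A) =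
      RingHom.comp (e : ResidueField (Localization.AtPrime (underL q r').asIdeal) →+*
        ResidueField (Localization.AtPrime r'.asIdeal))
        (algebraMap (ResidueField A)
          (ResidueField (Localization.AtPrime (underL q r').asIdeal))) := by
    apply RingHom.ext
    intro z
    obtain ⟨a, rfl⟩ := residue_surjective z
    show ResidueField.map (algebraMap (Localization.AtPrime q.asIdeal)
        (Localization.AtPrime r'.asIdeal))
        (ResidueField.map (algebraMap A (Localization.AtPrime q.asIdeal)) (residue A a)) =
      (ResidueField.map (locHomL q r')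
        (ResidueField.map (algebraMap A (Localization.AtPrime (underL q r').asIdeal))
          (residue A a)) : ResidueField (Localization.AtPrime r'.asIdeal))
    rw [ResidueField.map_residue, ResidueField.map_residue, ResidueField.map_residue,
      ResidueField.map_residue, locHomL_algebraMap_base]
  have h := Algebra.norm_eq_of_equiv_equiv (RingEquiv.refl (ResidueField A)) e he y
  rw [h]
  rfl

end Norm

section Local

variable {A : Type u} [CommRing A] [IsLocalRing A] [IsNoetherianRing A]
variable {B C : Type u} [CommRing B] [CommRing C] [Algebra A B] [Algebra A C] [Algebra B C]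
  [IsScalarTower A B C] [Module.Finite B C] [Module.Finite A B]
variable {a₁ a₂ : A}
variable [hlocC : ∀ r : MaximalSpectrum C, IsLocalHom (algebraMap A (Localization.AtPrime r.asIdeal))]
variable (P : ∀ r : MaximalSpectrum C, Pres (Localization.AtPrime r.asIdeal)
      (algebraMap A _ a₁) (algebraMap A _ a₂))

theorem norm_tameSymbol_loc (hA : ringKrullDim A ≤ 1) (q : MaximalSpectrum B)
    [hq : IsLocalHom (algebraMap A (Localization.AtPrime q.asIdeal))] (h : LocHyp A C q)
    (h₁ : algebraMap A (Localization.AtPrime q.asIdeal) a₁ ∈
      nonZeroDivisors (Localization.AtPrime q.asIdeal))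
    (h₂ : algebraMap A (Localization.AtPrime q.asIdeal) a₂ ∈
      nonZeroDivisors (Localization.AtPrime q.asIdeal))
    [Fintype (MaximalSpectrum (Cq (C := C) q))] :
    Algebra.norm (ResidueField A) (tameSymbol (Localization.AtPrime q.asIdeal)
      (algebraMap A _ a₁) (algebraMap A _ a₂)) =
      ∏ r' : MaximalSpectrum (Cq (C := C) q),
        Algebra.norm (ResidueField A) (P (underL q r')).theta := by
  haveI : IsNoetherianRing B := IsNoetherianRing.of_finite A B
  haveI : IsNoetherianRing (Localization.AtPrime q.asIdeal) :=
    IsLocalization.isNoetherianRing q.asIdeal.primeCompl _ inferInstance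
  haveI := (locData P q h).isLocalHom
  rw [tameSymbol_eq_value (krullDimLE_one_atPrime hA q.asIdeal) h₁ h₂ (locData P q h),
    value_eq_prod (locData P q h), map_prod]
  refine Finset.prod_congr rfl fun r' _ => ?_
  rw [theta_loc P q h r']
  exact norm_norm_loc q r' _

end Local

section Regroup

variable {B C : Type u} [CommRing B] [CommRing C] [Algebra B C] [Module.Finite B C]

theorem prod_regroup {M : Type*} [CommMonoid M] (G : MaximalSpectrum C → M)
    [Fintype (MaximalSpectrum B)] [Fintype (MaximalSpectrum C)]
    [∀ q : MaximalSpectrum B, Fintype (MaximalSpectrum (Cq (C := C) q))] :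
    ∏ q : MaximalSpectrum B, ∏ r' : MaximalSpectrum (Cq (C := C) q), G (underL q r') =
      ∏ r : MaximalSpectrum C, G r := by
  classical
  have hint : (algebraMap B C).IsIntegral := algebraMap_isIntegral_iff.2 inferInstance
  let below : MaximalSpectrum C → MaximalSpectrum B := fun r =>
    ⟨r.asIdeal.comap (algebraMap B C), by
      haveI := r.isMaximal
      exact Ideal.isMaximal_comap_of_isIntegral_of_isMaximal' _ hint _⟩
  rw [← Finset.prod_fiberwise Finset.univ below]
  refine Finset.prod_congr rfl fun q _ => ?_
  rw [← Finset.prod_image (s := Finset.univ) (g := underL (C := C) q) (f := G)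
    ((underL_injective q).injOn)]
  refine Finset.prod_congr ?_ (fun _ _ => rfl)
  ext r
  simp only [Finset.mem_image, Finset.mem_univ, true_and, Finset.mem_filter]
  constructor
  · rintro ⟨r', rfl⟩
    apply MaximalSpectrum.ext
    exact underL_comap q r'
  · intro hr
    exact exists_underL_eq q r (congrArg MaximalSpectrum.asIdeal hr)

end Regroup

end Groth.Agent.Lib.Helper18.Tame.Loc
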