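import Mathlib
import Groth.Prelude.Def_Tame
import Groth.Agent.Lib.Helper18.Tame.LocMain
import Groth.Agent.Lib.Helper18.Tame.BCMain

/-!
# The tame symbol as a product of norms of tame symbols of a finite extension
-/

set_option autoImplicit false
universe u
open IsLocalRing TensorProduct

namespace Groth.Agent.Lib.Helper18.Tame.Loc

open CycAlg Groth.Agent.Lib.Helper18.Tame.BC

section Nzd

variable {A : Type u} [CommRing A] [IsLocalRing A] {B : Type u} [CommRing B] [Algebra A B]

/-- If the maximal ideal is not associated to a finite extension with torsion cokernel, then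
nonzerodivisors of the base stay nonzerodivisors. -/
theorem algebraMap_mem_nonZeroDivisors_of_not_ass (hB : IsFinExt A B (maximalIdeal A))
    (hass : maximalIdeal A ∉ associatedPrimes A B) {y : A} (hy : y ∈ nonZeroDivisors A) :
    algebraMap A B y ∈ nonZeroDivisors B := by
  obtain ⟨hinj, -, n, hn⟩ := hB
  have key : ∀ β : B, algebraMap A B y * β = 0 → β = 0 := by
    intro β hβ
    by_contra hne
    apply hass
    have h1 : maximalIdeal A ^ n ≤ Submodule.colon (⊥ : Submodule A B) {β} := by
      intro r hr
      rw [Submodule.mem_colon_singleton, Submodule.mem_bot]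
      obtain ⟨z, hz⟩ := hn r hr β
      have h0 : algebraMap A B (y * z) = 0 := by
        rw [map_mul, hz, Algebra.smul_def, ← mul_assoc, mul_comm (algebraMap A B y), mul_assoc,
          hβ, mul_zero]
      have hyz : y * z = 0 := hinj (by rw [h0, map_zero])
      have hz0 : z = 0 := (mem_nonZeroDivisors_iff.1 hy).1 z hyz
      rw [← hz, hz0, map_zero]
    have h2 : Submodule.colon (⊥ : Submodule A B) {β} ≠ ⊤ := by
      intro htop
      have h1' : (1 : A) ∈ Submodule.colon (⊥ : Submodule A B) {β} := by
        rw [htop]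
        trivial
      rw [Submodule.mem_colon_singleton, one_smul, Submodule.mem_bot] at h1'
      exact hne h1'
    have h3 : maximalIdeal A ≤ (Submodule.colon (⊥ : Submodule A B) {β}).radical := by
      intro r hr
      exact ⟨n, h1 (Ideal.pow_mem_pow hr n)⟩
    have h4 : (Submodule.colon (⊥ : Submodule A B) {β}).radical ≠ ⊤ := by
      rwa [Ne, Ideal.radical_eq_top]
    exact ⟨(maximalIdeal.isMaximal A).isPrime, β, (maximalIdeal.isMaximal A).eq_of_le h4 h3⟩
  rw [mem_nonZeroDivisors_iff]
  exact ⟨key, fun b hb => key b (by rwa [mul_comm] at hb)⟩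

end Nzd

section Assemble

variable {A : Type u} [CommRing A] [IsLocalRing A] [IsNoetherianRing A]
variable {B C : Type u} [CommRing B] [CommRing C] [Algebra A B] [Algebra A C] [Algebra B C]
  [IsScalarTower A B C] [Module.Finite B C] [Module.Finite A B]
variable {a₁ a₂ : A}

theorem tameSymbol_eq_finprod_of_pres (hA : ringKrullDim A ≤ 1)
    (hC : IsFinExt A C (maximalIdeal A)) (hinj : Function.Injective (algebraMap B C))
    [hlocB : ∀ q : MaximalSpectrum B, IsLocalHom (algebraMap A (Localization.AtPrime q.asIdeal))]
    (h₁ : a₁ ∈ nonZeroDivisors A) (h₂ : a₂ ∈ nonZeroDivisors A)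
    (hx : a₁ * a₂ ∈ maximalIdeal A)
    (hB₁ : algebraMap A B a₁ ∈ nonZeroDivisors B) (hB₂ : algebraMap A B a₂ ∈ nonZeroDivisors B)
    (hlocC : ∀ r : MaximalSpectrum C, IsLocalHom (algebraMap A (Localization.AtPrime r.asIdeal)))
    (P : ∀ r : MaximalSpectrum C, Pres (Localization.AtPrime r.asIdeal)
      (algebraMap A _ a₁) (algebraMap A _ a₂)) :
    tameSymbol A a₁ a₂ = ∏ᶠ q : MaximalSpectrum B, Algebra.norm (ResidueField A)
      (tameSymbol (Localization.AtPrime q.asIdeal) (algebraMap A _ a₁) (algebraMap A _ a₂)) := by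
  classical
  haveI : Module.Finite A C := hC.2.1
  haveI : Finite (MaximalSpectrum B) := finite_maximalSpectrum_of_finite A B
  haveI : Finite (MaximalSpectrum C) := finite_maximalSpectrum_of_finite A C
  haveI : ∀ q : MaximalSpectrum B, Finite (MaximalSpectrum (Cq (C := C) q)) := fun q =>
    finite_maximalSpectrum_of_finite (Localization.AtPrime q.asIdeal) (Cq (C := C) q)
  haveI : Fintype (MaximalSpectrum B) := Fintype.ofFinite _
  haveI : Fintype (MaximalSpectrum C) := Fintype.ofFinite _
  haveI : ∀ q : MaximalSpectrum B, Fintype (MaximalSpectrum (Cq (C := C) q)) := fun q =>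
    Fintype.ofFinite _
  haveI := hlocC
  -- nonzerodivisors in the localizations
  have hq₁ : ∀ q : MaximalSpectrum B, algebraMap A (Localization.AtPrime q.asIdeal) a₁ ∈
      nonZeroDivisors (Localization.AtPrime q.asIdeal) := by
    intro q
    rw [IsScalarTower.algebraMap_apply A B (Localization.AtPrime q.asIdeal)]
    exact IsLocalization.map_nonZeroDivisors_le q.asIdeal.primeCompl _
      (Submonoid.mem_map_of_mem _ hB₁)
  have hq₂ : ∀ q : MaximalSpectrum B, algebraMap A (Localization.AtPrime q.asIdeal) a₂ ∈
      nonZeroDivisors (Localization.AtPrime q.asIdeal) := by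
    intro q
    rw [IsScalarTower.algebraMap_apply A B (Localization.AtPrime q.asIdeal)]
    exact IsLocalization.map_nonZeroDivisors_le q.asIdeal.primeCompl _
      (Submonoid.mem_map_of_mem _ hB₂)
  -- the localization hypotheses
  have hyp : ∀ q : MaximalSpectrum B, LocHyp A C q := by
    intro q
    refine ⟨hinj, ?_, ?_⟩
    · obtain ⟨n, hn⟩ := hC.2.2
      refine ⟨n, fun r hr c => ?_⟩
      obtain ⟨y, hy⟩ := hn r hr c
      exact ⟨algebraMap A B y, by rw [← IsScalarTower.algebraMap_apply]; exact hy⟩
    · obtain ⟨k, hk⟩ := exists_pow_le_span_atPrime hA q.asIdeal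
        (algebraMap A (Localization.AtPrime q.asIdeal) (a₁ * a₂))
        (by rw [map_mul]; exact mul_mem (hq₁ q) (hq₂ q))
      refine ⟨k, hk.trans ?_⟩
      rw [Ideal.span_singleton_le_iff_mem]
      exact Ideal.mem_map_of_mem _ hx
  -- the left hand side
  have hL : tameSymbol A a₁ a₂ = ∏ r : MaximalSpectrum C,
      Algebra.norm (ResidueField A) (P r).theta := by
    rw [tameSymbol_eq_value hA h₁ h₂ (ofPres hC hlocC P), value_eq_prod (ofPres hC hlocC P)]
    rfl
  rw [hL, finprod_eq_prod_of_fintype,
    ← prod_regroup (B := B) (fun r => Algebra.norm (ResidueField A) (P r).theta)]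
  refine Finset.prod_congr rfl fun q _ => ?_
  exact (norm_tameSymbol_loc P hA q (hyp q) (hq₁ q) (hq₂ q)).symm

end Assemble

section Main

/-- **The tame symbol of `A` is the product of the norms of the tame symbols of the local rings
of a finite extension.** -/
theorem main1849 (A : Type u) [CommRing A] [IsNoetherianRing A] [IsLocalRing A]
    (hA : ringKrullDim A = 1) (B : Type u) [CommRing B] [Algebra A B]
    (hB : IsFinExt A B (maximalIdeal A)) (hass : maximalIdeal A ∉ associatedPrimes A B)
    [hloc : ∀ q : MaximalSpectrum B, IsLocalHom (algebraMap A (Localization.AtPrime q.asIdeal))]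
    (a b : A) (ha : a ∈ nonZeroDivisors A) (hb : b ∈ nonZeroDivisors A) :
    tameSymbol A a b = ∏ᶠ q : MaximalSpectrum B, Algebra.norm (ResidueField A)
      (tameSymbol (Localization.AtPrime q.asIdeal)
        (algebraMap A (Localization.AtPrime q.asIdeal) a)
        (algebraMap A (Localization.AtPrime q.asIdeal) b)) := by
  classical
  haveI : Module.Finite A B := hB.2.1
  have hA' : ringKrullDim A ≤ 1 := hA.le
  by_cases hu : IsUnit a ∧ IsUnit b
  · rw [tameSymbol_eq_one_of_units hu.1 hu.2]
    symm
    apply finprod_eq_one_of_forall_eq_one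
    intro q
    rw [tameSymbol_eq_one_of_units (hu.1.map _) (hu.2.map _), map_one]
  · have hx : a * b ∈ maximalIdeal A := by
      rw [mem_maximalIdeal, mem_nonunits_iff]
      intro hab
      exact hu ⟨isUnit_of_mul_isUnit_left hab, isUnit_of_mul_isUnit_right hab⟩
    let Q := FractionRing A
    obtain ⟨ι, hι⟩ := exists_embedding (Q := Q) hB (a * b) hx (mul_mem ha hb)
      (algebraMap_mem_nonZeroDivisors_of_not_ass hB hass (mul_mem ha hb))
    haveI : Module.Finite A ι.range :=
      Module.Finite.of_surjective ι.rangeRestrict.toLinearMap ι.rangeRestrict_surjective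
    let T' : Finset Q := {algebraMap A Q a, algebraMap A Q b}
    have hT' : ∀ x ∈ T', x ∈ ι.range ∧ IsUnit x := by
      intro x hx'
      rcases Finset.mem_insert.1 hx' with h | h
      · rw [h]
        exact ⟨Subalgebra.algebraMap_mem _ _, IsLocalization.map_units Q ⟨a, ha⟩⟩
      · rw [Finset.mem_singleton.1 h]
        exact ⟨Subalgebra.algebraMap_mem _ _, IsLocalization.map_units Q ⟨b, hb⟩⟩
    obtain ⟨C', hCC', hfin, hlocm⟩ := exists_finSub_local_monomial hA' ι.range T' hT'
    haveI := hfin
    choose π hπ hfac using hlocm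
    have hP : ∀ r : MaximalSpectrum C', Nonempty (Pres (Localization.AtPrime r.asIdeal)
        (algebraMap A _ a) (algebraMap A _ b)) := by
      intro r
      obtain ⟨v₁, e₁, h1⟩ := hfac r (algebraMap A Q a) (Finset.mem_insert_self _ _)
      obtain ⟨v₂, e₂, h2⟩ := hfac r (algebraMap A Q b)
        (Finset.mem_insert_of_mem (Finset.mem_singleton_self _))
      refine ⟨{ π := π r, π_mem := hπ r, u₁ := v₁, u₂ := v₂, e₁ := e₁, e₂ := e₂,
                fac₁ := ?_, fac₂ := ?_ }⟩
      · rw [← h1, IsScalarTower.algebraMap_apply A C' (Localization.AtPrime r.asIdeal)]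
        rfl
      · rw [← h2, IsScalarTower.algebraMap_apply A C' (Localization.AtPrime r.asIdeal)]
        rfl
    let β : B →ₐ[A] C' := (Subalgebra.inclusion hCC').comp ι.rangeRestrict
    letI algBC : Algebra B C' := β.toRingHom.toAlgebra
    haveI : IsScalarTower A B C' := IsScalarTower.of_algebraMap_eq (fun r => (β.commutes r).symm)
    haveI : Module.Finite B C' := Module.Finite.of_restrictScalars_finite A B C'
    have hinj : Function.Injective (algebraMap B C') := by
      intro x y hxy
      apply hι
      have := congrArg (fun z : C' => (z : Q)) hxy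
      exact this
    exact tameSymbol_eq_finprod_of_pres hA' (isFinExt hA' C') hinj ha hb hx
      (algebraMap_mem_nonZeroDivisors_of_not_ass hB hass ha)
      (algebraMap_mem_nonZeroDivisors_of_not_ass hB hass hb)
      (isLocalHom_atPrime_of_integral A C') (fun r => (hP r).some)

end Main

end Groth.Agent.Lib.Helper18.Tame.Loc
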